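import Cfsg.Agent.Lib.CharCore.Basic
import Mathlib.GroupTheory.Abelianization.Defs
import Mathlib.GroupTheory.FiniteAbelian.Duality
import Mathlib.RingTheory.RootsOfUnity.AlgebraicallyClosed

/-!
# Linear characters and kernels

Library `CharCore`, part 6.
-/

set_option autoImplicit false
set_option linter.unusedSectionVars false

open Module
open scoped ComplexConjugate

namespace Cfsg.Agent.CharCore

universe u

variable {G : Type u} [Group G]

/-- The one-dimensional representation of a linear character. -/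
noncomputable def linRep (f : G →* ℂˣ) : Representation ℂ G ℂ where
  toFun g := (f g : ℂ) • (1 : Module.End ℂ ℂ)
  map_one' := by simp
  map_mul' g h := by simp [smul_smul, mul_comm]

theorem linRep_character (f : G →* ℂˣ) : (linRep f).character = fun g => (f g : ℂ) := by
  funext g
  simp [linRep, Representation.character, LinearMap.trace_one]

theorem isIrrCharacter_hom (f : G →* ℂˣ) : Cfsg.IsIrrCharacter G (fun g => (f g : ℂ)) := by
  rw [← linRep_character]
  have : (linRep f).IsIrreducible :=
    { exists_pair_ne := ⟨⊥, ⊤, fun h => by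
        exact (bot_ne_top : (⊥ : Submodule ℂ ℂ) ≠ ⊤) (congrArg Subrepresentation.toSubmodule h :)⟩
      eq_bot_or_eq_top := fun S => by
        rcases eq_bot_or_eq_top S.toSubmodule with h | h
        · exact Or.inl (Subrepresentation.toSubmodule_injective h)
        · exact Or.inr (Subrepresentation.toSubmodule_injective h) }
  exact isIrrCharacter_character _

/-- A character of degree one is a homomorphism. -/
theorem IsCharacter.exists_hom_of_degree_one {χ : G → ℂ} (hχ : Cfsg.IsCharacter G χ)
    (h1 : χ 1 = 1) : ∃ f : G →* ℂˣ, χ = fun g => (f g : ℂ) := by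
  obtain ⟨n, ρ, rfl⟩ := hχ
  have hn : n = 1 := by simpa using h1
  subst hn
  have hd : ∀ g, ρ g = ρ.character g • (1 : Module.End ℂ (Fin 1 → ℂ)) := fun g => by
    refine LinearMap.ext fun v => ?_
    have hv : ∀ w : Fin 1 → ℂ, w = w 0 • Pi.single 0 1 := fun w => by
      funext i; fin_cases i; simp
    have ht : ρ.character g = ρ g (Pi.single 0 1) 0 := by
      rw [Representation.character, LinearMap.trace_eq_matrix_trace ℂ (Pi.basisFun ℂ (Fin 1))]
      simp [Matrix.trace, LinearMap.toMatrix_apply]
    calc ρ g v = v 0 • ρ g (Pi.single 0 1) := by rw [← map_smul, ← hv v]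
      _ = v 0 • (ρ.character g • Pi.single 0 1) := by rw [ht, ← hv (ρ g (Pi.single 0 1))]
      _ = (ρ.character g • (1 : Module.End ℂ (Fin 1 → ℂ))) v := by
          rw [smul_comm, ← hv v]; rfl
  let f : G →* ℂ :=
    { toFun := ρ.character
      map_one' := h1
      map_mul' := fun g h => by
        have e := hd (g * h)
        rw [map_mul, hd g, hd h, smul_mul_smul_comm, mul_one] at e
        exact (smul_left_injective ℂ (one_ne_zero (α := Module.End ℂ (Fin 1 → ℂ))) e).symm }
  exact ⟨f.toHomUnits, funext fun g => rfl⟩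

/-- The irreducible characters of degree one are the homomorphisms to `ℂˣ`. -/
noncomputable def linearEquivHom :
    (G →* ℂˣ) ≃ {χ : Cfsg.IrrCharacter G // (χ : G → ℂ) 1 = 1} :=
  Equiv.ofBijective (fun f => ⟨⟨_, isIrrCharacter_hom f⟩, by simp⟩)
    ⟨fun f f' h => MonoidHom.ext fun g => Units.ext (congrFun (congrArg (fun x => x.1.1) h) g),
     fun χ => by
      obtain ⟨f, hf⟩ := IsCharacter.exists_hom_of_degree_one (irr_isCharacter χ.1) χ.2
      exact ⟨f, Subtype.ext (Subtype.ext hf.symm)⟩⟩

theorem card_linearCharacters [Finite G] :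
    Nat.card {χ : Cfsg.IrrCharacter G // (χ : G → ℂ) 1 = 1} = (commutator G).index := by
  rw [← Nat.card_congr linearEquivHom, Nat.card_congr (Abelianization.lift (G := G) (A := ℂˣ))]
  have : Finite (Abelianization G) :=
    Finite.of_surjective _ (QuotientGroup.mk_surjective (s := commutator G))
  have : NeZero ((Monoid.exponent (Abelianization G) : ℕ) : ℂ) :=
    ⟨by exact_mod_cast Monoid.exponent_ne_zero_of_finite⟩
  rw [CommGroup.card_monoidHom_of_hasEnoughRootsOfUnity (Abelianization G) ℂ]
  rfl

theorem norm_hom_apply [Finite G] (f : G →* ℂˣ) (g : G) : ‖(f g : ℂ)‖ = 1 :=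
  Complex.norm_eq_one_of_pow_eq_one
    (by rw [← Units.val_pow_eq_pow_val, ← map_pow, pow_orderOf_eq_one, map_one, Units.val_one])
    (orderOf_pos g).ne'

/-- Twisting by a linear character preserves irreducibility. -/
theorem isIrrCharacter_hom_mul [Finite G] (f : G →* ℂˣ) {χ : G → ℂ}
    (hχ : Cfsg.IsIrrCharacter G χ) : Cfsg.IsIrrCharacter G (fun g => (f g : ℂ) * χ g) := by
  have := Fintype.ofFinite G
  rw [isIrrCharacter_iff] at hχ ⊢
  refine ⟨isCharacter_mul (IsIrrCharacter.isCharacter (isIrrCharacter_hom f)) hχ.1, ?_⟩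
  rw [← hχ.2]
  simp only [Cfsg.classInner]
  congr 1
  refine Finset.sum_congr rfl fun g _ => ?_
  have h := Complex.mul_conj (f g : ℂ)
  rw [Complex.normSq_eq_norm_sq, norm_hom_apply] at h
  calc (f g : ℂ) * χ g * conj ((f g : ℂ) * χ g)
      = ((f g : ℂ) * conj (f g : ℂ)) * (χ g * conj (χ g)) := by rw [map_mul]; ring
    _ = χ g * conj (χ g) := by rw [h]; simp

/-! ### Kernels -/

variable [Finite G]

/-- The kernel of the representation affording a character, as a subgroup. -/
theorem IsCharacter.exists_kernel {χ : G → ℂ} (hχ : Cfsg.IsCharacter G χ) :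
    ∃ (n : ℕ) (ρ : Representation ℂ G (Fin n → ℂ)), ρ.character = χ ∧
      ∀ g, χ g = χ 1 ↔ g ∈ MonoidHom.ker ρ := by
  obtain ⟨n, ρ, rfl⟩ := hχ
  refine ⟨n, ρ, rfl, fun g => ?_⟩
  rw [Representation.char_one, MonoidHom.mem_ker]
  exact character_eq_finrank_iff ρ g

/-- The kernel of a character. -/
def charKernel {χ : G → ℂ} (hχ : Cfsg.IsCharacter G χ) : Subgroup G where
  carrier := {g | χ g = χ 1}
  one_mem' := rfl
  mul_mem' := by
    obtain ⟨n, ρ, -, h⟩ := IsCharacter.exists_kernel hχ
    intro a b ha hb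
    exact (h _).mpr (mul_mem ((h a).mp ha) ((h b).mp hb))
  inv_mem' := by
    obtain ⟨n, ρ, -, h⟩ := IsCharacter.exists_kernel hχ
    intro a ha
    exact (h _).mpr (inv_mem ((h a).mp ha))

theorem mem_charKernel {χ : G → ℂ} (hχ : Cfsg.IsCharacter G χ) (g : G) :
    g ∈ charKernel hχ ↔ χ g = χ 1 := Iff.rfl

instance charKernel_normal {χ : G → ℂ} (hχ : Cfsg.IsCharacter G χ) :
    (charKernel hχ).Normal :=
  ⟨fun g hg h => (IsCharacter.isClassFunction hχ g h).trans hg⟩

/-- A character is constant on cosets of subgroups in its kernel. -/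
theorem IsCharacter.apply_mul_of_mem_kernel {χ : G → ℂ} (hχ : Cfsg.IsCharacter G χ) {k : G}
    (hk : χ k = χ 1) (g : G) : χ (g * k) = χ g := by
  obtain ⟨n, ρ, rfl, h⟩ := IsCharacter.exists_kernel hχ
  simp [Representation.character, MonoidHom.mem_ker.mp ((h k).mp hk)]

/-- A character with a normal subgroup in its kernel comes from the quotient. -/
theorem IsCharacter.exists_quotient {χ : G → ℂ} (hχ : Cfsg.IsCharacter G χ) (N : Subgroup G)
    [N.Normal] (hN : ∀ k ∈ N, χ k = χ 1) :
    ∃ ψ : G ⧸ N → ℂ, Cfsg.IsCharacter (G ⧸ N) ψ ∧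
      (Cfsg.IsIrrCharacter G χ → Cfsg.IsIrrCharacter (G ⧸ N) ψ) ∧
      ∀ g, χ g = ψ (QuotientGroup.mk' N g) := by
  have := Fintype.ofFinite G
  have := Fintype.ofFinite (G ⧸ N)
  obtain ⟨n, ρ, rfl, h⟩ := IsCharacter.exists_kernel hχ
  let σ : Representation ℂ (G ⧸ N) (Fin n → ℂ) :=
    QuotientGroup.lift N ρ fun k hk => (h k).mp (hN k hk)
  refine ⟨σ.character, isCharacter_character σ, fun hirr => ?_, fun g => rfl⟩
  have h1 : Cfsg.classInner ρ.character ρ.character = 1 := (isIrrCharacter_iff.mp hirr).2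
  have hρ : ρ.IsIrreducible := (isIrreducible_iff ρ).mpr h1
  have : σ.IsIrreducible :=
    { exists_pair_ne := ⟨⊥, ⊤, fun he => by
        exact (bot_ne_top : (⊥ : Subrepresentation ρ) ≠ ⊤) (Subrepresentation.toSubmodule_injective
          (congrArg Subrepresentation.toSubmodule he :))⟩
      eq_bot_or_eq_top := fun S => by
        have hbot : ∀ x : Subrepresentation ρ, x = ⊥ ∨ x = ⊤ := IsSimpleOrder.eq_bot_or_eq_top
        rcases hbot ⟨S.toSubmodule, fun g v hv => S.apply_mem_toSubmodule (g : G ⧸ N) hv⟩ with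
          h | h
        · exact Or.inl (Subrepresentation.toSubmodule_injective
            (congrArg Subrepresentation.toSubmodule h :))
        · exact Or.inr (Subrepresentation.toSubmodule_injective
            (congrArg Subrepresentation.toSubmodule h :)) }
  exact isIrrCharacter_character σ

end Cfsg.Agent.CharCore
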