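import Cfsg.Agent.Lib.CharCore.Complete
import Cfsg.Agent.Lib.CharCore.Linear
import Cfsg.Agent.Lib.CharClifford.Central
import Cfsg.Agent.Lib.CharClifford.Galois
import Mathlib.GroupTheory.PGroup
import Mathlib.GroupTheory.Sylow
import Mathlib.GroupTheory.Subgroup.Simple
import Mathlib.GroupTheory.Solvable

/-!
# Burnside's lemma on class sizes and the two-prime theorem

Library `CharCore`, part 7.
-/

set_option autoImplicit false
set_option linter.unusedSectionVars false

open Module
open scoped ComplexConjugate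

namespace Cfsg.Agent.CharCore

universe u v

variable {G : Type u} [Group G] [Finite G]

open scoped Classical in
theorem card_class_eq_index [Fintype G] (g : G) :
    (Finset.univ.filter (fun x => ConjClasses.mk x = ConjClasses.mk g)).card =
      (Subgroup.centralizer ({g} : Set G)).index := by
  rw [Subgroup.centralizer_eq_comap_stabilizer]
  symm
  refine (Subgroup.index_comap_of_surjective _ (ConjAct.toConjAct (G := G)).surjective).trans ?_
  rw [MulAction.index_stabilizer, ConjAct.orbit_eq_carrier_conjClasses,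
    Set.ncard_eq_toFinset_card']
  congr 1
  ext x
  simp [ConjClasses.mem_carrier_iff_mk_eq]

theorem isIntegral_index_mul_character_div {V : Type v} [AddCommGroup V] [Module ℂ V]
    [FiniteDimensional ℂ V] (ρ : Representation ℂ G V) [ρ.IsIrreducible] (g : G) :
    IsIntegral ℤ (((Subgroup.centralizer ({g} : Set G)).index : ℂ) * ρ.character g /
      (finrank ℂ V : ℂ)) := by
  classical
  have := Fintype.ofFinite G
  have h := CharClifford.isIntegral_class_mul_div (isIrrCharacter_character ρ) g
  rw [Representation.char_one] at h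
  rw [← card_class_eq_index g]
  convert h using 6

/-- An algebraic integer `χ(g)/χ(1)` is zero or has absolute value one. -/
theorem character_eq_zero_or_norm_eq {χ : G → ℂ} (hχ : Cfsg.IsCharacter G χ) (g : G)
    (hint : IsIntegral ℤ (χ g / χ 1)) : χ g = 0 ∨ ‖χ g‖ = ‖χ 1‖ := by
  classical
  by_contra hcon
  obtain ⟨hne, hnorm⟩ := not_or.mp hcon
  have hlt : ‖χ g‖ < ‖χ 1‖ := lt_of_le_of_ne (IsCharacter.norm_apply_le hχ g) hnorm
  have hd : χ 1 ≠ 0 := norm_pos_iff.mp ((norm_nonneg _).trans_lt hlt)
  obtain ⟨d, hdeg⟩ := IsCharacter.exists_degree hχ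
  have : NeZero (Nat.card G) := ⟨Nat.card_pos.ne'⟩
  let β : (ZMod (Nat.card G))ˣ → ℂ := fun u => χ (g ^ (u : ZMod (Nat.card G)).val) / χ 1
  have hσβ : ∀ u : (ZMod (Nat.card G))ˣ, ∃ σ : ℂ →+* ℂ, σ (χ g / χ 1) = β u := fun u => by
    obtain ⟨σ, hσ⟩ := CharClifford.exists_ringHom_map_isCharacter (G := G)
      (ZMod.val_coe_unit_coprime u)
    exact ⟨σ, by rw [map_div₀, hσ χ hχ, hσ χ hχ, one_pow]⟩
  have hfix : ∀ σ : ℂ →+* ℂ, σ (∏ u, β u) = ∏ u, β u := fun σ => by
    obtain ⟨m, hm, hσ⟩ := CharClifford.exists_coprime_map_isCharacter hχ σ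
    rw [map_prod]
    refine Fintype.prod_equiv (Equiv.mulRight (ZMod.unitOfCoprime m hm)) _ _ fun u => ?_
    simp only [β, map_div₀, hσ, one_pow, Equiv.coe_mulRight, Units.val_mul,
      ZMod.coe_unitOfCoprime, ← pow_mul]
    rw [ZMod.val_mul, ZMod.val_natCast, Nat.mul_mod_mod, pow_mod_natCard]
  have hintP : IsIntegral ℤ (∏ u, β u) := IsIntegral.prod _ fun u _ => by
    obtain ⟨σ, hσ⟩ := hσβ u
    rw [← hσ]
    exact hint.map σ.toIntAlgHom
  obtain ⟨k, hk⟩ := CharClifford.exists_int_of_fixed hintP hfix
  have hβ1 : ∀ u, ‖β u‖ ≤ 1 := fun u => by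
    simp only [β, norm_div]
    rw [div_le_one (norm_pos_iff.mpr hd)]
    exact IsCharacter.norm_apply_le hχ _
  have hone : ‖β 1‖ < 1 := by
    simp only [β, norm_div, Units.val_one, ZMod.val_one_eq_one_mod, pow_mod_natCard, pow_one]
    rw [div_lt_one (norm_pos_iff.mpr hd)]
    exact hlt
  have hP : ‖∏ u, β u‖ < 1 := by
    rw [norm_prod, ← Finset.mul_prod_erase _ _ (Finset.mem_univ (1 : (ZMod (Nat.card G))ˣ))]
    calc ‖β 1‖ * _ ≤ ‖β 1‖ * 1 :=
          mul_le_mul_of_nonneg_left
            (Finset.prod_le_one (fun i _ => norm_nonneg _) (fun i _ => hβ1 i)) (norm_nonneg _)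
      _ < 1 := by simpa using hone
  have hk0 : k = 0 := by
    rw [hk] at hP
    simp only [Complex.norm_intCast] at hP
    exact Int.abs_lt_one_iff.mp (by exact_mod_cast hP)
  rw [hk0, Int.cast_zero] at hk
  obtain ⟨u, -, hu⟩ := Finset.prod_eq_zero_iff.mp hk
  obtain ⟨σ, hσ⟩ := hσβ u
  rw [← hσ, map_eq_zero_iff σ σ.injective] at hu
  exact (div_ne_zero hne hd) hu

/-- If the degree is coprime to the class size then the value is zero or of maximal modulus. -/
theorem eq_zero_or_norm_eq_of_coprime {V : Type v} [AddCommGroup V] [Module ℂ V]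
    [FiniteDimensional ℂ V] (ρ : Representation ℂ G V) [ρ.IsIrreducible] (g : G)
    (hcop : Nat.Coprime (finrank ℂ V) (Subgroup.centralizer ({g} : Set G)).index) :
    ρ.character g = 0 ∨ ‖ρ.character g‖ = (finrank ℂ V : ℝ) := by
  have hint : IsIntegral ℤ (ρ.character g / ρ.character 1) := by
    set d := finrank ℂ V
    set c := (Subgroup.centralizer ({g} : Set G)).index
    have hd : (d : ℂ) ≠ 0 := Nat.cast_ne_zero.mpr (finrank_pos_of_irreducible ρ).ne'
    have hb : (1 : ℤ) = d * Nat.gcdA d c + c * Nat.gcdB d c := by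
      rw [← Nat.gcd_eq_gcd_ab, hcop.gcd_eq_one]; rfl
    have hb' : (1 : ℂ) = d * (Nat.gcdA d c : ℂ) + c * (Nat.gcdB d c : ℂ) := by exact_mod_cast hb
    have h : ρ.character g / ρ.character 1 =
        (Nat.gcdA d c : ℂ) * ρ.character g + (Nat.gcdB d c : ℂ) * ((c : ℂ) * ρ.character g / d) := by
      rw [Representation.char_one, div_eq_iff hd]
      field_simp
      linear_combination (ρ.character g) * hb'
    rw [h]
    exact ((isIntegral_algebraMap (R := ℤ) (x := Nat.gcdA d c)).mul (isIntegral_character ρ g)).add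
      ((isIntegral_algebraMap (R := ℤ) (x := Nat.gcdB d c)).mul
        (isIntegral_index_mul_character_div ρ g))
  rcases character_eq_zero_or_norm_eq (isCharacter_character ρ) g hint with h | h
  · exact Or.inl h
  · exact Or.inr (by simpa using h)

theorem prime_card_of_mem_center [IsSimpleGroup G] {g : G} (hg : g ≠ 1)
    (hc : g ∈ Subgroup.center G) : (Nat.card G).Prime := by
  rcases Subgroup.Normal.eq_bot_or_eq_top (inferInstance : (Subgroup.center G).Normal) with h | h
  · exact absurd (by simpa [h] using hc) hg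
  · let _ : CommGroup G := Group.commGroupOfCenterEqTop h
    exact IsSimpleGroup.prime_card

/-- A finite simple group with a nontrivial class of prime power size has prime order. -/
theorem prime_card_of_prime_power_class [IsSimpleGroup G] {p k : ℕ} (hp : p.Prime) {g : G}
    (hg : g ≠ 1) (hclass : (Subgroup.centralizer ({g} : Set G)).index = p ^ k) :
    (Nat.card G).Prime := by
  classical
  have := Fintype.ofFinite G
  let χ₀ : Cfsg.IrrCharacter G := ⟨1, isIrrCharacter_one⟩
  have hsum := sum_degree_mul_apply g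
  rw [if_neg hg, ← Finset.add_sum_erase _ _ (Finset.mem_univ χ₀)] at hsum
  have hex : ∃ χ : Cfsg.IrrCharacter G, χ ≠ χ₀ ∧ (χ : G → ℂ) g ≠ 0 ∧
      ∀ d : ℕ, (χ : G → ℂ) 1 = d → ¬ p ∣ d := by
    by_contra hc
    push Not at hc
    have hint : IsIntegral ℤ ((-1 : ℂ) / p) := by
      have h1 : (-1 : ℂ) / p = ∑ χ ∈ Finset.univ.erase χ₀,
          (χ : G → ℂ) 1 / p * (χ : G → ℂ) g := by
        have h2 : ∑ χ ∈ Finset.univ.erase χ₀, (χ : G → ℂ) 1 / p * (χ : G → ℂ) g =
            (∑ χ ∈ Finset.univ.erase χ₀, (χ : G → ℂ) 1 * (χ : G → ℂ) g) / p := by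
          rw [Finset.sum_div]
          exact Finset.sum_congr rfl fun χ _ => by ring
        rw [h2]
        congr 1
        have h3 : (χ₀ : G → ℂ) 1 * (χ₀ : G → ℂ) g = 1 := by simp [χ₀]
        rw [h3] at hsum
        linear_combination -hsum
      rw [h1]
      refine IsIntegral.sum _ fun χ hχ => ?_
      by_cases h0 : (χ : G → ℂ) g = 0
      · rw [h0, mul_zero]; exact isIntegral_zero
      obtain ⟨d, hd, hdvd⟩ := hc χ (Finset.mem_erase.mp hχ).1 h0
      obtain ⟨e, rfl⟩ := hdvd
      have : (χ : G → ℂ) 1 / p = ((e : ℤ) : ℂ) := by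
        rw [hd]; push_cast; field_simp [Nat.cast_ne_zero.mpr hp.ne_zero]
      rw [this]
      exact isIntegral_algebraMap.mul (IsCharacter.isIntegral (irr_isCharacter χ) g)
    have h := hint.neg
    have h' : IsIntegral ℤ ((1 : ℂ) / p) := by simpa [neg_div] using h
    have hdvd := CharClifford.dvd_of_mul_isIntegral (a := p) (b := 1) h'
      (by push_cast; field_simp [Nat.cast_ne_zero.mpr hp.ne_zero])
    exact hp.not_dvd_one hdvd
  obtain ⟨⟨χ, n, ρ, hρ, rfl⟩, hne, hg0, hnd⟩ := hex
  have hnp : ¬ p ∣ n := hnd n (by simp)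
  have hcop : Nat.Coprime (finrank ℂ (Fin n → ℂ)) (Subgroup.centralizer ({g} : Set G)).index := by
    rw [hclass, Module.finrank_fin_fun]
    exact Nat.Coprime.pow_right _ ((Nat.Prime.coprime_iff_not_dvd hp).mpr hnp).symm
  rcases eq_zero_or_norm_eq_of_coprime ρ g hcop with h | h
  · exact absurd h hg0
  obtain ⟨c, hc⟩ := (norm_character_eq_iff ρ g).mp h
  have hinj : Function.Injective ρ := by
    rcases Subgroup.Normal.eq_bot_or_eq_top
      (inferInstance : (MonoidHom.ker ρ).Normal) with hk | hk
    · exact (MonoidHom.ker_eq_bot_iff ρ).mp hk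
    · exfalso
      apply hne
      apply Subtype.ext
      have hall : ∀ x, ρ.character x = (n : ℂ) := fun x => by
        have := (character_eq_finrank_iff ρ x).mpr
          (MonoidHom.mem_ker.mp (hk ▸ Subgroup.mem_top x : x ∈ MonoidHom.ker ρ))
        simpa using this
      have h1 := classInner_irr_self (⟨ρ.character, n, ρ, hρ, rfl⟩ : Cfsg.IrrCharacter G)
      simp only [Cfsg.classInner, hall, Complex.conj_natCast, Finset.sum_const, Finset.card_univ,
        nsmul_eq_mul, ← Nat.card_eq_fintype_card] at h1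
      rw [inv_mul_cancel_left₀ (Nat.cast_ne_zero.mpr Nat.card_pos.ne')] at h1
      have hn1 : n = 1 := by
        have : n * n = 1 := by exact_mod_cast h1
        exact Nat.eq_one_of_mul_eq_one_left this
      funext x
      simp only [χ₀, hall, hn1, Pi.one_apply, Nat.cast_one]
  refine prime_card_of_mem_center hg (Subgroup.mem_center_iff.mpr fun x => hinj ?_)
  rw [map_mul, map_mul, hc]
  ext v
  simp

/-- Burnside's two-prime theorem. -/
theorem isSolvable_of_card_eq_prime_pow_mul {p q : ℕ} (hp : p.Prime) (hq : q.Prime) :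
    ∀ (N : ℕ) (H : Type u) [Group H] [Finite H] (a b : ℕ), Nat.card H = N →
      N = p ^ a * q ^ b → Group.IsSolvable H := by
  intro N
  induction N using Nat.strong_induction_on with
  | _ N ih =>
    intro H _ _ a b hN hab
    rcases subsingleton_or_nontrivial H with hH | hH
    · infer_instance
    by_cases hsimple : IsSimpleGroup H
    · have hprime : (Nat.card H).Prime := by
        have : Fact p.Prime := ⟨hp⟩
        let P : Sylow p H := default
        by_cases hPtriv : Nat.card P = 1
        · have h1 : ¬ p ∣ Nat.card H := fun hd => by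
            have := P.dvd_card_of_dvd_card hd
            rw [hPtriv] at this
            exact hp.not_dvd_one this
          have h2 : IsPGroup q H := by
            refine IsPGroup.of_card (n := b) ?_
            rw [hN, hab]
            rcases Nat.eq_zero_or_pos a with rfl | ha
            · simp
            · exact absurd (hN ▸ hab ▸ (dvd_pow_self p ha.ne').mul_right _) h1
          have : Fact q.Prime := ⟨hq⟩
          have hc := h2.center_nontrivial
          obtain ⟨⟨g, hg⟩, hg1⟩ := exists_ne (1 : Subgroup.center H)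
          exact prime_card_of_mem_center (g := g) (fun he => hg1 (Subtype.ext he)) hg
        · have hPn : Nontrivial P := Finite.one_lt_card_iff_nontrivial.mp (by
            have := Nat.card_pos (α := P); omega)
          have hc := P.2.center_nontrivial
          obtain ⟨⟨⟨g, hgP⟩, hgc⟩, hg1⟩ := exists_ne (1 : Subgroup.center P)
          have hle : (P : Subgroup H) ≤ Subgroup.centralizer ({g} : Set H) := fun x hx => by
            rw [Subgroup.mem_centralizer_singleton_iff]
            exact congrArg Subtype.val (Subgroup.mem_center_iff.mp hgc ⟨x, hx⟩)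
          have hdvd : (Subgroup.centralizer ({g} : Set H)).index ∣ q ^ b := by
            refine (Subgroup.index_dvd_of_le hle).trans ?_
            have hco : Nat.Coprime (P : Subgroup H).index (p ^ a) :=
              Nat.Coprime.pow_right _ ((Nat.Prime.coprime_iff_not_dvd hp).mpr P.not_dvd_index).symm
            refine hco.dvd_of_dvd_mul_left ?_
            rw [← hab, ← hN]
            exact Subgroup.index_dvd_card _
          obtain ⟨k, -, hk⟩ := (Nat.dvd_prime_pow hq).mp hdvd
          exact prime_card_of_prime_power_class hq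
            (fun he => hg1 (Subtype.ext (Subtype.ext he))) hk
      have : Fact (Nat.card H).Prime := ⟨hprime⟩
      have : IsCyclic H := isCyclic_of_prime_card rfl
      exact Group.isSolvable_of_comm fun x y => IsCyclic.commGroup.mul_comm x y
    · have hex : ∃ M : Subgroup H, M.Normal ∧ M ≠ ⊥ ∧ M ≠ ⊤ := by
        by_contra hc
        push Not at hc
        exact hsimple ⟨fun M hM => (em (M = ⊥)).imp_right (hc M hM)⟩
      obtain ⟨M, hMn, hM0, hM1⟩ := hex
      have hform : ∀ d, d ∣ N → ∃ i j, d = p ^ i * q ^ j := fun d hd => by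
        rw [hab] at hd
        obtain ⟨d₁, d₂, h₁, h₂, rfl⟩ := exists_dvd_and_dvd_of_dvd_mul hd
        obtain ⟨i, -, rfl⟩ := (Nat.dvd_prime_pow hp).mp h₁
        obtain ⟨j, -, rfl⟩ := (Nat.dvd_prime_pow hq).mp h₂
        exact ⟨i, j, rfl⟩
      have hmul := Subgroup.card_eq_card_quotient_mul_card_subgroup M
      have hMlt : Nat.card M < N := by
        rw [← hN]
        exact lt_of_le_of_ne M.card_le_card_group fun he => hM1 (Subgroup.card_eq_iff_eq_top M |>.mp he)
      have hQlt : Nat.card (H ⧸ M) < N := by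
        have h1 : 1 < Nat.card M := Finite.one_lt_card_iff_nontrivial.mpr
          ((Subgroup.nontrivial_iff_ne_bot M).mpr hM0)
        rw [← hN, hmul]
        exact lt_mul_of_one_lt_right Nat.card_pos h1
      obtain ⟨i, j, hij⟩ := hform _ (hN ▸ M.card_subgroup_dvd_card)
      obtain ⟨i', j', hij'⟩ := hform _ (hN ▸ hmul ▸ dvd_mul_right _ _)
      have h1 : Group.IsSolvable M := ih _ hMlt M i j rfl hij
      have h2 : Group.IsSolvable (H ⧸ M) := ih _ hQlt (H ⧸ M) i' j' rfl hij'
      exact Group.isSolvable_of_ker_le_range M.subtype (QuotientGroup.mk' M) (by simp)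

end Cfsg.Agent.CharCore
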