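import Cfsg.Agent.Lib.CharCore.Rep
import Mathlib.LinearAlgebra.FiniteDimensional.Basic
import Mathlib.LinearAlgebra.Dual.Lemmas

/-!
# Characters: closure properties, orthogonality, decomposition

Library `CharCore`, part 3.  Everything is stated for `Cfsg.IsCharacter`, `Cfsg.IrrCharacter`.
-/

set_option autoImplicit false
set_option linter.unusedSectionVars false

open Module
open scoped ComplexConjugate TensorProduct

namespace Cfsg.Agent.CharCore

universe u v

variable {G : Type u} [Group G]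

/-! ### Closure properties -/

theorem isCharacter_zero : Cfsg.IsCharacter G (0 : G → ℂ) := by
  have h := isCharacter_character (1 : Representation ℂ G (Fin 0 → ℂ))
  convert h
  funext g
  simp [Representation.character]

theorem isCharacter_one : Cfsg.IsCharacter G (1 : G → ℂ) := by
  have h := isCharacter_character (1 : Representation ℂ G ℂ)
  convert h
  funext g
  simp [Representation.character]

theorem isIrrCharacter_one : Cfsg.IsIrrCharacter G (1 : G → ℂ) := by
  have : (1 : Representation ℂ G ℂ).IsIrreducible :=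
    { exists_pair_ne := ⟨⊥, ⊤, fun h => by
        have h' : (⊥ : Submodule ℂ ℂ) = ⊤ := congrArg Subrepresentation.toSubmodule h
        exact bot_ne_top h'⟩
      eq_bot_or_eq_top := fun S => by
        rcases eq_bot_or_eq_top S.toSubmodule with h | h
        · exact Or.inl (Subrepresentation.toSubmodule_injective h)
        · exact Or.inr (Subrepresentation.toSubmodule_injective h) }
  have h := isIrrCharacter_character (1 : Representation ℂ G ℂ)
  convert h
  funext g
  simp [Representation.character]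

theorem IsIrrCharacter.isCharacter {χ : G → ℂ} (h : Cfsg.IsIrrCharacter G χ) :
    Cfsg.IsCharacter G χ :=
  let ⟨n, ρ, _, hρ⟩ := h
  ⟨n, ρ, hρ⟩

theorem irr_isCharacter (χ : Cfsg.IrrCharacter G) : Cfsg.IsCharacter G (χ : G → ℂ) :=
  IsIrrCharacter.isCharacter χ.2

theorem isCharacter_add {χ ψ : G → ℂ} (hχ : Cfsg.IsCharacter G χ) (hψ : Cfsg.IsCharacter G ψ) :
    Cfsg.IsCharacter G (χ + ψ) := by
  obtain ⟨n, ρ, rfl⟩ := hχ
  obtain ⟨m, σ, rfl⟩ := hψ
  have h := isCharacter_character (ρ.prod σ)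
  convert h
  funext g
  exact (LinearMap.trace_prodMap' (ρ g) (σ g)).symm

theorem isCharacter_mul {χ ψ : G → ℂ} (hχ : Cfsg.IsCharacter G χ) (hψ : Cfsg.IsCharacter G ψ) :
    Cfsg.IsCharacter G (χ * ψ) := by
  obtain ⟨n, ρ, rfl⟩ := hχ
  obtain ⟨m, σ, rfl⟩ := hψ
  rw [← Representation.char_tensor ρ σ]
  exact isCharacter_character _

theorem isCharacter_nsmul {χ : G → ℂ} (hχ : Cfsg.IsCharacter G χ) (k : ℕ) :
    Cfsg.IsCharacter G (k • χ) := by
  induction k with
  | zero => rw [zero_smul]; exact isCharacter_zero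
  | succ k ih => rw [succ_nsmul]; exact isCharacter_add ih hχ

theorem isCharacter_natCast_smul {χ : G → ℂ} (hχ : Cfsg.IsCharacter G χ) (k : ℕ) :
    Cfsg.IsCharacter G ((k : ℂ) • χ) := by
  rw [Nat.cast_smul_eq_nsmul]
  exact isCharacter_nsmul hχ k

theorem isCharacter_natCast (k : ℕ) : Cfsg.IsCharacter G (fun _ => (k : ℂ)) := by
  have h := isCharacter_natCast_smul (G := G) isCharacter_one k
  convert h using 1
  funext g
  simp

theorem isCharacter_sum {ι : Type*} (s : Finset ι) (f : ι → G → ℂ)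
    (h : ∀ i ∈ s, Cfsg.IsCharacter G (f i)) : Cfsg.IsCharacter G (∑ i ∈ s, f i) :=
  Finset.sum_induction f (Cfsg.IsCharacter G) (fun _ _ => isCharacter_add) isCharacter_zero h

/-- Pull back of a character along a homomorphism (restriction, inflation). -/
theorem isCharacter_comp {H : Type*} [Group H] {χ : G → ℂ} (hχ : Cfsg.IsCharacter G χ)
    (f : H →* G) : Cfsg.IsCharacter H (fun h => χ (f h)) := by
  obtain ⟨n, ρ, rfl⟩ := hχ
  exact ⟨n, ρ.comp f, rfl⟩

theorem isCharacter_restrict {χ : G → ℂ} (hχ : Cfsg.IsCharacter G χ) (H : Subgroup G) :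
    Cfsg.IsCharacter H (fun h : H => χ h) :=
  isCharacter_comp hχ H.subtype

theorem IsCharacter.isClassFunction {χ : G → ℂ} (hχ : Cfsg.IsCharacter G χ) :
    Cfsg.IsClassFunction G χ := by
  obtain ⟨n, ρ, rfl⟩ := hχ
  exact fun g h => Representation.char_conj ρ g h

theorem irr_isClassFunction (χ : Cfsg.IrrCharacter G) : Cfsg.IsClassFunction G (χ : G → ℂ) :=
  IsCharacter.isClassFunction (irr_isCharacter χ)

theorem IsCharacter.exists_degree {χ : G → ℂ} (hχ : Cfsg.IsCharacter G χ) :
    ∃ n : ℕ, χ 1 = n := by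
  obtain ⟨n, ρ, rfl⟩ := hχ
  exact ⟨n, by simp⟩

theorem IsIrrCharacter.exists_degree {χ : G → ℂ} (hχ : Cfsg.IsIrrCharacter G χ) :
    ∃ n : ℕ, 0 < n ∧ χ 1 = n := by
  obtain ⟨n, ρ, hi, rfl⟩ := hχ
  exact ⟨n, by simpa using finrank_pos_of_irreducible ρ, by simp⟩

theorem irr_apply_one_ne_zero (χ : Cfsg.IrrCharacter G) : (χ : G → ℂ) 1 ≠ 0 := by
  obtain ⟨n, hn, h⟩ := IsIrrCharacter.exists_degree χ.2
  rw [h]; exact_mod_cast hn.ne'

section Finite

variable [Finite G]

theorem IsCharacter.apply_inv {χ : G → ℂ} (hχ : Cfsg.IsCharacter G χ) (g : G) :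
    χ g⁻¹ = conj (χ g) := by
  obtain ⟨n, ρ, rfl⟩ := hχ
  exact character_inv ρ g

theorem irr_apply_inv (χ : Cfsg.IrrCharacter G) (g : G) :
    (χ : G → ℂ) g⁻¹ = conj ((χ : G → ℂ) g) :=
  IsCharacter.apply_inv (irr_isCharacter χ) g

theorem IsCharacter.isIntegral {χ : G → ℂ} (hχ : Cfsg.IsCharacter G χ) (g : G) :
    IsIntegral ℤ (χ g) := by
  obtain ⟨n, ρ, rfl⟩ := hχ
  exact isIntegral_character ρ g

theorem IsCharacter.norm_apply_le {χ : G → ℂ} (hχ : Cfsg.IsCharacter G χ) (g : G) :
    ‖χ g‖ ≤ ‖χ 1‖ := by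
  obtain ⟨n, ρ, rfl⟩ := hχ
  simpa using norm_character_le ρ g

theorem IsCharacter.star {χ : G → ℂ} (hχ : Cfsg.IsCharacter G χ) :
    Cfsg.IsCharacter G (fun g => conj (χ g)) := by
  obtain ⟨n, ρ, rfl⟩ := hχ
  have h := isCharacter_character ρ.dual
  convert h
  rw [Representation.char_dual, character_inv]

end Finite

/-! ### The inner product -/

section Inner

variable [Fintype G]

theorem classInner_def (φ ψ : G → ℂ) :
    Cfsg.classInner φ ψ = (Nat.card G : ℂ)⁻¹ * ∑ g : G, φ g * conj (ψ g) := rfl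

theorem classInner_add_left (φ φ' ψ : G → ℂ) :
    Cfsg.classInner (φ + φ') ψ = Cfsg.classInner φ ψ + Cfsg.classInner φ' ψ := by
  simp [Cfsg.classInner, add_mul, Finset.sum_add_distrib, mul_add]

theorem classInner_add_right (φ ψ ψ' : G → ℂ) :
    Cfsg.classInner φ (ψ + ψ') = Cfsg.classInner φ ψ + Cfsg.classInner φ ψ' := by
  simp [Cfsg.classInner, Finset.sum_add_distrib, mul_add]

theorem classInner_smul_left (c : ℂ) (φ ψ : G → ℂ) :
    Cfsg.classInner (c • φ) ψ = c * Cfsg.classInner φ ψ := by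
  simp [Cfsg.classInner, Finset.mul_sum, mul_assoc, mul_left_comm]

theorem classInner_smul_right (c : ℂ) (φ ψ : G → ℂ) :
    Cfsg.classInner φ (c • ψ) = conj c * Cfsg.classInner φ ψ := by
  simp [Cfsg.classInner, Finset.mul_sum, mul_assoc, mul_left_comm]

@[simp] theorem classInner_zero_left (ψ : G → ℂ) : Cfsg.classInner 0 ψ = 0 := by
  simp [Cfsg.classInner]

@[simp] theorem classInner_zero_right (φ : G → ℂ) : Cfsg.classInner φ 0 = 0 := by
  simp [Cfsg.classInner]

theorem classInner_neg_left (φ ψ : G → ℂ) :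
    Cfsg.classInner (-φ) ψ = - Cfsg.classInner φ ψ := by
  simpa using classInner_smul_left (-1) φ ψ

theorem classInner_neg_right (φ ψ : G → ℂ) :
    Cfsg.classInner φ (-ψ) = - Cfsg.classInner φ ψ := by
  simpa using classInner_smul_right (-1) φ ψ

theorem classInner_sub_left (φ φ' ψ : G → ℂ) :
    Cfsg.classInner (φ - φ') ψ = Cfsg.classInner φ ψ - Cfsg.classInner φ' ψ := by
  rw [sub_eq_add_neg, classInner_add_left, classInner_neg_left, sub_eq_add_neg]

theorem classInner_sub_right (φ ψ ψ' : G → ℂ) :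
    Cfsg.classInner φ (ψ - ψ') = Cfsg.classInner φ ψ - Cfsg.classInner φ ψ' := by
  rw [sub_eq_add_neg, classInner_add_right, classInner_neg_right, sub_eq_add_neg]

theorem classInner_sum_left {ι : Type*} (s : Finset ι) (f : ι → G → ℂ) (ψ : G → ℂ) :
    Cfsg.classInner (∑ i ∈ s, f i) ψ = ∑ i ∈ s, Cfsg.classInner (f i) ψ := by
  classical
  induction s using Finset.induction_on with
  | empty => simp
  | @insert a s ha ih => rw [Finset.sum_insert ha, Finset.sum_insert ha, classInner_add_left, ih]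

theorem classInner_sum_right {ι : Type*} (s : Finset ι) (φ : G → ℂ) (f : ι → G → ℂ) :
    Cfsg.classInner φ (∑ i ∈ s, f i) = ∑ i ∈ s, Cfsg.classInner φ (f i) := by
  classical
  induction s using Finset.induction_on with
  | empty => simp
  | @insert a s ha ih => rw [Finset.sum_insert ha, Finset.sum_insert ha, classInner_add_right, ih]

theorem conj_classInner (φ ψ : G → ℂ) :
    conj (Cfsg.classInner φ ψ) = Cfsg.classInner ψ φ := by
  simp [Cfsg.classInner, map_sum, mul_comm]

theorem classInner_eq_inv (φ : G → ℂ) {ψ : G → ℂ} (hψ : Cfsg.IsCharacter G ψ) :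
    Cfsg.classInner φ ψ = (Nat.card G : ℂ)⁻¹ * ∑ g : G, φ g * ψ g⁻¹ := by
  simp [Cfsg.classInner, IsCharacter.apply_inv hψ]

theorem invertibleCard : Nonempty (Invertible (Nat.card G : ℂ)) :=
  ⟨invertibleOfNonzero (by exact_mod_cast Nat.card_pos.ne')⟩

/-- Row orthogonality. -/
theorem classInner_irr [DecidableEq (Cfsg.IrrCharacter G)] (χ ψ : Cfsg.IrrCharacter G) :
    Cfsg.classInner (χ : G → ℂ) ψ = if χ = ψ then 1 else 0 := by
  have := (invertibleCard (G := G)).some
  rw [classInner_eq_inv _ (irr_isCharacter ψ)]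
  obtain ⟨χ, n, ρ, hρ, rfl⟩ := χ
  obtain ⟨ψ, m, σ, hσ, rfl⟩ := ψ
  have h := Representation.char_orthonormal ρ σ
  split_ifs with he
  · have he' : ρ.character = σ.character := congrArg Subtype.val he
    show _ * ∑ g : G, ρ.character g * σ.character g⁻¹ = 1
    rw [← he']
    have h' := Representation.char_orthonormal ρ ρ
    rwa [if_pos ⟨Representation.Equiv.refl ρ⟩] at h'
  · rw [if_neg (fun ⟨φ⟩ => he (Subtype.ext (Representation.char_iso φ).symm))] at h
    exact h

theorem classInner_irr_self (χ : Cfsg.IrrCharacter G) :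
    Cfsg.classInner (χ : G → ℂ) χ = 1 := by
  classical
  rw [classInner_irr, if_pos rfl]

theorem classInner_irr_of_ne {χ ψ : Cfsg.IrrCharacter G} (h : χ ≠ ψ) :
    Cfsg.classInner (χ : G → ℂ) ψ = 0 := by
  classical
  rw [classInner_irr, if_neg h]

theorem classInner_sum_irr (s : Finset (Cfsg.IrrCharacter G)) (c : Cfsg.IrrCharacter G → ℂ)
    (χ : Cfsg.IrrCharacter G) [Decidable (χ ∈ s)] :
    Cfsg.classInner (∑ ψ ∈ s, c ψ • (ψ : G → ℂ)) χ = if χ ∈ s then c χ else 0 := by
  classical
  simp [classInner_sum_left, classInner_smul_left, classInner_irr, Finset.sum_ite_eq']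

end Inner

/-! ### Finiteness and linear independence -/

section Finiteness

variable [Finite G]

theorem linearIndependent_irr :
    LinearIndependent ℂ (fun χ : Cfsg.IrrCharacter G => (χ : G → ℂ)) := by
  classical
  have := Fintype.ofFinite G
  rw [linearIndependent_iff']
  intro s c hc χ hχ
  have := classInner_sum_irr s c χ
  rw [hc, classInner_zero_left, if_pos hχ] at this
  exact this.symm

instance finite_irrCharacter : Finite (Cfsg.IrrCharacter G) :=
  linearIndependent_irr.finite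

noncomputable instance fintypeIrrCharacter : Fintype (Cfsg.IrrCharacter G) := Fintype.ofFinite _

end Finiteness

/-! ### Decomposition -/

section Decomposition

variable [Finite G]

theorem character_mem_closure {V : Type v} [AddCommGroup V] [Module ℂ V] [FiniteDimensional ℂ V]
    (ρ : Representation ℂ G V) :
    ρ.character ∈ AddSubmonoid.closure {f : G → ℂ | Cfsg.IsIrrCharacter G f} := by
  refine rep_induction (motive := fun V _ _ ρ =>
    ρ.character ∈ AddSubmonoid.closure {f : G → ℂ | Cfsg.IsIrrCharacter G f}) ?_ ?_ ?_ V ρ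
  · intro V _ _ _ ρ hV
    convert AddSubmonoid.zero_mem _
    funext g
    simp [Representation.character, Subsingleton.elim (ρ g) 0]
  · intro V _ _ _ ρ hρ
    exact AddSubmonoid.subset_closure (isIrrCharacter_character ρ)
  · intro V _ _ _ ρ S T hST _ _ hS hT
    rw [character_eq_add_of_isCompl ρ S T hST]
    exact add_mem hS hT

/-- Every character is a combination of irreducible characters with natural coefficients. -/
theorem IsCharacter.exists_sum {χ : G → ℂ} (hχ : Cfsg.IsCharacter G χ) :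
    ∃ m : Cfsg.IrrCharacter G → ℕ, χ = ∑ ψ, (m ψ : ℂ) • (ψ : G → ℂ) := by
  classical
  obtain ⟨n, ρ, rfl⟩ := hχ
  refine AddSubmonoid.closure_induction (motive := fun f _ =>
    ∃ m : Cfsg.IrrCharacter G → ℕ, f = ∑ ψ, (m ψ : ℂ) • (ψ : G → ℂ)) ?_ ?_ ?_
    (character_mem_closure ρ)
  · intro f hf
    exact ⟨Pi.single ⟨f, hf⟩ 1, by
      rw [Finset.sum_eq_single ⟨f, hf⟩] <;> simp +contextual⟩
  · exact ⟨0, by simp⟩
  · rintro _ _ _ _ ⟨m₁, rfl⟩ ⟨m₂, rfl⟩
    exact ⟨m₁ + m₂, by simp [add_smul, Finset.sum_add_distrib]⟩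

theorem isCharacter_sum_irr (m : Cfsg.IrrCharacter G → ℕ) :
    Cfsg.IsCharacter G (∑ ψ, (m ψ : ℂ) • (ψ : G → ℂ)) :=
  isCharacter_sum _ _ fun ψ _ => isCharacter_natCast_smul (irr_isCharacter ψ) _

theorem isCharacter_iff_exists_sum {χ : G → ℂ} :
    Cfsg.IsCharacter G χ ↔
      ∃ m : Cfsg.IrrCharacter G → ℕ, χ = ∑ ψ, (m ψ : ℂ) • (ψ : G → ℂ) :=
  ⟨IsCharacter.exists_sum, fun ⟨m, h⟩ => h ▸ isCharacter_sum_irr m⟩

end Decomposition

section Multiplicity

variable [Fintype G]

theorem classInner_sum_all (c : Cfsg.IrrCharacter G → ℂ) (χ : Cfsg.IrrCharacter G) :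
    Cfsg.classInner (∑ ψ, c ψ • (ψ : G → ℂ)) χ = c χ := by
  classical
  simp [classInner_sum_irr]

theorem classInner_sum_sum (a b : Cfsg.IrrCharacter G → ℂ) :
    Cfsg.classInner (∑ ψ, a ψ • (ψ : G → ℂ)) (∑ ψ, b ψ • (ψ : G → ℂ)) =
      ∑ ψ, a ψ * conj (b ψ) := by
  rw [classInner_sum_right]
  refine Finset.sum_congr rfl fun ψ _ => ?_
  rw [classInner_smul_right, classInner_sum_all, mul_comm]

theorem IsCharacter.exists_classInner_irr_eq_natCast {χ : G → ℂ} (hχ : Cfsg.IsCharacter G χ)
    (ψ : Cfsg.IrrCharacter G) : ∃ k : ℕ, Cfsg.classInner χ ψ = k := by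
  obtain ⟨m, rfl⟩ := IsCharacter.exists_sum hχ
  exact ⟨m ψ, classInner_sum_all _ ψ⟩

theorem IsCharacter.exists_classInner_eq_natCast {χ ψ : G → ℂ} (hχ : Cfsg.IsCharacter G χ)
    (hψ : Cfsg.IsCharacter G ψ) : ∃ k : ℕ, Cfsg.classInner χ ψ = k := by
  obtain ⟨m, rfl⟩ := IsCharacter.exists_sum hχ
  obtain ⟨l, rfl⟩ := IsCharacter.exists_sum hψ
  exact ⟨∑ θ, m θ * l θ, by simp [classInner_sum_sum]⟩

theorem IsCharacter.eq_sum_classInner {χ : G → ℂ} (hχ : Cfsg.IsCharacter G χ) :
    χ = ∑ ψ : Cfsg.IrrCharacter G, Cfsg.classInner χ ψ • (ψ : G → ℂ) := by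
  obtain ⟨m, rfl⟩ := IsCharacter.exists_sum hχ
  simp [classInner_sum_all]

/-- A character is irreducible iff it has norm one. -/
theorem isIrrCharacter_iff {χ : G → ℂ} :
    Cfsg.IsIrrCharacter G χ ↔ Cfsg.IsCharacter G χ ∧ Cfsg.classInner χ χ = 1 := by
  refine ⟨fun h => ⟨IsIrrCharacter.isCharacter h, classInner_irr_self ⟨χ, h⟩⟩, ?_⟩
  rintro ⟨hχ, h1⟩
  classical
  obtain ⟨m, rfl⟩ := IsCharacter.exists_sum hχ
  simp only [classInner_sum_sum, Complex.conj_natCast] at h1
  have h2 : ∑ ψ, m ψ * m ψ = 1 := by exact_mod_cast h1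
  obtain ⟨ψ, -, hψ⟩ := Finset.exists_ne_zero_of_sum_ne_zero (h2.trans_ne one_ne_zero)
  have h3 := Finset.add_sum_erase Finset.univ (fun ψ => m ψ * m ψ) (Finset.mem_univ ψ)
  have hψ1 : m ψ = 1 := by
    have h4 : m ψ * m ψ ≤ 1 := by rw [← h2, ← h3]; exact Nat.le_add_right _ _
    have h5 : m ψ ≠ 0 := fun h => hψ (by simp [h])
    nlinarith [Nat.pos_of_ne_zero h5]
  have hrest : ∀ φ, φ ≠ ψ → m φ = 0 := fun φ hφ => by
    have h4 : ∑ φ ∈ Finset.univ.erase ψ, m φ * m φ = 0 := by simp only [hψ1] at h3; omega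
    simpa using Finset.sum_eq_zero_iff.mp h4 φ (by simp [hφ])
  rw [Finset.sum_eq_single ψ (fun φ _ hφ => by simp [hrest φ hφ]) (by simp), hψ1]
  simpa using ψ.2

/-- A representation is irreducible iff its character has norm one. -/
theorem isIrreducible_iff {V : Type v} [AddCommGroup V] [Module ℂ V] [FiniteDimensional ℂ V]
    (ρ : Representation ℂ G V) :
    ρ.IsIrreducible ↔ Cfsg.classInner ρ.character ρ.character = 1 := by
  refine ⟨fun h => classInner_irr_self ⟨_, isIrrCharacter_character ρ⟩, ?_⟩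
  revert ρ
  intro ρ
  refine rep_induction (motive := fun V _ _ ρ =>
    Cfsg.classInner ρ.character ρ.character = 1 → ρ.IsIrreducible) ?_ (fun _ _ _ _ _ h _ => h)
    ?_ V ρ
  · intro V _ _ _ ρ hV h1
    have : ρ.character = 0 := by
      funext g
      simp [Representation.character, Subsingleton.elim (ρ g) 0]
    simp [this] at h1
  · intro V _ _ _ ρ S T hST hS hT _ _ h1
    exfalso
    have hpos : ∀ U : Subrepresentation ρ, U.toSubmodule ≠ ⊥ →
        ∃ k : ℕ, 1 ≤ k ∧
          Cfsg.classInner U.toRepresentation.character U.toRepresentation.character = k := by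
      intro U hU
      obtain ⟨k, hk⟩ := IsCharacter.exists_classInner_eq_natCast
        (isCharacter_character U.toRepresentation) (isCharacter_character U.toRepresentation)
      refine ⟨k, Nat.one_le_iff_ne_zero.mpr fun h0 => ?_, hk⟩
      obtain ⟨m, hm⟩ := IsCharacter.exists_sum (isCharacter_character U.toRepresentation)
      rw [hm, classInner_sum_sum] at hk
      simp only [Complex.conj_natCast, h0] at hk
      have hk' : ∑ ψ, m ψ * m ψ = 0 := by exact_mod_cast hk
      have h1' := congrFun hm 1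
      simp only [Representation.char_one, Finset.sum_apply] at h1'
      rw [Finset.sum_eq_zero (fun ψ _ => by
        simp [Finset.sum_eq_zero_iff.mp hk' ψ (Finset.mem_univ _) |> mul_self_eq_zero.mp])] at h1'
      exact hU (Submodule.finrank_eq_zero.mp (by exact_mod_cast h1'))
    obtain ⟨a, ha, hA⟩ := hpos S hS
    obtain ⟨b, hb, hB⟩ := hpos T hT
    obtain ⟨c, hC⟩ := IsCharacter.exists_classInner_eq_natCast
      (isCharacter_character S.toRepresentation) (isCharacter_character T.toRepresentation)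
    obtain ⟨d, hD⟩ := IsCharacter.exists_classInner_eq_natCast
      (isCharacter_character T.toRepresentation) (isCharacter_character S.toRepresentation)
    rw [character_eq_add_of_isCompl ρ S T hST, classInner_add_left, classInner_add_right,
      classInner_add_right, hA, hB, hC, hD] at h1
    have : a + c + (d + b) = 1 := by exact_mod_cast h1
    omega

end Multiplicity

theorem isIrrCharacter_star [Finite G] {χ : G → ℂ} (hχ : Cfsg.IsIrrCharacter G χ) :
    Cfsg.IsIrrCharacter G (fun g => conj (χ g)) := by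
  have := Fintype.ofFinite G
  rw [isIrrCharacter_iff] at hχ ⊢
  refine ⟨IsCharacter.star hχ.1, ?_⟩
  have h := congrArg (starRingEnd ℂ) hχ.2
  rw [map_one] at h
  rw [← h]
  simp [Cfsg.classInner, map_sum]

/-- Inflation / restriction along a surjective homomorphism preserves irreducibility. -/
theorem isIrrCharacter_comp_surjective {H : Type*} [Group H] [Finite H] [Finite G] {χ : G → ℂ}
    (hχ : Cfsg.IsIrrCharacter G χ) (f : H →* G) (hf : Function.Surjective f) :
    Cfsg.IsIrrCharacter H (fun h => χ (f h)) := by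
  obtain ⟨n, ρ, hρ, rfl⟩ := hχ
  refine ⟨n, ρ.comp f, ?_, rfl⟩
  let pull : Subrepresentation (ρ.comp f) → Subrepresentation ρ := fun S =>
    ⟨S.toSubmodule, fun g v hv => by
      obtain ⟨h, rfl⟩ := hf g
      exact S.apply_mem_toSubmodule h hv⟩
  have hbot : ∀ x : Subrepresentation ρ, x = ⊥ ∨ x = ⊤ := IsSimpleOrder.eq_bot_or_eq_top
  refine { exists_pair_ne := ⟨⊥, ⊤, fun he => ?_⟩, eq_bot_or_eq_top := fun S => ?_ }
  · exact (bot_ne_top : (⊥ : Subrepresentation ρ) ≠ ⊤) (congrArg pull he)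
  · rcases hbot (pull S) with h | h
    · exact Or.inl (Subrepresentation.toSubmodule_injective
        (congrArg Subrepresentation.toSubmodule h :))
    · exact Or.inr (Subrepresentation.toSubmodule_injective
        (congrArg Subrepresentation.toSubmodule h :))

end Cfsg.Agent.CharCore
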