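import Cfsg.Agent.Lib.CharCore.Complete
import Cfsg.Agent.Lib.CharInd.Char
import Cfsg.Agent.OddChar.Normal

/-!
# The ramification index divides the degree

Library `CharCore`, part 13.
-/

set_option autoImplicit false
set_option linter.unusedSectionVars false

open scoped ComplexConjugate

namespace Cfsg.Agent.CharCore

universe u

variable {G : Type u} [Group G] [Fintype G] (N : Subgroup G) [hN : N.Normal] [Fintype N]

/-- If `φ` and `θ` are constituents of the restriction of `β`, they have equal multiplicity. -/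
theorem mult_eq_of_constituents (β : Cfsg.IrrCharacter G) (θ φ : Cfsg.IrrCharacter N) {e k : ℕ}
    (he : Cfsg.classInner (fun x : N => (β : G → ℂ) x) θ = e)
    (hk : Cfsg.classInner (fun x : N => (β : G → ℂ) x) φ = k) (he0 : e ≠ 0) (hk0 : k ≠ 0) :
    k = e := by
  classical
  have hcl := CharInd.isClassFunction_indFun N (θ : N → ℂ)
  have hcl' := CharInd.isClassFunction_indFun N (φ : N → ℂ)
  have hθc := CharInd.isCharacter_indFun N (irr_isCharacter θ)
  have hφc := CharInd.isCharacter_indFun N (irr_isCharacter φ)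
  have hsum := classInner_eq_sum hcl hcl'
  choose a ha using fun χ => IsCharacter.exists_classInner_irr_eq_natCast hθc χ
  choose b hb using fun χ => IsCharacter.exists_classInner_irr_eq_natCast hφc χ
  have hswap : ∀ (ξ : Cfsg.IrrCharacter N) (j : ℕ),
      Cfsg.classInner (fun x : N => (β : G → ℂ) x) ξ = j →
      Cfsg.classInner (Cfsg.indFun N (ξ : N → ℂ)) β = j := fun ξ j hj => by
    rw [← conj_classInner, CharInd.classInner_indFun_right N _ (irr_isClassFunction β), hj,
      Complex.conj_natCast]
  have haβ : a β = e := by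
    have h := ha β
    rw [hswap θ e he] at h
    exact_mod_cast h.symm
  have hbβ : b β = k := by
    have h := hb β
    rw [hswap φ k hk] at h
    exact_mod_cast h.symm
  simp only [ha, hb, Complex.conj_natCast, ← Nat.cast_mul, ← Nat.cast_sum] at hsum
  have hne : Cfsg.classInner (Cfsg.indFun N (θ : N → ℂ)) (Cfsg.indFun N (φ : N → ℂ)) ≠ 0 := by
    rw [hsum]
    have hle : e * k ≤ ∑ χ, a χ * b χ := by
      rw [← haβ, ← hbβ]
      exact Finset.single_le_sum (f := fun χ => a χ * b χ) (fun _ _ => Nat.zero_le _)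
        (Finset.mem_univ β)
    have : 0 < e * k := Nat.mul_pos (Nat.pos_of_ne_zero he0) (Nat.pos_of_ne_zero hk0)
    exact Nat.cast_ne_zero.mpr (by omega)
  rw [OddChar.classInner_indFun_normal] at hne
  obtain ⟨g, -, hg⟩ := Finset.exists_ne_zero_of_sum_ne_zero (right_ne_zero_of_mul hne)
  obtain ⟨φg, hφg⟩ : ∃ φg : Cfsg.IrrCharacter N, (φg : N → ℂ) = OddChar.conjBy N g φ :=
    ⟨⟨_, OddChar.conjBy_isIrr N g φ.2⟩, rfl⟩
  have hθφ : θ = φg := by
    by_contra h
    have h0 := classInner_irr_of_ne h
    rw [hφg] at h0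
    exact hg h0
  have heq : Cfsg.classInner (fun x : N => (β : G → ℂ) x) θ =
      Cfsg.classInner (fun x : N => (β : G → ℂ) x) φ := by
    rw [hθφ, hφg]
    unfold Cfsg.classInner
    congr 1
    refine Fintype.sum_equiv (MulAut.conjNormal g : MulAut N).toEquiv _ _ fun x => ?_
    show (β : G → ℂ) x * _ = (β : G → ℂ) (g * x * g⁻¹) * _
    rw [irr_isClassFunction β (x : G) g]
    rfl
  rw [he, hk] at heq
  exact_mod_cast heq.symm

/-- The multiplicity of a constituent on a normal subgroup divides the degree. -/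
theorem mult_dvd_degree (β : Cfsg.IrrCharacter G) (θ : Cfsg.IrrCharacter N) {e d : ℕ}
    (he : Cfsg.classInner (fun x : N => (β : G → ℂ) x) θ = e) (he0 : e ≠ 0)
    (hd : (β : G → ℂ) 1 = d) : e ∣ d := by
  classical
  obtain ⟨m, hm⟩ := IsCharacter.exists_sum (isCharacter_restrict (irr_isCharacter β) N)
  choose f hf using fun φ : Cfsg.IrrCharacter N => IsCharacter.exists_degree (irr_isCharacter φ)
  have hd' : d = ∑ φ, m φ * f φ := by
    have h := congrFun hm 1
    simp only [Finset.sum_apply, Pi.smul_apply, smul_eq_mul, Subgroup.coe_one, hd, hf] at h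
    exact_mod_cast h
  rw [hd']
  refine Finset.dvd_sum fun φ _ => ?_
  by_cases h0 : m φ = 0
  · simp [h0]
  · rw [mult_eq_of_constituents N β θ φ he (by rw [hm, classInner_sum_all]) he0 h0]
    exact dvd_mul_right _ _

/-- Some irreducible character lies over a given one. -/
theorem exists_over (θ : Cfsg.IrrCharacter N) :
    ∃ χ : Cfsg.IrrCharacter G, Cfsg.classInner (fun x : N => (χ : G → ℂ) x) θ ≠ 0 := by
  by_contra h
  push Not at h
  have h0 : Cfsg.indFun N (θ : N → ℂ) = 0 :=
    eq_zero_of_classInner_irr_eq_zero (CharInd.isClassFunction_indFun N _) fun χ => by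
      rw [← conj_classInner, CharInd.classInner_indFun_right N _ (irr_isClassFunction χ), h χ,
        map_zero]
  have h1 := congrFun h0 1
  rw [CharInd.indFun_apply_one, Pi.zero_apply] at h1
  rcases mul_eq_zero.mp h1 with h2 | h2
  · exact N.index_ne_zero_of_finite (by exact_mod_cast h2)
  · exact irr_apply_one_ne_zero θ h2

end Cfsg.Agent.CharCore
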