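import Cfsg.Agent.Lib.CharCore.Complete

/-!
# Generalized (virtual) characters

Library `CharCore`, part 5.
-/

set_option autoImplicit false
set_option linter.unusedSectionVars false

open Module
open scoped ComplexConjugate

namespace Cfsg.Agent.CharCore

universe u

variable {G : Type u} [Group G]

theorem IsCharacter.isGeneralized {χ : G → ℂ} (h : Cfsg.IsCharacter G χ) :
    Cfsg.IsGeneralizedCharacter G χ :=
  ⟨χ, 0, h, isCharacter_zero, (sub_zero χ).symm⟩

theorem irr_isGeneralized (χ : Cfsg.IrrCharacter G) :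
    Cfsg.IsGeneralizedCharacter G (χ : G → ℂ) :=
  IsCharacter.isGeneralized (irr_isCharacter χ)

theorem isGeneralized_zero : Cfsg.IsGeneralizedCharacter G (0 : G → ℂ) :=
  IsCharacter.isGeneralized isCharacter_zero

theorem isGeneralized_one : Cfsg.IsGeneralizedCharacter G (1 : G → ℂ) :=
  IsCharacter.isGeneralized isCharacter_one

theorem isGeneralized_add {φ ψ : G → ℂ} (hφ : Cfsg.IsGeneralizedCharacter G φ)
    (hψ : Cfsg.IsGeneralizedCharacter G ψ) : Cfsg.IsGeneralizedCharacter G (φ + ψ) := by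
  obtain ⟨a, b, ha, hb, rfl⟩ := hφ
  obtain ⟨c, d, hc, hd, rfl⟩ := hψ
  exact ⟨a + c, b + d, isCharacter_add ha hc, isCharacter_add hb hd, by abel⟩

theorem isGeneralized_neg {φ : G → ℂ} (hφ : Cfsg.IsGeneralizedCharacter G φ) :
    Cfsg.IsGeneralizedCharacter G (-φ) := by
  obtain ⟨a, b, ha, hb, rfl⟩ := hφ
  exact ⟨b, a, hb, ha, by abel⟩

theorem isGeneralized_sub {φ ψ : G → ℂ} (hφ : Cfsg.IsGeneralizedCharacter G φ)
    (hψ : Cfsg.IsGeneralizedCharacter G ψ) : Cfsg.IsGeneralizedCharacter G (φ - ψ) := by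
  rw [sub_eq_add_neg]
  exact isGeneralized_add hφ (isGeneralized_neg hψ)

theorem isGeneralized_mul {φ ψ : G → ℂ} (hφ : Cfsg.IsGeneralizedCharacter G φ)
    (hψ : Cfsg.IsGeneralizedCharacter G ψ) : Cfsg.IsGeneralizedCharacter G (φ * ψ) := by
  obtain ⟨a, b, ha, hb, rfl⟩ := hφ
  obtain ⟨c, d, hc, hd, rfl⟩ := hψ
  exact ⟨a * c + b * d, a * d + b * c, isCharacter_add (isCharacter_mul ha hc) (isCharacter_mul hb hd),
    isCharacter_add (isCharacter_mul ha hd) (isCharacter_mul hb hc), by ring⟩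

theorem isGeneralized_sum {ι : Type*} (s : Finset ι) (f : ι → G → ℂ)
    (h : ∀ i ∈ s, Cfsg.IsGeneralizedCharacter G (f i)) :
    Cfsg.IsGeneralizedCharacter G (∑ i ∈ s, f i) :=
  Finset.sum_induction f (Cfsg.IsGeneralizedCharacter G) (fun _ _ => isGeneralized_add)
    isGeneralized_zero h

theorem isGeneralized_intCast_smul {φ : G → ℂ} (hφ : Cfsg.IsGeneralizedCharacter G φ) (k : ℤ) :
    Cfsg.IsGeneralizedCharacter G ((k : ℂ) • φ) := by
  obtain ⟨a, b, ha, hb, rfl⟩ := hφ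
  rcases Int.eq_nat_or_neg k with ⟨n, rfl | rfl⟩
  · exact ⟨_, _, isCharacter_natCast_smul ha n, isCharacter_natCast_smul hb n,
      by simp [smul_sub]⟩
  · exact ⟨_, _, isCharacter_natCast_smul hb n, isCharacter_natCast_smul ha n,
      by simp [smul_sub]; abel⟩

theorem isGeneralized_comp {H : Type*} [Group H] {φ : G → ℂ}
    (hφ : Cfsg.IsGeneralizedCharacter G φ) (f : H →* G) :
    Cfsg.IsGeneralizedCharacter H (fun h => φ (f h)) := by
  obtain ⟨a, b, ha, hb, rfl⟩ := hφ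
  exact ⟨_, _, isCharacter_comp ha f, isCharacter_comp hb f, rfl⟩

theorem isGeneralized_restrict {φ : G → ℂ} (hφ : Cfsg.IsGeneralizedCharacter G φ)
    (H : Subgroup G) : Cfsg.IsGeneralizedCharacter H (fun h : H => φ h) :=
  isGeneralized_comp hφ H.subtype

theorem IsGeneralizedCharacter.isClassFunction {φ : G → ℂ}
    (hφ : Cfsg.IsGeneralizedCharacter G φ) : Cfsg.IsClassFunction G φ := by
  obtain ⟨a, b, ha, hb, rfl⟩ := hφ
  intro g h
  simp [IsCharacter.isClassFunction ha g h, IsCharacter.isClassFunction hb g h]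

theorem IsGeneralizedCharacter.exists_degree {φ : G → ℂ}
    (hφ : Cfsg.IsGeneralizedCharacter G φ) : ∃ k : ℤ, φ 1 = k := by
  obtain ⟨a, b, ha, hb, rfl⟩ := hφ
  obtain ⟨m, hm⟩ := IsCharacter.exists_degree ha
  obtain ⟨n, hn⟩ := IsCharacter.exists_degree hb
  exact ⟨(m : ℤ) - n, by simp [hm, hn]⟩

section Finite

variable [Finite G]

theorem IsGeneralizedCharacter.apply_inv {φ : G → ℂ} (hφ : Cfsg.IsGeneralizedCharacter G φ)
    (g : G) : φ g⁻¹ = conj (φ g) := by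
  obtain ⟨a, b, ha, hb, rfl⟩ := hφ
  simp [IsCharacter.apply_inv ha, IsCharacter.apply_inv hb]

theorem IsGeneralizedCharacter.star {φ : G → ℂ} (hφ : Cfsg.IsGeneralizedCharacter G φ) :
    Cfsg.IsGeneralizedCharacter G (fun g => conj (φ g)) := by
  obtain ⟨a, b, ha, hb, rfl⟩ := hφ
  exact ⟨_, _, IsCharacter.star ha, IsCharacter.star hb, funext fun g => by simp⟩

theorem IsGeneralizedCharacter.isIntegral {φ : G → ℂ} (hφ : Cfsg.IsGeneralizedCharacter G φ)
    (g : G) : IsIntegral ℤ (φ g) := by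
  obtain ⟨a, b, ha, hb, rfl⟩ := hφ
  exact (IsCharacter.isIntegral ha g).sub (IsCharacter.isIntegral hb g)

theorem isGeneralized_sum_irr (m : Cfsg.IrrCharacter G → ℤ) :
    Cfsg.IsGeneralizedCharacter G (∑ ψ, (m ψ : ℂ) • (ψ : G → ℂ)) :=
  isGeneralized_sum _ _ fun ψ _ => isGeneralized_intCast_smul (irr_isGeneralized ψ) _

theorem IsGeneralizedCharacter.exists_sum {φ : G → ℂ} (hφ : Cfsg.IsGeneralizedCharacter G φ) :
    ∃ m : Cfsg.IrrCharacter G → ℤ, φ = ∑ ψ, (m ψ : ℂ) • (ψ : G → ℂ) := by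
  obtain ⟨a, b, ha, hb, rfl⟩ := hφ
  obtain ⟨m, rfl⟩ := IsCharacter.exists_sum ha
  obtain ⟨n, rfl⟩ := IsCharacter.exists_sum hb
  exact ⟨fun ψ => (m ψ : ℤ) - n ψ, by simp [sub_smul, Finset.sum_sub_distrib]⟩

end Finite

section Fint

variable [Fintype G]

theorem IsGeneralizedCharacter.exists_classInner_irr_eq_intCast {φ : G → ℂ}
    (hφ : Cfsg.IsGeneralizedCharacter G φ) (ψ : Cfsg.IrrCharacter G) :
    ∃ k : ℤ, Cfsg.classInner φ ψ = k := by
  obtain ⟨m, rfl⟩ := IsGeneralizedCharacter.exists_sum hφ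
  exact ⟨m ψ, classInner_sum_all _ ψ⟩

theorem IsGeneralizedCharacter.exists_classInner_eq_intCast {φ ψ : G → ℂ}
    (hφ : Cfsg.IsGeneralizedCharacter G φ) (hψ : Cfsg.IsGeneralizedCharacter G ψ) :
    ∃ k : ℤ, Cfsg.classInner φ ψ = k := by
  obtain ⟨m, rfl⟩ := IsGeneralizedCharacter.exists_sum hφ
  obtain ⟨l, rfl⟩ := IsGeneralizedCharacter.exists_sum hψ
  exact ⟨∑ θ, m θ * l θ, by simp [classInner_sum_sum]⟩

theorem isGeneralizedCharacter_iff {φ : G → ℂ} :
    Cfsg.IsGeneralizedCharacter G φ ↔ Cfsg.IsClassFunction G φ ∧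
      ∀ ψ : Cfsg.IrrCharacter G, ∃ k : ℤ, Cfsg.classInner φ ψ = k := by
  refine ⟨fun h => ⟨IsGeneralizedCharacter.isClassFunction h,
    fun ψ => IsGeneralizedCharacter.exists_classInner_irr_eq_intCast h ψ⟩, ?_⟩
  rintro ⟨hcl, hint⟩
  choose k hk using hint
  rw [eq_sum_classInner hcl]
  simp only [hk]
  exact isGeneralized_sum_irr k

theorem isCharacter_iff_classInner {φ : G → ℂ} :
    Cfsg.IsCharacter G φ ↔ Cfsg.IsClassFunction G φ ∧
      ∀ ψ : Cfsg.IrrCharacter G, ∃ k : ℕ, Cfsg.classInner φ ψ = k := by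
  refine ⟨fun h => ⟨IsCharacter.isClassFunction h,
    fun ψ => IsCharacter.exists_classInner_irr_eq_natCast h ψ⟩, ?_⟩
  rintro ⟨hcl, hnat⟩
  choose k hk using hnat
  rw [eq_sum_classInner hcl]
  simp only [hk]
  exact isCharacter_sum_irr k

/-- A generalized character of norm one is plus or minus an irreducible character. -/
theorem IsGeneralizedCharacter.exists_irr_of_norm_one {φ : G → ℂ}
    (hφ : Cfsg.IsGeneralizedCharacter G φ) (h1 : Cfsg.classInner φ φ = 1) :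
    ∃ χ : Cfsg.IrrCharacter G, φ = (χ : G → ℂ) ∨ φ = -(χ : G → ℂ) := by
  classical
  obtain ⟨m, rfl⟩ := IsGeneralizedCharacter.exists_sum hφ
  simp only [classInner_sum_sum, map_intCast] at h1
  have h2 : ∑ ψ, m ψ * m ψ = 1 := by exact_mod_cast h1
  obtain ⟨χ, -, hχ⟩ := Finset.exists_ne_zero_of_sum_ne_zero (h2.trans_ne one_ne_zero)
  have h3 := Finset.add_sum_erase Finset.univ (fun ψ => m ψ * m ψ) (Finset.mem_univ χ)
  have h4 : 0 ≤ ∑ ψ ∈ Finset.univ.erase χ, m ψ * m ψ :=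
    Finset.sum_nonneg fun ψ _ => mul_self_nonneg _
  have h5 : 1 ≤ m χ * m χ := by
    rcases (mul_self_nonneg (m χ)).lt_or_eq with h | h <;> omega
  have h6 : ∑ ψ ∈ Finset.univ.erase χ, m ψ * m ψ = 0 := by omega
  have hrest : ∀ ψ, ψ ≠ χ → m ψ = 0 := fun ψ hψ => by
    simpa using (Finset.sum_eq_zero_iff_of_nonneg fun ψ _ => mul_self_nonneg (m ψ)).mp h6 ψ
      (by simp [hψ])
  have hone : m χ = 1 ∨ m χ = -1 := by
    have h8 : m χ * m χ = 1 := by omega
    exact Int.eq_one_or_neg_one_of_mul_eq_one h8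
  refine ⟨χ, ?_⟩
  rw [Finset.sum_eq_single χ (fun ψ _ hψ => by simp [hrest ψ hψ]) (by simp)]
  rcases hone with h | h <;> simp [h]

/-- A generalized character of norm one, positive at `1`, is irreducible. -/
theorem IsGeneralizedCharacter.isIrr_of_norm_one {φ : G → ℂ}
    (hφ : Cfsg.IsGeneralizedCharacter G φ) (h1 : Cfsg.classInner φ φ = 1)
    (hpos : 0 < (φ 1).re) : Cfsg.IsIrrCharacter G φ := by
  obtain ⟨χ, rfl | rfl⟩ := IsGeneralizedCharacter.exists_irr_of_norm_one hφ h1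
  · exact χ.2
  · exfalso
    obtain ⟨n, hn, hdeg⟩ := IsIrrCharacter.exists_degree χ.2
    simp [hdeg] at hpos
    linarith [Nat.cast_nonneg (α := ℝ) n]

end Fint

end Cfsg.Agent.CharCore
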