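import Cfsg.Agent.Lib.CharCore.Basic
import Mathlib.Algebra.Group.ConjFinite
import Mathlib.GroupTheory.GroupAction.ConjAct

/-!
# Completeness of the irreducible characters, second orthogonality, counting

Library `CharCore`, part 4.
-/

set_option autoImplicit false
set_option linter.unusedSectionVars false

open Module
open scoped ComplexConjugate

namespace Cfsg.Agent.CharCore

universe u v

variable {G : Type u} [Group G]

section Fint

variable [Fintype G]

/-- The averaged operator `∑ f(g) ρ(g⁻¹)`. -/
noncomputable def twistedSum (f : G → ℂ) {V : Type v} [AddCommGroup V] [Module ℂ V]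
    (ρ : Representation ℂ G V) : Module.End ℂ V :=
  ∑ g : G, f g • ρ g⁻¹

theorem twistedSum_commute {f : G → ℂ} (hf : Cfsg.IsClassFunction G f) {V : Type v}
    [AddCommGroup V] [Module ℂ V] (ρ : Representation ℂ G V) (h : G) :
    twistedSum f ρ * ρ h = ρ h * twistedSum f ρ := by
  rw [twistedSum, Finset.sum_mul, Finset.mul_sum]
  refine Fintype.sum_equiv (MulAut.conj h⁻¹).toEquiv _ _ fun g => ?_
  have hg : f (h⁻¹ * g * h) = f g := by
    have := hf g h⁻¹
    rwa [inv_inv] at this
  simp only [MulEquiv.toEquiv_eq_coe, MulEquiv.coe_toEquiv, MulAut.conj_apply, inv_inv,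
    smul_mul_assoc, mul_smul_comm, hg, ← map_mul]
  congr 2
  group

theorem trace_twistedSum (f : G → ℂ) {V : Type v} [AddCommGroup V] [Module ℂ V]
    [FiniteDimensional ℂ V] (ρ : Representation ℂ G V) :
    LinearMap.trace ℂ V (twistedSum f ρ) = (Nat.card G : ℂ) * Cfsg.classInner f ρ.character := by
  rw [classInner_eq_inv f (isCharacter_character ρ),
    mul_inv_cancel_left₀ (Nat.cast_ne_zero.mpr Nat.card_pos.ne'), twistedSum, map_sum]
  exact Finset.sum_congr rfl fun g _ => by rw [map_smul]; rfl

theorem twistedSum_eq_zero_of_irreducible {f : G → ℂ} (hf : Cfsg.IsClassFunction G f)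
    (h0 : ∀ χ : Cfsg.IrrCharacter G, Cfsg.classInner f χ = 0) {V : Type v} [AddCommGroup V]
    [Module ℂ V] [FiniteDimensional ℂ V] (ρ : Representation ℂ G V) [ρ.IsIrreducible] :
    twistedSum f ρ = 0 := by
  let T : Representation.IntertwiningMap ρ ρ :=
    ⟨twistedSum f ρ, fun g => twistedSum_commute hf ρ g⟩
  obtain ⟨c, hc⟩ :=
    (Representation.IsIrreducible.algebraMap_intertwiningMap_bijective_of_isAlgClosed (k := ℂ)
      (ρ := ρ)).2 T
  have hc' : twistedSum f ρ = c • (1 : Module.End ℂ V) := by
    have h := congrArg Representation.IntertwiningMap.toLinearMap hc.symm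
    simpa [T, Representation.IntertwiningMap.toLinearMap_smul] using! h
  have htr := trace_twistedSum f ρ
  rw [h0 ⟨_, isIrrCharacter_character ρ⟩, mul_zero, hc', map_smul, LinearMap.trace_one] at htr
  rcases smul_eq_zero.mp htr with h | h
  · rw [hc', h, zero_smul]
  · exact absurd h (by exact_mod_cast (finrank_pos_of_irreducible ρ).ne')

theorem twistedSum_eq_zero {f : G → ℂ} (hf : Cfsg.IsClassFunction G f)
    (h0 : ∀ χ : Cfsg.IrrCharacter G, Cfsg.classInner f χ = 0) {V : Type v} [AddCommGroup V]
    [Module ℂ V] [FiniteDimensional ℂ V] (ρ : Representation ℂ G V) :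
    twistedSum f ρ = 0 := by
  refine rep_induction (motive := fun V _ _ ρ => twistedSum f ρ = 0) ?_
    (fun V _ _ _ ρ hρ => twistedSum_eq_zero_of_irreducible hf h0 ρ) ?_ V ρ
  · intro V _ _ _ ρ hV
    exact Subsingleton.elim _ _
  · intro V _ _ _ ρ S T hST _ _ hS hT
    refine LinearMap.ext fun v => ?_
    obtain ⟨a, ha, b, hb, rfl⟩ :=
      Submodule.mem_sup.mp (hST.sup_eq_top ▸ Submodule.mem_top : v ∈ S.toSubmodule ⊔ T.toSubmodule)
    have key : ∀ (U : Subrepresentation ρ) (u : V) (hu : u ∈ U.toSubmodule),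
        twistedSum f U.toRepresentation = 0 → twistedSum f ρ u = 0 := by
      intro U u hu h
      have h' := congrArg (U.toSubmodule.subtype) (LinearMap.congr_fun h ⟨u, hu⟩)
      simpa [twistedSum, LinearMap.sum_apply, Subrepresentation.toRepresentation] using! h'
    simp [map_add, key S a ha hS, key T b hb hT]

/-- The regular representation on functions. -/
noncomputable def regularRep (G : Type u) [Group G] : Representation ℂ G (G → ℂ) where
  toFun g := LinearMap.funLeft ℂ ℂ (fun x => g⁻¹ * x)
  map_one' := by ext φ x; simp [LinearMap.funLeft]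
  map_mul' g h := by ext φ x; simp [LinearMap.funLeft, mul_assoc]

/-- A class function orthogonal to all irreducible characters is zero. -/
theorem eq_zero_of_classInner_irr_eq_zero {f : G → ℂ} (hf : Cfsg.IsClassFunction G f)
    (h0 : ∀ χ : Cfsg.IrrCharacter G, Cfsg.classInner f χ = 0) : f = 0 := by
  classical
  funext g
  have h := congrFun (LinearMap.congr_fun (twistedSum_eq_zero hf h0 (regularRep G))
    (Pi.single (1 : G) (1 : ℂ))) g⁻¹
  simpa [twistedSum, regularRep, LinearMap.sum_apply, LinearMap.funLeft, Pi.single_apply,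
    mul_inv_eq_one] using h

theorem isClassFunction_sum_irr (c : Cfsg.IrrCharacter G → ℂ) :
    Cfsg.IsClassFunction G (∑ ψ, c ψ • (ψ : G → ℂ)) := by
  intro g h
  simp only [Finset.sum_apply, Pi.smul_apply]
  exact Finset.sum_congr rfl fun ψ _ => by rw [irr_isClassFunction ψ g h]

/-- A class function is the combination of irreducible characters given by inner products. -/
theorem eq_sum_classInner {f : G → ℂ} (hf : Cfsg.IsClassFunction G f) :
    f = ∑ χ : Cfsg.IrrCharacter G, Cfsg.classInner f χ • (χ : G → ℂ) := by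
  rw [← sub_eq_zero]
  refine eq_zero_of_classInner_irr_eq_zero (fun g h => ?_) fun χ => ?_
  · simp only [Pi.sub_apply]
    rw [hf g h, isClassFunction_sum_irr _ g h]
  · rw [classInner_sub_left, classInner_sum_all, sub_self]

theorem classFunction_ext {f f' : G → ℂ} (hf : Cfsg.IsClassFunction G f)
    (hf' : Cfsg.IsClassFunction G f')
    (h : ∀ χ : Cfsg.IrrCharacter G, Cfsg.classInner f χ = Cfsg.classInner f' χ) : f = f' := by
  rw [eq_sum_classInner hf, eq_sum_classInner hf']
  simp [h]

/-- Parseval. -/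
theorem classInner_eq_sum {f f' : G → ℂ} (hf : Cfsg.IsClassFunction G f)
    (hf' : Cfsg.IsClassFunction G f') :
    Cfsg.classInner f f' =
      ∑ χ : Cfsg.IrrCharacter G, Cfsg.classInner f χ * conj (Cfsg.classInner f' χ) := by
  conv_lhs => rw [eq_sum_classInner hf, eq_sum_classInner hf']
  exact classInner_sum_sum _ _

/-- Regular character: `∑ χ(1) χ(g) = |G| [g = 1]`. -/
theorem sum_degree_mul_apply [DecidableEq G] (g : G) :
    ∑ χ : Cfsg.IrrCharacter G, (χ : G → ℂ) 1 * (χ : G → ℂ) g =
      if g = 1 then (Nat.card G : ℂ) else 0 := by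
  let δ : G → ℂ := fun x => if x = 1 then 1 else 0
  have hδ : Cfsg.IsClassFunction G δ := fun x h => by simp [δ]
  have hN : (Nat.card G : ℂ) ≠ 0 := Nat.cast_ne_zero.mpr Nat.card_pos.ne'
  have hin : ∀ χ : Cfsg.IrrCharacter G,
      Cfsg.classInner δ χ = (Nat.card G : ℂ)⁻¹ * (χ : G → ℂ) 1 := fun χ => by
    rw [classInner_eq_inv _ (irr_isCharacter χ)]
    simp [δ]
  have h := congrFun (eq_sum_classInner hδ) g
  simp only [Finset.sum_apply, Pi.smul_apply, smul_eq_mul, hin, mul_assoc, ← Finset.mul_sum] at h
  rw [eq_inv_mul_iff_mul_eq₀ hN] at h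
  rw [← h]
  simp [δ, mul_ite]

theorem sum_degree_sq : ∑ χ : Cfsg.IrrCharacter G, (χ : G → ℂ) 1 ^ 2 = (Nat.card G : ℂ) := by
  classical
  have h := sum_degree_mul_apply (1 : G)
  simpa [sq] using h

open scoped Classical in
/-- Second orthogonality relation. -/
theorem sum_apply_mul_conj (g h : G) :
    ∑ χ : Cfsg.IrrCharacter G, (χ : G → ℂ) g * conj ((χ : G → ℂ) h) =
      if IsConj g h then (Nat.card (Subgroup.centralizer ({g} : Set G)) : ℂ) else 0 := by
  let δ : G → ℂ := fun x => if IsConj h x then 1 else 0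
  have hδ : Cfsg.IsClassFunction G δ := fun x y => by
    have : IsConj x (y * x * y⁻¹) := isConj_iff.mpr ⟨y, rfl⟩
    have hiff : IsConj h (y * x * y⁻¹) ↔ IsConj h x :=
      ⟨fun h' => h'.trans this.symm, fun h' => h'.trans this⟩
    simp only [δ, hiff]
  let S : Finset G := Finset.univ.filter fun x => IsConj h x
  have hin : ∀ χ : Cfsg.IrrCharacter G, Cfsg.classInner δ χ =
      (Nat.card G : ℂ)⁻¹ * ((S.card : ℂ) * conj ((χ : G → ℂ) h)) := fun χ => by
    simp only [Cfsg.classInner, δ, ite_mul, one_mul, zero_mul, ← Finset.sum_filter]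
    rw [Finset.sum_congr rfl (g := fun _ => conj ((χ : G → ℂ) h)) (fun x hx => ?_),
      Finset.sum_const, nsmul_eq_mul]
    obtain ⟨c, rfl⟩ := isConj_iff.mp (Finset.mem_filter.mp hx).2
    rw [irr_isClassFunction χ h c]
  have hN : (Nat.card G : ℂ) ≠ 0 := Nat.cast_ne_zero.mpr Nat.card_pos.ne'
  have e := congrFun (eq_sum_classInner hδ) g
  simp only [Finset.sum_apply, Pi.smul_apply, smul_eq_mul, hin] at e
  have e' : (Nat.card G : ℂ) * δ g = (S.card : ℂ) *
      ∑ χ : Cfsg.IrrCharacter G, (χ : G → ℂ) g * conj ((χ : G → ℂ) h) := by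
    rw [e, Finset.mul_sum, Finset.mul_sum]
    exact Finset.sum_congr rfl fun χ _ => by field_simp
  have hS0 : (S.card : ℂ) ≠ 0 := by
    exact_mod_cast (Finset.card_pos.mpr ⟨h, Finset.mem_filter.mpr ⟨Finset.mem_univ _, IsConj.refl h⟩⟩).ne'
  have hiff : IsConj h g ↔ IsConj g h := ⟨IsConj.symm, IsConj.symm⟩
  split_ifs with hc
  · have hS : S.card * Nat.card (Subgroup.centralizer ({g} : Set G)) = Nat.card G := by
      have h1 := Subgroup.index_mul_card (Subgroup.centralizer ({g} : Set G))
      have h2 : (Subgroup.centralizer ({g} : Set G)).index = S.card := by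
        rw [Subgroup.centralizer_eq_comap_stabilizer]
        refine (Subgroup.index_comap_of_surjective _ (ConjAct.toConjAct (G := G)).surjective).trans ?_
        rw [MulAction.index_stabilizer, ConjAct.orbit_eq_carrier_conjClasses,
          Set.ncard_eq_toFinset_card']
        congr 1
        ext x
        simp only [Set.mem_toFinset, ConjClasses.mem_carrier_iff_mk_eq,
          ConjClasses.mk_eq_mk_iff_isConj, S, Finset.mem_filter, Finset.mem_univ, true_and]
        exact ⟨fun h' => hc.symm.trans h'.symm, fun h' => h'.symm.trans hc.symm⟩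
      rw [h2] at h1
      exact h1
    have hd : δ g = 1 := if_pos (hiff.mpr hc)
    rw [hd, mul_one] at e'
    refine mul_left_cancel₀ hS0 (e'.symm.trans ?_)
    exact_mod_cast hS.symm
  · have hd : δ g = 0 := if_neg fun h' => hc (hiff.mp h')
    rw [hd, mul_zero] at e'
    exact (mul_eq_zero.mp e'.symm).resolve_left hS0

end Fint

variable [Finite G]

theorem finsum_irr {M : Type*} [AddCommMonoid M] (f : Cfsg.IrrCharacter G → M) :
    ∑ᶠ χ, f χ = ∑ χ, f χ :=
  finsum_eq_sum_of_fintype f

theorem isConj_iff_forall_irr (g h : G) :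
    IsConj g h ↔ ∀ χ : Cfsg.IrrCharacter G, (χ : G → ℂ) g = (χ : G → ℂ) h := by
  classical
  have := Fintype.ofFinite G
  constructor
  · intro hgh χ
    obtain ⟨c, rfl⟩ := isConj_iff.mp hgh
    exact (irr_isClassFunction χ g c).symm
  · intro heq
    by_contra hc
    have h1 := sum_apply_mul_conj g h
    have h2 := sum_apply_mul_conj h h
    rw [if_neg hc] at h1
    rw [if_pos (IsConj.refl h)] at h2
    simp only [heq] at h1
    rw [h1] at h2
    exact Nat.card_pos.ne' (by exact_mod_cast h2.symm)

/-- The irreducible characters as a basis-change between functions on classes and functions on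
irreducible characters. -/
noncomputable def classEquiv [Fintype G] :
    (ConjClasses G → ℂ) ≃ₗ[ℂ] (Cfsg.IrrCharacter G → ℂ) where
  toFun F χ := Cfsg.classInner (fun g => F (ConjClasses.mk g)) χ
  map_add' F F' := funext fun χ => classInner_add_left _ _ _
  map_smul' c F := funext fun χ => classInner_smul_left _ _ _
  invFun c := fun C => Quotient.liftOn C (fun g => ∑ χ, c χ • (χ : G → ℂ) g) fun a b hab =>
    Finset.sum_congr rfl fun χ _ => by rw [(isConj_iff_forall_irr a b).mp hab χ]
  left_inv F := funext fun C => by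
    induction C using ConjClasses.forall_isConj.mpr with
    | _ g =>
      have hcl : Cfsg.IsClassFunction G (fun g => F (ConjClasses.mk g)) := fun x y => by
        simp only [ConjClasses.mk_eq_mk_iff_isConj.mpr (isConj_iff.mpr ⟨y, rfl⟩ :
          IsConj x (y * x * y⁻¹))]
      have h := congrFun (eq_sum_classInner hcl) g
      simp only [Finset.sum_apply, Pi.smul_apply] at h
      exact h.symm
  right_inv c := funext fun χ => by
    have : (fun g : G => ∑ ψ : Cfsg.IrrCharacter G, c ψ • (ψ : G → ℂ) g) =
        ∑ ψ, c ψ • (ψ : G → ℂ) := by funext g; simp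
    show Cfsg.classInner (fun g : G => ∑ ψ : Cfsg.IrrCharacter G, c ψ • (ψ : G → ℂ) g) χ = c χ
    rw [this, classInner_sum_all]

theorem card_irr : Nat.card (Cfsg.IrrCharacter G) = Nat.card (ConjClasses G) := by
  have := Fintype.ofFinite G
  have := Fintype.ofFinite (ConjClasses G)
  have h := LinearEquiv.finrank_eq (classEquiv (G := G))
  rw [Module.finrank_fintype_fun_eq_card, Module.finrank_fintype_fun_eq_card] at h
  simp [Nat.card_eq_fintype_card, h]

end Cfsg.Agent.CharCore
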