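import Cfsg.Agent.Lib.CharCore.Basic
import Cfsg.Agent.Lib.CharClifford.Central
import Mathlib.GroupTheory.PGroup
import Mathlib.GroupTheory.GroupAction.Quotient

/-!
# Congruences modulo a prime in the algebraic integers; orbit congruences

Library `CharCore`, part 10.
-/

set_option autoImplicit false
set_option linter.unusedSectionVars false

namespace Cfsg.Agent.CharCore

/-- `x` is `p` times an algebraic integer. -/
def ModP (p : ℕ) (x : ℂ) : Prop := ∃ z : ℂ, IsIntegral ℤ z ∧ x = p * z

variable {p : ℕ}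

theorem ModP.zero : ModP p 0 := ⟨0, isIntegral_zero, by simp⟩

theorem ModP.add {x y : ℂ} (hx : ModP p x) (hy : ModP p y) : ModP p (x + y) := by
  obtain ⟨z, hz, rfl⟩ := hx
  obtain ⟨w, hw, rfl⟩ := hy
  exact ⟨z + w, hz.add hw, by ring⟩

theorem ModP.neg {x : ℂ} (hx : ModP p x) : ModP p (-x) := by
  obtain ⟨z, hz, rfl⟩ := hx
  exact ⟨-z, hz.neg, by ring⟩

theorem ModP.sub {x y : ℂ} (hx : ModP p x) (hy : ModP p y) : ModP p (x - y) := by
  rw [sub_eq_add_neg]; exact hx.add hy.neg

theorem ModP.mul_left {a x : ℂ} (ha : IsIntegral ℤ a) (hx : ModP p x) : ModP p (a * x) := by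
  obtain ⟨z, hz, rfl⟩ := hx
  exact ⟨a * z, ha.mul hz, by ring⟩

theorem ModP.mul_right {a x : ℂ} (ha : IsIntegral ℤ a) (hx : ModP p x) : ModP p (x * a) := by
  rw [mul_comm]; exact hx.mul_left ha

theorem ModP.sum {ι : Type*} (s : Finset ι) (f : ι → ℂ) (h : ∀ i ∈ s, ModP p (f i)) :
    ModP p (∑ i ∈ s, f i) :=
  Finset.sum_induction f (ModP p) (fun _ _ => ModP.add) ModP.zero h

theorem isIntegral_natCast (n : ℕ) : IsIntegral ℤ (n : ℂ) := by
  simpa using isIntegral_algebraMap (R := ℤ) (A := ℂ) (x := (n : ℤ))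

theorem ModP.of_dvd {n : ℕ} (h : p ∣ n) : ModP p (n : ℂ) := by
  obtain ⟨k, rfl⟩ := h
  exact ⟨k, isIntegral_natCast k, by push_cast; ring⟩

theorem modP_natCast_iff {n : ℕ} : ModP p (n : ℂ) ↔ p ∣ n :=
  ⟨fun ⟨_, hz, h⟩ => CharClifford.dvd_of_mul_isIntegral hz h, ModP.of_dvd⟩

theorem modP_intCast_iff {k : ℤ} : ModP p (k : ℂ) ↔ (p : ℤ) ∣ k := by
  rcases Int.eq_nat_or_neg k with ⟨n, rfl | rfl⟩
  · rw [Int.cast_natCast, modP_natCast_iff, Int.natCast_dvd_natCast]
  · rw [Int.cast_neg, Int.cast_natCast, dvd_neg, Int.natCast_dvd_natCast, ← modP_natCast_iff]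
    exact ⟨fun h => by simpa using h.neg, ModP.neg⟩

open Classical in
/-- For a `p`-group acting on a finite set, a sum of an invariant integral function is congruent
to the sum over the fixed points. -/
theorem modP_sum_sub_sum_fixed [Fact p.Prime] {A X : Type*} [Group A] [MulAction A X]
    [Fintype X] (hA : IsPGroup p A) (F : X → ℂ) (hint : ∀ x, IsIntegral ℤ (F x))
    (hinv : ∀ (a : A) (x : X), F (a • x) = F x) :
    ModP p (∑ x, F x - ∑ x ∈ Finset.univ.filter (fun x => ∀ a : A, a • x = x), F x) := by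
  rw [← Finset.sum_filter_add_sum_filter_not Finset.univ (fun x => ∀ a : A, a • x = x),
    add_sub_cancel_left]
  let mk : X → Quotient (MulAction.orbitRel A X) := Quotient.mk _
  have := Fintype.ofFinite (Quotient (MulAction.orbitRel A X))
  rw [← Finset.sum_fiberwise _ mk]
  refine ModP.sum _ _ fun q _ => ?_
  obtain ⟨x, rfl⟩ : ∃ x, mk x = q := Quotient.exists_rep q
  have hmk : ∀ y, mk y = mk x ↔ y ∈ MulAction.orbit A x := fun y =>
    Quotient.eq.trans MulAction.orbitRel_apply
  by_cases hfix : ∀ a : A, a • x = x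
  · rw [Finset.sum_eq_zero fun y hy => ?_]
    · exact ModP.zero
    · simp only [Finset.mem_filter, Finset.mem_univ, true_and, hmk] at hy
      obtain ⟨hy1, a, ha⟩ := hy
      exact absurd (fun b => by rw [← ha]; simp [hfix]) hy1
  · have hset : (Finset.univ.filter (fun y => ¬ ∀ a : A, a • y = y)).filter
        (fun y => mk y = mk x) = (MulAction.orbit A x).toFinset := by
      ext y
      simp only [Finset.mem_filter, Finset.mem_univ, true_and, Set.mem_toFinset, hmk]
      refine ⟨And.right, fun hy => ⟨fun hall => ?_, hy⟩⟩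
      obtain ⟨a, rfl⟩ := hy
      exact hfix fun b => by
        have h1 := hall (a⁻¹)
        rw [inv_smul_smul] at h1
        rw [h1]; exact hall b
    rw [hset, Finset.sum_congr rfl (g := fun _ => F x) fun y hy => ?_, Finset.sum_const,
      nsmul_eq_mul]
    · refine (ModP.of_dvd ?_).mul_right (hint x)
      obtain ⟨n, hn⟩ := hA.card_orbit x
      have hc : (MulAction.orbit A x).toFinset.card = p ^ n := by
        rw [← hn, Nat.card_eq_fintype_card, Set.toFinset_card]
      rcases Nat.eq_zero_or_pos n with rfl | hn0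
      · exfalso
        refine hfix fun a => ?_
        rw [pow_zero, Finset.card_eq_one] at hc
        obtain ⟨y, hy⟩ := hc
        have h1 : a • x ∈ (MulAction.orbit A x).toFinset := by simp
        have h2 : x ∈ (MulAction.orbit A x).toFinset := by simp
        rw [hy, Finset.mem_singleton] at h1 h2
        rw [h1, h2]
      · rw [hc]; exact dvd_pow_self p hn0.ne'
    · obtain ⟨a, rfl⟩ := Set.mem_toFinset.mp hy
      exact hinv a x

end Cfsg.Agent.CharCore
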