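import Cfsg.Agent.Lib.CharCore.SubsectionContrib

/-!
# Rows of the contribution matrix of a subsection

Galois averaged row sums, and for `p = 2` the integrality and parity of the averaged diagonal.

Library `CharCore`, part 26.
-/

set_option autoImplicit false
set_option linter.unusedSectionVars false

open scoped ComplexConjugate

namespace Cfsg.Agent.CharCore.SubContrib

open BlocksCore BlocksDefect Cfsg.Agent.CharCore.PPCyc Cfsg.Agent.CharCore

universe u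

section General

variable {G : Type u} [Group G] [Fintype G] {p : ℕ} [Fact p.Prime] {M : Ideal Cfsg.AlgInt}
  {u : G} [Fintype (Subgroup.centralizer ({u} : Set G))]
  (e : Set (Cfsg.IrrCharacter (Subgroup.centralizer ({u} : Set G))))
  {B : Set (Cfsg.IrrCharacter G)} {k : ℕ}

theorem avg_pow_mul (hp : p.Prime) (h : ℕ) (z : ℂ) :
    avg p k ((p : ℂ) ^ h * z) = (p : ℝ) ^ h * avg p k z := by
  rw [← Nat.cast_pow, avg_natCast_mul, Nat.cast_pow]

theorem row_sum (hM : Cfsg.IsPModular p M) (hu : ∃ j : ℕ, orderOf u = p ^ j)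
    (he : Cfsg.IsInducedBlock M (Subgroup.centralizer ({u} : Set G)) e B)
    (χ : Cfsg.IrrCharacter G) :
    ∑ ψ ∈ mems B, avg p k (contrib p e χ ψ * conj (contrib p e χ ψ)) =
      (p : ℝ) ^ Cfsg.blockDefect p e * avg p k (contrib p e χ χ) := by
  rw [← avg_pow_mul hM.1, ← contrib_idem e hM hu he χ χ, avg_sum]
  exact Finset.sum_congr rfl fun ψ _ => by rw [conj_contrib]

theorem sum_avg_self (hM : Cfsg.IsPModular p M) (hu : ∃ j : ℕ, orderOf u = p ^ j)
    (he : Cfsg.IsInducedBlock M (Subgroup.centralizer ({u} : Set G)) e B) :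
    ∑ χ ∈ mems B, avg p k (contrib p e χ χ) =
      (p : ℝ) ^ Cfsg.blockDefect p e * (Cfsg.blockRank p e : ℝ) := by
  rw [← avg_sum, sum_contrib_self e hM hu he, avg_pow_mul hM.1, avg_natCast hM.1]

theorem avg_self_nonneg (hM : Cfsg.IsPModular p M) (hu : ∃ j : ℕ, orderOf u = p ^ j)
    (hk : u ^ p ^ (k + 1) = 1)
    (he : Cfsg.IsInducedBlock M (Subgroup.centralizer ({u} : Set G)) e B)
    (χ : Cfsg.IrrCharacter G) : 0 ≤ avg p k (contrib p e χ χ) := by
  have h := row_sum e hM hu he (k := k) χ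
  have h1 : 0 ≤ ∑ ψ ∈ mems B, avg p k (contrib p e χ ψ * conj (contrib p e χ ψ)) :=
    Finset.sum_nonneg fun ψ _ => avg_mul_conj_nonneg hM.1 (contrib_mem e hM he.1 hk χ ψ)
  rw [h] at h1
  exact nonneg_of_mul_nonneg_right h1 (pow_pos (by exact_mod_cast hM.1.pos) _)

/-- A height zero row of a major subsection has entries at least `p ^ height`. -/
theorem major_entry_bound (hM : Cfsg.IsPModular p M) (hu : ∃ j : ℕ, orderOf u = p ^ j)
    (hk : u ^ p ^ (k + 1) = 1)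
    (he : Cfsg.IsInducedBlock M (Subgroup.centralizer ({u} : Set G)) e B)
    (hd : Cfsg.blockDefect p e = Cfsg.blockDefect p B) {χ ψ : Cfsg.IrrCharacter G} (hχ : χ ∈ B)
    (h0 : Cfsg.blockHeight p B (χ : G → ℂ) = 0) (hψ : ψ ∈ B) :
    ((p : ℝ) ^ Cfsg.blockHeight p B (ψ : G → ℂ)) ^ 2 ≤
      avg p k (contrib p e χ ψ * conj (contrib p e χ ψ)) := by
  have := BlocksCore.isPrime hM
  obtain ⟨w, hw, hmw, hiff⟩ := exists_major_contrib e hM hu hk he hd hχ hψ
  have hw0 : w ≠ 0 := fun h => (hiff.mp (h ▸ memLocalIdeal_zero)) h0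
  set h := Cfsg.blockHeight p B (ψ : G → ℂ)
  rw [hmw, map_mul, map_pow, map_natCast,
    show (p : ℂ) ^ h * w * ((p : ℂ) ^ h * conj w) = (p : ℂ) ^ (h + h) * (w * conj w) by ring,
    avg_pow_mul hM.1, pow_add, ← sq]
  exact le_mul_of_one_le_right (by positivity) (one_le_avg_mul_conj hM.1 hw hw0)

/-- All entries between a height zero member and the others are nonzero. -/
theorem major_ne_zero (hM : Cfsg.IsPModular p M) (hu : ∃ j : ℕ, orderOf u = p ^ j)
    (hk : u ^ p ^ (k + 1) = 1)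
    (he : Cfsg.IsInducedBlock M (Subgroup.centralizer ({u} : Set G)) e B)
    (hd : Cfsg.blockDefect p e = Cfsg.blockDefect p B) {χ ψ : Cfsg.IrrCharacter G} (hχ : χ ∈ B)
    (h0 : Cfsg.blockHeight p B (χ : G → ℂ) = 0) (hψ : ψ ∈ B) :
    contrib p e χ ψ ≠ 0 ∧ contrib p e ψ χ ≠ 0 := by
  have := BlocksCore.isPrime hM
  obtain ⟨w, hw, hmw, hiff⟩ := exists_major_contrib e hM hu hk he hd hχ hψ
  have hw0 : w ≠ 0 := fun h => (hiff.mp (h ▸ memLocalIdeal_zero)) h0
  have h1 : contrib p e χ ψ ≠ 0 := by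
    rw [hmw]
    exact mul_ne_zero (pow_ne_zero _ (Nat.cast_ne_zero.mpr hM.1.ne_zero)) hw0
  refine ⟨h1, fun h => h1 ?_⟩
  rw [← conj_contrib e ψ χ, h, map_zero]

end General

section Two

variable {G : Type u} [Group G] [Fintype G] {M : Ideal Cfsg.AlgInt}
  {u : G} [Fintype (Subgroup.centralizer ({u} : Set G))]
  (e : Set (Cfsg.IrrCharacter (Subgroup.centralizer ({u} : Set G))))
  {B : Set (Cfsg.IrrCharacter G)} {k : ℕ}

/-- For `p = 2` the averaged diagonal entry is a natural number. -/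
theorem exists_diag [Fact (Nat.Prime 2)] (hM : Cfsg.IsPModular 2 M)
    (hu : ∃ j : ℕ, orderOf u = 2 ^ j) (hk : u ^ 2 ^ (k + 1) = 1)
    (he : Cfsg.IsInducedBlock M (Subgroup.centralizer ({u} : Set G)) e B)
    (χ : Cfsg.IrrCharacter G) :
    ∃ a : ℕ, avg 2 k (contrib 2 e χ χ) = a := by
  obtain ⟨a, ha⟩ := exists_avg_eq (contrib_mem e hM he.1 hk χ χ)
  have h0 := avg_self_nonneg e hM hu hk he χ
  rw [ha] at h0
  exact ⟨a.toNat, by rw [ha]; exact_mod_cast (Int.toNat_of_nonneg (by exact_mod_cast h0)).symm⟩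

/-- A height zero row: the diagonal is odd and bounds the number of height zero members. -/
theorem height_zero_row [Fact (Nat.Prime 2)] (hM : Cfsg.IsPModular 2 M)
    (hu : ∃ j : ℕ, orderOf u = 2 ^ j) (hk : u ^ 2 ^ (k + 1) = 1)
    (he : Cfsg.IsInducedBlock M (Subgroup.centralizer ({u} : Set G)) e B)
    {χ : Cfsg.IrrCharacter G} (hχ : χ ∈ B) (h0 : Cfsg.blockHeight 2 B (χ : G → ℂ) = 0)
    {a : ℕ} (ha : avg 2 k (contrib 2 e χ χ) = a) :
    Odd a ∧ a ^ 2 + ((mems B).filter fun ψ : Cfsg.IrrCharacter G =>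
      Cfsg.blockHeight 2 B (ψ : G → ℂ) = 0).card ≤ 2 ^ Cfsg.blockDefect 2 e * a + 1 := by
  classical
  have := BlocksCore.isPrime hM
  have hp := Nat.prime_two
  have hc := contrib_mem e hM he.1 hk χ χ
  obtain ⟨b, hb, hpar⟩ := avg_parity hM hc (conj_contrib e χ χ)
  have hba : b = (a : ℤ) := by exact_mod_cast hb.symm.trans ha
  refine ⟨Nat.odd_iff.mpr ?_, ?_⟩
  · have h1 : ¬ (2 : ℤ) ∣ b := fun h => contrib_unit e hM hk he hχ h0 hχ h0 (hpar.mp h)
    omega
  set Z := (mems B).filter fun ψ : Cfsg.IrrCharacter G =>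
    Cfsg.blockHeight 2 B (ψ : G → ℂ) = 0 with hZ
  have hχZ : χ ∈ Z := Finset.mem_filter.mpr ⟨mem_mems.mpr hχ, h0⟩
  have hrow := row_sum e hM hu he (k := k) χ
  rw [ha] at hrow
  set f := fun ψ => avg 2 k (contrib 2 e χ ψ * conj (contrib 2 e χ ψ))
  have h1 : ∑ ψ ∈ Z, f ψ ≤ ∑ ψ ∈ mems B, f ψ :=
    Finset.sum_le_sum_of_subset_of_nonneg (Finset.filter_subset _ _) fun ψ _ _ =>
      avg_mul_conj_nonneg hp (contrib_mem e hM he.1 hk χ ψ)
  rw [← Finset.add_sum_erase _ _ hχZ] at h1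
  have h2 : (a : ℝ) ^ 2 ≤ f χ := ha ▸ sq_avg_le hp hc
  have h3 : ∑ _ψ ∈ Z.erase χ, (1 : ℝ) ≤ ∑ ψ ∈ Z.erase χ, f ψ := Finset.sum_le_sum fun ψ hψ => by
    obtain ⟨hψ', hψ0⟩ := Finset.mem_filter.mp (Finset.mem_of_mem_erase hψ)
    exact one_le_avg_mul_conj hp (contrib_mem e hM he.1 hk χ ψ) fun h =>
      contrib_unit e hM hk he hχ h0 (mem_mems.mp hψ') hψ0 (h ▸ memLocalIdeal_zero)
  rw [Finset.sum_const, nsmul_eq_mul, mul_one] at h3
  have h4 : ((Z.erase χ).card : ℝ) + 1 = Z.card := by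
    exact_mod_cast Finset.card_erase_add_one hχZ
  suffices ((a ^ 2 + Z.card : ℕ) : ℝ) ≤ ((2 ^ Cfsg.blockDefect 2 e * a + 1 : ℕ) : ℝ) by
    exact_mod_cast this
  push_cast at hrow ⊢
  linarith

/-- In a major subsection the diagonal at positive height is divisible by `2 ^ (height + 1)`. -/
theorem major_diag [Fact (Nat.Prime 2)] (hM : Cfsg.IsPModular 2 M)
    (hu : ∃ j : ℕ, orderOf u = 2 ^ j) (hk : u ^ 2 ^ (k + 1) = 1)
    (he : Cfsg.IsInducedBlock M (Subgroup.centralizer ({u} : Set G)) e B)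
    (hd : Cfsg.blockDefect 2 e = Cfsg.blockDefect 2 B)
    {χ : Cfsg.IrrCharacter G} (hχ : χ ∈ B) {a : ℕ} (ha : avg 2 k (contrib 2 e χ χ) = a) :
    0 < a ∧ 2 ^ Cfsg.blockHeight 2 B (χ : G → ℂ) ∣ a ∧
      (Cfsg.blockHeight 2 B (χ : G → ℂ) ≠ 0 →
        2 ^ (Cfsg.blockHeight 2 B (χ : G → ℂ) + 1) ∣ a) ∧
      ∀ ψ ∈ B, ψ ≠ χ → (Cfsg.blockHeight 2 B (χ : G → ℂ) = 0 ∨
        Cfsg.blockHeight 2 B ((ψ : Cfsg.IrrCharacter G) : G → ℂ) = 0) →
        a ^ 2 < 2 ^ Cfsg.blockDefect 2 e * a := by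
  classical
  have := BlocksCore.isPrime hM
  have hp := Nat.prime_two
  set h := Cfsg.blockHeight 2 B (χ : G → ℂ)
  obtain ⟨θ, hθ, hθ0⟩ := exists_height_zero hM he.2.1
  have hrow := row_sum e hM hu he (k := k) χ
  rw [ha] at hrow
  have hnn : ∀ ψ ∈ mems B, 0 ≤ avg 2 k (contrib 2 e χ ψ * conj (contrib 2 e χ ψ)) :=
    fun ψ _ => avg_mul_conj_nonneg hp (contrib_mem e hM he.1 hk χ ψ)
  have hone : ∀ ψ ∈ B, contrib 2 e χ ψ ≠ 0 →
      (1 : ℝ) ≤ avg 2 k (contrib 2 e χ ψ * conj (contrib 2 e χ ψ)) :=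
    fun ψ _ => one_le_avg_mul_conj hp (contrib_mem e hM he.1 hk χ ψ)
  have hpos : 0 < a := by
    have h1 := (hone θ hθ (major_ne_zero e hM hu hk he hd hθ hθ0 hχ).2).trans
      (Finset.single_le_sum hnn (mem_mems.mpr hθ))
    rw [hrow] at h1
    rcases Nat.eq_zero_or_pos a with rfl | h2
    · simp at h1; linarith
    · exact h2
  obtain ⟨w, hw, hmw, hiff⟩ := exists_major_contrib e hM hu hk he hd hχ hχ
  have hwreal : conj w = w := by
    have h1 := conj_contrib e χ χ (p := 2)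
    rw [hmw, map_mul, map_pow, map_natCast] at h1
    exact mul_left_cancel₀ (pow_ne_zero _ (by norm_num)) h1
  obtain ⟨b, hb, hpar⟩ := avg_parity hM hw hwreal
  have hab : (a : ℤ) = 2 ^ h * b := by
    have h1 : (a : ℝ) = (2 : ℝ) ^ h * b := by
      rw [← ha, hmw, avg_pow_mul hp, hb]; norm_num [h]
    exact_mod_cast h1
  refine ⟨hpos, ?_, fun hne => ?_, fun ψ hψ hψne hz => ?_⟩
  · exact Int.natCast_dvd_natCast.mp ⟨b, by push_cast; exact hab⟩
  · obtain ⟨b', rfl⟩ := hpar.mpr (hiff.mpr hne)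
    exact Int.natCast_dvd_natCast.mp ⟨b', by push_cast; rw [hab]; ring⟩
  · have hne0 : contrib 2 e χ ψ ≠ 0 := hz.elim
      (fun h0 => (major_ne_zero e hM hu hk he hd hχ h0 hψ).1)
      fun h0 => (major_ne_zero e hM hu hk he hd hψ h0 hχ).2
    have h2 : (a : ℝ) ^ 2 ≤ avg 2 k (contrib 2 e χ χ * conj (contrib 2 e χ χ)) :=
      ha ▸ sq_avg_le hp (contrib_mem e hM he.1 hk χ χ)
    have h3 := Finset.add_sum_erase (mems B)
      (fun ψ => avg 2 k (contrib 2 e χ ψ * conj (contrib 2 e χ ψ))) (mem_mems.mpr hχ)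
    have h4 : 1 ≤ ∑ φ ∈ (mems B).erase χ, avg 2 k (contrib 2 e χ φ * conj (contrib 2 e χ φ)) :=
      (hone ψ hψ hne0).trans (Finset.single_le_sum (fun φ hφ => hnn φ (Finset.mem_of_mem_erase hφ))
        (Finset.mem_erase.mpr ⟨hψne, mem_mems.mpr hψ⟩))
    suffices ((a ^ 2 : ℕ) : ℝ) < ((2 ^ Cfsg.blockDefect 2 e * a : ℕ) : ℝ) by exact_mod_cast this
    push_cast at hrow ⊢
    linarith

end Two

/-- The defect and the exponent data of a major subsection. -/
theorem major_data {G : Type u} [Group G] [Finite G] {p : ℕ} [Fact p.Prime] {M : Ideal Cfsg.AlgInt}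
    (hM : Cfsg.IsPModular p M) {B : Set (Cfsg.IrrCharacter G)} (hB : Cfsg.IsPBlock M B)
    {D : Subgroup G} (hD : Cfsg.IsDefectGroup p M B D) {z : G} (hzD : z ∈ D)
    (hzc : ∀ d ∈ D, d * z = z * d)
    {b : Set (Cfsg.IrrCharacter (Subgroup.centralizer ({z} : Set G)))}
    (hbB : Cfsg.IsPBlock M b)
    (hbD : Cfsg.IsDefectGroup p M b (D.subgroupOf (Subgroup.centralizer ({z} : Set G)))) :
    (∃ j : ℕ, orderOf z = p ^ j) ∧ z ^ p ^ (Cfsg.blockDefect p B + 1) = 1 ∧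
      Cfsg.blockDefect p b = Cfsg.blockDefect p B := by
  have h1 := defectGroup_natCard hM hB hD
  have h2 := defectGroup_natCard hM hbB hbD
  have hle : D ≤ Subgroup.centralizer ({z} : Set G) := fun d hd =>
    Subgroup.mem_centralizer_singleton_iff.mpr (hzc d hd)
  rw [Nat.card_congr (Subgroup.subgroupOfEquivOfLe hle).toEquiv, h1] at h2
  have hd : orderOf z ∣ p ^ Cfsg.blockDefect p B := by
    rw [← h1]; exact Subgroup.orderOf_dvd_natCard D hzD
  refine ⟨?_, orderOf_dvd_iff_pow_eq_one.mp (hd.trans (pow_dvd_pow p (Nat.le_succ _))),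
    (Nat.pow_right_injective hM.1.two_le h2).symm⟩
  obtain ⟨j, -, hj⟩ := (Nat.dvd_prime_pow hM.1).mp hd
  exact ⟨j, hj⟩

theorem card_eq_mems {G : Type u} [Group G] [Finite G] (B : Set (Cfsg.IrrCharacter G)) :
    Nat.card B = (mems B).card := by
  haveI : Finite (Cfsg.IrrCharacter G) :=
    haveI := Fintype.ofFinite G
    BlocksCore.finite_irr
  haveI := Fintype.ofFinite B
  rw [Nat.card_eq_fintype_card, ← Set.toFinset_card]
  congr 1
  ext χ
  simp [mem_mems]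

theorem card_height_zero {G : Type u} [Group G] [Finite G] (p : ℕ) (B : Set (Cfsg.IrrCharacter G)) :
    Nat.card {χ : Cfsg.IrrCharacter G // χ ∈ B ∧ Cfsg.blockHeight p B (χ : G → ℂ) = 0} =
      ((mems B).filter fun χ : Cfsg.IrrCharacter G =>
        Cfsg.blockHeight p B (χ : G → ℂ) = 0).card := by
  classical
  haveI : Finite (Cfsg.IrrCharacter G) :=
    haveI := Fintype.ofFinite G
    BlocksCore.finite_irr
  haveI := Fintype.ofFinite (Cfsg.IrrCharacter G)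
  rw [Nat.card_eq_fintype_card, Fintype.card_subtype]
  congr 1
  ext χ
  simp [mem_mems]

end Cfsg.Agent.CharCore.SubContrib
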