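import Cfsg.Agent.Lib.CharCore.Complete
import Cfsg.Agent.Lib.CharCore.ModP
import Mathlib.Algebra.Group.End

/-!
# The Glauberman correspondence for a `p`-group of operators

A `p`-group `A` acts on a group `G` of order prime to `p` through `φ : A →* MulAut G`, and
`ι : C →* G` is an embedding with image the fixed points.  The proof is elementary: it uses only
orbit congruences in the algebraic integers (the Brauer homomorphism).

Library `CharCore`, part 11.
-/

set_option autoImplicit false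
set_option linter.unusedSectionVars false

open scoped ComplexConjugate

namespace Cfsg.Agent.CharCore

universe u v w

/-- `χ` is invariant under the operators. -/
def IsInvFun {A : Type v} [Group A] {G : Type u} [Group G] (φ : A →* MulAut G) (χ : G → ℂ) :
    Prop :=
  ∀ (a : A) (g : G), χ (φ a g) = χ g

/-- Twisting an irreducible character by an automorphism. -/
noncomputable def irrTwist {G : Type u} [Group G] [Finite G] (α : MulAut G)
    (χ : Cfsg.IrrCharacter G) : Cfsg.IrrCharacter G :=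
  ⟨fun g => (χ : G → ℂ) (α⁻¹ g),
    isIrrCharacter_comp_surjective χ.2 (α⁻¹).toMonoidHom (α⁻¹).surjective⟩

/-- The action of operators on irreducible characters. -/
@[implicit_reducible]
noncomputable def irrAction {A : Type v} [Group A] {G : Type u} [Group G] [Finite G]
    (φ : A →* MulAut G) : MulAction A (Cfsg.IrrCharacter G) where
  smul a χ := irrTwist (φ a) χ
  one_smul χ := Subtype.ext (funext fun g => by
    show (χ : G → ℂ) ((φ 1)⁻¹ g) = _
    rw [map_one, inv_one, MulAut.one_apply])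
  mul_smul a b χ := Subtype.ext (funext fun g => by
    show (χ : G → ℂ) ((φ (a * b))⁻¹ g) = (χ : G → ℂ) ((φ b)⁻¹ ((φ a)⁻¹ g))
    rw [map_mul, mul_inv_rev, MulAut.mul_apply])

/-- The defining property of the Glauberman correspondent: multiplicity prime to `p`. -/
def IsGlauber (p : ℕ) {G : Type u} [Group G] {C : Type w} [Group C] [Fintype C] (ι : C →* G)
    (χ : G → ℂ) (β : C → ℂ) : Prop :=
  ∃ m : ℕ, Cfsg.classInner (fun c => χ (ι c)) β = m ∧ ¬ p ∣ m

/-- Convolution of a class function with an irreducible character. -/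
theorem sum_mul_apply_inv_mul {G : Type u} [Group G] [Fintype G] {f : G → ℂ}
    (hf : Cfsg.IsClassFunction G f) (ψ : Cfsg.IrrCharacter G) (x : G) :
    ∑ a, f a * (ψ : G → ℂ) (a⁻¹ * x) =
      (Nat.card G : ℂ) * Cfsg.classInner f ψ / (ψ : G → ℂ) 1 * (ψ : G → ℂ) x := by
  obtain ⟨ψ, n, ρ, hρ, rfl⟩ := ψ
  let T : Representation.IntertwiningMap ρ ρ :=
    ⟨twistedSum f ρ, fun g => twistedSum_commute hf ρ g⟩
  obtain ⟨c, hc⟩ :=
    (Representation.IsIrreducible.algebraMap_intertwiningMap_bijective_of_isAlgClosed (k := ℂ)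
      (ρ := ρ)).2 T
  have hc' : twistedSum f ρ = c • (1 : Module.End ℂ (Fin n → ℂ)) := by
    have h := congrArg Representation.IntertwiningMap.toLinearMap hc.symm
    simpa [T, Representation.IntertwiningMap.toLinearMap_smul] using! h
  have hn : (n : ℂ) ≠ 0 := by
    exact_mod_cast (by simpa using (finrank_pos_of_irreducible ρ).ne' : n ≠ 0)
  have htr := trace_twistedSum f ρ
  rw [hc', map_smul, LinearMap.trace_one, Module.finrank_fin_fun, smul_eq_mul] at htr
  have hx := congrArg (fun T => LinearMap.trace ℂ _ (T * ρ x)) hc'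
  simp only [twistedSum, Finset.sum_mul, map_sum, smul_mul_assoc, one_mul, map_smul, smul_eq_mul,
    ← map_mul] at hx
  show ∑ a, f a * ρ.character (a⁻¹ * x) =
    (Nat.card G : ℂ) * Cfsg.classInner f ρ.character / ρ.character 1 * ρ.character x
  rw [show (∑ a, f a * ρ.character (a⁻¹ * x)) = _ from hx, Representation.char_one,
    Module.finrank_fin_fun, ← htr, mul_div_assoc, div_self hn, mul_one]
  rfl

section Setup

variable {p : ℕ} [Fact p.Prime]
variable {A : Type v} [Group A] {G : Type u} [Group G] [Fintype G] {C : Type w} [Group C]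
  [Fintype C]
variable {φ : A →* MulAut G} {ι : C →* G}

theorem exists_fixed_in_invariant_set (hA : IsPGroup p A) (P : G → Prop)
    (hP : ∀ (a : A) (g : G), P g → P (φ a g)) (hcard : ¬ p ∣ Nat.card {g : G // P g}) :
    ∃ g : G, P g ∧ ∀ a, φ a g = g := by
  let _ : MulAction A {g : G // P g} :=
    { smul := fun a g => ⟨φ a g, hP a g g.2⟩
      one_smul := fun g => Subtype.ext (show φ 1 (g : G) = g by rw [map_one, MulAut.one_apply])
      mul_smul := fun a b g => Subtype.ext
        (show φ (a * b) (g : G) = φ a (φ b g) by rw [map_mul, MulAut.mul_apply]) }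
  have h := hA.card_modEq_card_fixedPoints {g : G // P g}
  have hne : Nat.card (MulAction.fixedPoints A {g : G // P g}) ≠ 0 := fun h0 => by
    rw [h0] at h
    exact hcard (Nat.modEq_zero_iff_dvd.mp h)
  obtain ⟨⟨⟨g, hg⟩, hfix⟩⟩ := (Nat.card_ne_zero.mp hne).1
  exact ⟨g, hg, fun a => congrArg Subtype.val (hfix a)⟩

variable (hι : Function.Injective ι) (hC : ∀ g : G, g ∈ ι.range ↔ ∀ a, φ a g = g)
  (hA : IsPGroup p A) (hpG : ¬ p ∣ Nat.card G)

include hι hpG in
theorem not_dvd_card_fixed : ¬ p ∣ Nat.card C := fun h =>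
  hpG (h.trans (by
    rw [Nat.card_congr (MonoidHom.ofInjective hι).toEquiv]
    exact Subgroup.card_subgroup_dvd_card _))

include hC in
theorem fixed_apply (c : C) (a : A) : φ a (ι c) = ι c := (hC _).mp ⟨c, rfl⟩ a

include hι hC hA in
theorem modP_sum_sub_sum_range (F : G → ℂ) (hint : ∀ g, IsIntegral ℤ (F g))
    (hinv : ∀ a g, F (φ a g) = F g) : ModP p (∑ g, F g - ∑ c, F (ι c)) := by
  classical
  let _ : MulAction A G := MulAction.compHom G φ
  have h := modP_sum_sub_sum_fixed hA F hint hinv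
  convert h using 2
  refine Finset.sum_nbij ι ?_ ?_ ?_ ?_
  · intro c _
    exact Finset.mem_filter.mpr ⟨Finset.mem_univ _, fun a => fixed_apply hC c a⟩
  · exact fun a _ b _ h => hι h
  · intro g hg
    obtain ⟨c, hc⟩ := (hC g).mpr (Finset.mem_filter.mp (Finset.mem_coe.mp hg)).2
    exact ⟨c, by simp, hc⟩
  · intro c _; rfl

include hι hC hA in
theorem modP_card_sub_card : ModP p ((Nat.card G : ℂ) - Nat.card C) := by
  simpa [Nat.card_eq_fintype_card] using
    modP_sum_sub_sum_range (p := p) hι hC hA (fun _ => (1 : ℂ)) (fun _ => isIntegral_one)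
      (fun _ _ => rfl)

include hι hC hA hpG in
/-- Fixed elements conjugate in `G` are conjugate in the fixed subgroup. -/
theorem isConj_of_isConj_map {c d : C} (h : IsConj (ι c) (ι d)) : IsConj c d := by
  obtain ⟨x, hx⟩ := isConj_iff.mp h
  have hcard : ¬ p ∣ Nat.card {g : G // g * ι c * g⁻¹ = ι d} := by
    let e : Subgroup.centralizer ({ι c} : Set G) ≃ {g : G // g * ι c * g⁻¹ = ι d} :=
      { toFun := fun z => ⟨x * z, by
          have hz := Subgroup.mem_centralizer_singleton_iff.mp z.2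
          rw [← hx]
          calc x * z * ι c * (x * z)⁻¹ = x * (z * ι c) * (z : G)⁻¹ * x⁻¹ := by group
            _ = x * (ι c * z) * (z : G)⁻¹ * x⁻¹ := by rw [hz]
            _ = x * ι c * x⁻¹ := by group⟩
        invFun := fun g => ⟨x⁻¹ * g, Subgroup.mem_centralizer_singleton_iff.mpr (by
          have h1 : (g : G) * ι c = ι d * g := eq_mul_of_mul_inv_eq g.2
          have h2 : ι d * x = x * ι c := (eq_mul_of_mul_inv_eq hx).symm
          calc x⁻¹ * g * ι c = x⁻¹ * (ι d * x) * (x⁻¹ * g) := by rw [mul_assoc _ (g : G), h1]; group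
            _ = ι c * (x⁻¹ * g) := by rw [h2]; group)⟩
        left_inv := fun z => Subtype.ext (by simp)
        right_inv := fun g => Subtype.ext (by simp) }
    rw [← Nat.card_congr e]
    exact fun hd => hpG (hd.trans (Subgroup.card_subgroup_dvd_card _))
  obtain ⟨g, hg, hfix⟩ := exists_fixed_in_invariant_set (φ := φ) hA
    (fun g => g * ι c * g⁻¹ = ι d) (fun a g hg => by
      have := congrArg (φ a) hg
      rwa [map_mul, map_mul, map_inv, fixed_apply hC, fixed_apply hC] at this) hcard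
  obtain ⟨e, rfl⟩ := (hC g).mpr hfix
  exact isConj_iff.mpr ⟨e, hι (by simpa using hg)⟩

include hC hA hpG in
/-- An invariant class contains a fixed element. -/
theorem exists_fixed_isConj {g : G} (hg : ∀ a, IsConj g (φ a g)) : ∃ c : C, IsConj g (ι c) := by
  classical
  obtain ⟨x, hx, hfix⟩ := exists_fixed_in_invariant_set (φ := φ) hA (fun x => IsConj g x)
    (fun a x hx => (hg a).trans ((φ a).toMonoidHom.map_isConj hx)) (by
      intro hd
      have h : Nat.card {x : G // IsConj g x} ∣ Nat.card G := by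
        have h1 : Nat.card {x : G // IsConj g x} = (MulAction.orbit (ConjAct G) g).ncard := by
          rw [ConjAct.orbit_eq_carrier_conjClasses, ← Nat.card_coe_set_eq]
          refine Nat.card_congr (Equiv.subtypeEquivRight fun y => ?_)
          rw [ConjClasses.mem_carrier_iff_mk_eq, ConjClasses.mk_eq_mk_iff_isConj]
          exact ⟨IsConj.symm, IsConj.symm⟩
        rw [h1, ← MulAction.index_stabilizer]
        exact (Subgroup.index_dvd_card _).trans (dvd_of_eq (Nat.card_congr ConjAct.toConjAct.toEquiv).symm)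
      exact hpG (hd.trans h))
  obtain ⟨c, rfl⟩ := (hC x).mpr hfix
  exact ⟨c, hx⟩

theorem isCharacter_res (χ : Cfsg.IrrCharacter G) :
    Cfsg.IsCharacter C (fun c => (χ : G → ℂ) (ι c)) :=
  isCharacter_comp (irr_isCharacter χ) ι

theorem exists_mult (χ : Cfsg.IrrCharacter G) :
    ∃ m : Cfsg.IrrCharacter C → ℕ,
      (∀ β : Cfsg.IrrCharacter C,
        Cfsg.classInner (fun c => (χ : G → ℂ) (ι c)) β = m β) ∧
      (fun c => (χ : G → ℂ) (ι c)) = ∑ β, (m β : ℂ) • (β : C → ℂ) := by
  obtain ⟨m, hm⟩ := IsCharacter.exists_sum (isCharacter_res (ι := ι) χ)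
  exact ⟨m, fun β => by rw [hm, classInner_sum_all], hm⟩

include hι hC hA in
theorem modP_sum_sq {χ : Cfsg.IrrCharacter G} (hχ : IsInvFun φ (χ : G → ℂ))
    {m : Cfsg.IrrCharacter C → ℕ}
    (hm : (fun c => (χ : G → ℂ) (ι c)) = ∑ β, (m β : ℂ) • (β : C → ℂ)) :
    ModP p ((Nat.card C : ℂ) * ((∑ β, m β * m β : ℕ) : ℂ) - Nat.card C) := by
  have h1 := modP_sum_sub_sum_range (p := p) hι hC hA
    (fun g => (χ : G → ℂ) g * conj ((χ : G → ℂ) g))
    (fun g => by
      rw [← irr_apply_inv]
      exact (IsCharacter.isIntegral (irr_isCharacter χ) g).mul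
        (IsCharacter.isIntegral (irr_isCharacter χ) _))
    (fun a g => by rw [hχ a g])
  have hG : ∑ g, (χ : G → ℂ) g * conj ((χ : G → ℂ) g) = (Nat.card G : ℂ) := by
    have := classInner_irr_self χ
    rwa [classInner_def, inv_mul_eq_one₀ (Nat.cast_ne_zero.mpr Nat.card_pos.ne'), eq_comm] at this
  have hcr : ∑ c, (χ : G → ℂ) (ι c) * conj ((χ : G → ℂ) (ι c)) =
      (Nat.card C : ℂ) * ((∑ β, m β * m β : ℕ) : ℂ) := by
    have h2 := classInner_sum_sum (G := C) (fun β => (m β : ℂ)) (fun β => (m β : ℂ))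
    rw [← hm, classInner_def] at h2
    simp only [Complex.conj_natCast] at h2
    push_cast
    rw [← h2, mul_inv_cancel_left₀ (Nat.cast_ne_zero.mpr Nat.card_pos.ne')]
  rw [hG, hcr] at h1
  convert (modP_card_sub_card (p := p) hι hC hA).sub h1 using 1
  ring

include hι hC hA hpG in
theorem exists_glauber {χ : Cfsg.IrrCharacter G} (hχ : IsInvFun φ (χ : G → ℂ)) :
    ∃ β : Cfsg.IrrCharacter C, IsGlauber p ι (χ : G → ℂ) (β : C → ℂ) := by
  obtain ⟨m, hm1, hm2⟩ := exists_mult (ι := ι) χ
  by_contra hc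
  push Not at hc
  have hdvd : p ∣ ∑ β, m β * m β := Finset.dvd_sum fun β _ => by
    refine dvd_mul_of_dvd_left ?_ _
    by_contra h
    exact hc β ⟨m β, hm1 β, h⟩
  have h := ((ModP.of_dvd hdvd).mul_left (isIntegral_natCast (Nat.card C))).sub
    (modP_sum_sq (p := p) hι hC hA hχ hm2)
  rw [sub_sub_cancel] at h
  exact not_dvd_card_fixed hι hpG (modP_natCast_iff.mp h)

include hι hC hA hpG in
theorem glauber_injective {χ ψ : Cfsg.IrrCharacter G} (hχ : IsInvFun φ (χ : G → ℂ))
    (hψ : IsInvFun φ (ψ : G → ℂ)) {β : Cfsg.IrrCharacter C}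
    (h₁ : IsGlauber p ι (χ : G → ℂ) (β : C → ℂ)) (h₂ : IsGlauber p ι (ψ : G → ℂ) (β : C → ℂ)) :
    χ = ψ := by
  classical
  by_contra hne
  obtain ⟨k, hk, hpk⟩ := h₁
  obtain ⟨l, hl, hpl⟩ := h₂
  obtain ⟨n, hn1, hn2⟩ := exists_mult (ι := ι) ψ
  have hmod : ∀ c : C, ModP p (∑ a : C, (χ : G → ℂ) (ι a) * (ψ : G → ℂ) (ι (a⁻¹ * c))) := by
    intro c
    have h := modP_sum_sub_sum_range (p := p) hι hC hA
      (fun g => (χ : G → ℂ) g * (ψ : G → ℂ) (g⁻¹ * ι c))
      (fun g => (IsCharacter.isIntegral (irr_isCharacter χ) g).mul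
        (IsCharacter.isIntegral (irr_isCharacter ψ) _))
      (fun a g => by
        rw [hχ a g]
        conv_rhs => rw [← hψ a (g⁻¹ * ι c), map_mul, map_inv, fixed_apply hC])
    rw [sum_mul_apply_inv_mul (irr_isClassFunction χ) ψ, classInner_irr_of_ne hne, mul_zero,
      zero_div, zero_mul, zero_sub] at h
    simpa using h.neg
  have hS : ∀ c : C, ∑ a : C, (χ : G → ℂ) (ι a) * (ψ : G → ℂ) (ι (a⁻¹ * c)) =
      ∑ γ : Cfsg.IrrCharacter C, (n γ : ℂ) * ((Nat.card C : ℂ) *
        Cfsg.classInner (fun a => (χ : G → ℂ) (ι a)) γ / (γ : C → ℂ) 1) * (γ : C → ℂ) c := by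
    intro c
    have hn2' : ∀ x, (ψ : G → ℂ) (ι x) = ∑ γ, (n γ : ℂ) * (γ : C → ℂ) x := fun x => by
      simpa using congrFun hn2 x
    simp only [hn2', Finset.mul_sum]
    rw [Finset.sum_comm]
    refine Finset.sum_congr rfl fun γ _ => ?_
    rw [mul_assoc, ← sum_mul_apply_inv_mul (IsCharacter.isClassFunction (isCharacter_res χ)) γ,
      Finset.mul_sum]
    exact Finset.sum_congr rfl fun a _ => by ring
  have h' : ModP p (∑ c : C, conj ((β : C → ℂ) c) *
      ∑ a : C, (χ : G → ℂ) (ι a) * (ψ : G → ℂ) (ι (a⁻¹ * c))) :=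
    ModP.sum _ _ fun c _ => (hmod c).mul_left (by
      rw [← irr_apply_inv]; exact IsCharacter.isIntegral (irr_isCharacter β) _)
  simp only [hS, Finset.mul_sum] at h'
  rw [Finset.sum_comm] at h'
  have horth : ∀ γ : Cfsg.IrrCharacter C, ∑ c, (γ : C → ℂ) c * conj ((β : C → ℂ) c) =
      if γ = β then (Nat.card C : ℂ) else 0 := fun γ => by
    have h := classInner_irr γ β
    rw [classInner_def, inv_mul_eq_iff_eq_mul₀ (Nat.cast_ne_zero.mpr Nat.card_pos.ne')] at h
    rw [h]; split_ifs <;> simp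
  have hre : ∀ (A : Cfsg.IrrCharacter C → ℂ),
      ∑ γ : Cfsg.IrrCharacter C, ∑ c, conj ((β : C → ℂ) c) * (A γ * (γ : C → ℂ) c) =
        A β * (Nat.card C : ℂ) := by
    intro A
    have : ∀ γ : Cfsg.IrrCharacter C, ∑ c, conj ((β : C → ℂ) c) * (A γ * (γ : C → ℂ) c) =
        A γ * ∑ c, (γ : C → ℂ) c * conj ((β : C → ℂ) c) := fun γ => by
      rw [Finset.mul_sum]
      exact Finset.sum_congr rfl fun c _ => by ring
    simp [this, horth]
  rw [hre] at h'
  rw [hk] at h'
  have hnl : n β = l := by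
    have := hn1 β
    rw [hl] at this
    exact_mod_cast this.symm
  rw [hnl] at h'
  have h'' := h'.mul_right (IsCharacter.isIntegral (irr_isCharacter β) 1)
  have h3 : ModP p ((l * (Nat.card C * k) * Nat.card C : ℕ) : ℂ) := by
    convert h'' using 1
    have := irr_apply_one_ne_zero β
    push_cast
    field_simp
  have hp := (Fact.out : p.Prime)
  have hc := not_dvd_card_fixed hι hpG
  rcases hp.dvd_mul.mp (modP_natCast_iff.mp h3) with h | h
  · rcases hp.dvd_mul.mp h with h | h
    · exact hpl h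
    · rcases hp.dvd_mul.mp h with h | h
      · exact hc h
      · exact hpk h
  · exact hc h

open Classical in
/-- Sum of `conj γ` over the class of `c`. -/
noncomputable def classSumConj (γ : C → ℂ) (c : C) : ℂ :=
  ∑ x ∈ Finset.univ.filter (fun x => IsConj x c), conj (γ x)

include hι hC hA hpG in
open Classical in
theorem column_congr (β : Cfsg.IrrCharacter C) (c : C) :
    ModP p ((Nat.card G : ℂ) * classSumConj (β : C → ℂ) c -
      ∑ χ ∈ Finset.univ.filter (fun χ : Cfsg.IrrCharacter G => IsInvFun φ (χ : G → ℂ)),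
        (∑ g ∈ Finset.univ.filter (fun g => IsConj g (ι c)), conj ((χ : G → ℂ) g)) *
          ((Nat.card C : ℂ) * Cfsg.classInner (fun x => (χ : G → ℂ) (ι x)) β)) := by
  let f : G → ℂ := fun g => if IsConj g (ι c) then 1 else 0
  have hf : Cfsg.IsClassFunction G f := fun g h => by
    have hh : IsConj g (h * g * h⁻¹) := isConj_iff.mpr ⟨h, rfl⟩
    have hiff : IsConj (h * g * h⁻¹) (ι c) ↔ IsConj g (ι c) :=
      ⟨fun h' => hh.trans h', fun h' => hh.symm.trans h'⟩
    simp only [f, hiff]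
  let a : Cfsg.IrrCharacter G → ℂ := fun χ =>
    ∑ g ∈ Finset.univ.filter (fun g => IsConj g (ι c)), conj ((χ : G → ℂ) g)
  let T : Cfsg.IrrCharacter G → ℂ := fun χ =>
    a χ * ((Nat.card C : ℂ) * Cfsg.classInner (fun x => (χ : G → ℂ) (ι x)) β)
  have hexp : ∀ g, (Nat.card G : ℂ) * f g = ∑ χ, a χ * (χ : G → ℂ) g := fun g => by
    have h := congrFun (eq_sum_classInner hf) g
    simp only [Finset.sum_apply, Pi.smul_apply, smul_eq_mul, classInner_def] at h
    rw [h, Finset.mul_sum]
    refine Finset.sum_congr rfl fun χ _ => ?_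
    rw [← mul_assoc, ← mul_assoc, mul_inv_cancel₀ (Nat.cast_ne_zero.mpr Nat.card_pos.ne'),
      one_mul]
    congr 1
    simp [a, f, Finset.sum_filter]
  have hsum : (Nat.card G : ℂ) * classSumConj (β : C → ℂ) c = ∑ χ, T χ := by
    have h1 : (Nat.card G : ℂ) * classSumConj (β : C → ℂ) c =
        ∑ x : C, ((Nat.card G : ℂ) * f (ι x)) * conj ((β : C → ℂ) x) := by
      rw [classSumConj, Finset.mul_sum, Finset.sum_filter]
      refine Finset.sum_congr rfl fun x _ => ?_
      have hiff : IsConj (ι x) (ι c) ↔ IsConj x c :=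
        ⟨isConj_of_isConj_map hι hC hA hpG, fun h => ι.map_isConj h⟩
      simp only [f, hiff]
      split_ifs <;> simp
    simp only [h1, hexp, Finset.sum_mul]
    rw [Finset.sum_comm]
    refine Finset.sum_congr rfl fun χ _ => ?_
    simp only [T, classInner_def]
    rw [mul_inv_cancel_left₀ (Nat.cast_ne_zero.mpr Nat.card_pos.ne'), Finset.mul_sum]
    exact Finset.sum_congr rfl fun x _ => by ring
  let _ : MulAction A (Cfsg.IrrCharacter G) := irrAction φ
  have hfixiff : ∀ χ : Cfsg.IrrCharacter G, (∀ b : A, b • χ = χ) ↔ IsInvFun φ (χ : G → ℂ) := by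
    intro χ
    constructor
    · intro h b g
      have h1 := congrFun (congrArg Subtype.val (h b⁻¹)) g
      change (χ : G → ℂ) ((φ b⁻¹)⁻¹ g) = _ at h1
      rwa [map_inv, inv_inv] at h1
    · intro h b
      refine Subtype.ext (funext fun g => ?_)
      show (χ : G → ℂ) ((φ b)⁻¹ g) = _
      rw [← map_inv]; exact h _ g
  have h := modP_sum_sub_sum_fixed hA T
    (fun χ => by
      obtain ⟨k, hk⟩ := IsCharacter.exists_classInner_irr_eq_natCast (isCharacter_res (ι := ι) χ) β
      refine (IsIntegral.sum _ fun g _ => ?_).mul ((isIntegral_natCast _).mul ?_)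
      · rw [← irr_apply_inv]; exact IsCharacter.isIntegral (irr_isCharacter χ) _
      · rw [hk]; exact isIntegral_natCast k)
    (fun b χ => by
      have hres : (fun x => ((b • χ : Cfsg.IrrCharacter G) : G → ℂ) (ι x)) =
          fun x => (χ : G → ℂ) (ι x) := funext fun x => by
        show (χ : G → ℂ) ((φ b)⁻¹ (ι x)) = _
        rw [← map_inv, fixed_apply hC]
      simp only [T, hres]
      congr 1
      simp only [a, Finset.sum_filter]
      refine Fintype.sum_equiv (φ b⁻¹).toEquiv _ _ fun g => ?_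
      have hiff : IsConj (φ b⁻¹ g) (ι c) ↔ IsConj g (ι c) := by
        conv_lhs => rw [← fixed_apply hC c b⁻¹]
        exact ⟨fun h => by simpa using (φ b⁻¹).symm.toMonoidHom.map_isConj h,
          fun h => (φ b⁻¹).toMonoidHom.map_isConj h⟩
      show _ = if IsConj (φ b⁻¹ g) (ι c) then conj ((χ : G → ℂ) (φ b⁻¹ g)) else 0
      rw [if_congr hiff rfl rfl, map_inv]
      rfl)
  rw [← hsum] at h
  convert h using 2
  refine Finset.sum_congr ?_ fun χ _ => rfl
  exact Finset.filter_congr fun χ _ => (hfixiff χ).symm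

theorem classSumConj_one (β : Cfsg.IrrCharacter C) :
    classSumConj (β : C → ℂ) 1 = (β : C → ℂ) 1 := by
  classical
  obtain ⟨n, -, hn⟩ := IsIrrCharacter.exists_degree β.2
  rw [classSumConj, show Finset.univ.filter (fun x => IsConj x (1 : C)) = {1} by
    ext x; simp [isConj_one_left], Finset.sum_singleton, hn, Complex.conj_natCast]

include hι hC hA hpG in
/-- Every irreducible character of the fixed subgroup is a correspondent. -/
theorem glauber_surjective (β : Cfsg.IrrCharacter C) :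
    ∃ χ : Cfsg.IrrCharacter G, IsInvFun φ (χ : G → ℂ) ∧
      IsGlauber p ι (χ : G → ℂ) (β : C → ℂ) := by
  classical
  by_contra hc
  push Not at hc
  have h := column_congr hι hC hA hpG β 1
  have h0 : ModP p (∑ χ ∈ Finset.univ.filter (fun χ : Cfsg.IrrCharacter G =>
      IsInvFun φ (χ : G → ℂ)), (∑ g ∈ Finset.univ.filter (fun g => IsConj g (ι 1)),
        conj ((χ : G → ℂ) g)) * ((Nat.card C : ℂ) *
          Cfsg.classInner (fun x => (χ : G → ℂ) (ι x)) β)) := by
    refine ModP.sum _ _ fun χ hχ => ?_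
    obtain ⟨k, hk⟩ := IsCharacter.exists_classInner_irr_eq_natCast (isCharacter_res (ι := ι) χ) β
    have hpk : p ∣ k := by
      by_contra hd
      exact hc χ (Finset.mem_filter.mp hχ).2 ⟨k, hk, hd⟩
    refine ModP.mul_left (IsIntegral.sum _ fun g _ => ?_) ?_
    · rw [← irr_apply_inv]; exact IsCharacter.isIntegral (irr_isCharacter χ) _
    · rw [hk]; exact (ModP.of_dvd hpk).mul_left (isIntegral_natCast _)
  obtain ⟨n, -, hn⟩ := IsIrrCharacter.exists_degree β.2
  have h1 := h.add h0
  rw [sub_add_cancel, classSumConj_one, hn, ← Nat.cast_mul] at h1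
  have hdvd : n ∣ Nat.card C := by
    obtain ⟨d, -, hdvd, hd⟩ := CharClifford.exists_degree_dvd_card β.2
    rw [hn] at hd
    rwa [show n = d by exact_mod_cast hd]
  rcases ((Fact.out : p.Prime).dvd_mul).mp (modP_natCast_iff.mp h1) with h2 | h2
  · exact hpG h2
  · exact not_dvd_card_fixed hι hpG (h2.trans hdvd)

include hι hC hA hpG in
/-- The correspondent is unique. -/
theorem glauber_unique {χ : Cfsg.IrrCharacter G} (hχ : IsInvFun φ (χ : G → ℂ))
    {β γ : Cfsg.IrrCharacter C} (h₁ : IsGlauber p ι (χ : G → ℂ) (β : C → ℂ))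
    (h₂ : IsGlauber p ι (χ : G → ℂ) (γ : C → ℂ)) : β = γ := by
  classical
  by_contra hne
  obtain ⟨k, hk, hpk⟩ := h₁
  obtain ⟨l, hl, hpl⟩ := h₂
  let a : C → ℂ := fun c =>
    ∑ g ∈ Finset.univ.filter (fun g => IsConj g (ι c)), conj ((χ : G → ℂ) g)
  have key : ∀ (δ : Cfsg.IrrCharacter C) (j : ℕ),
      Cfsg.classInner (fun x => (χ : G → ℂ) (ι x)) δ = j → ¬ p ∣ j → ∀ c : C,
        ModP p ((Nat.card G : ℂ) * classSumConj (δ : C → ℂ) c -
          a c * ((Nat.card C : ℂ) * (j : ℂ))) := by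
    intro δ j hj hpj c
    have h := column_congr hι hC hA hpG δ c
    rw [← Finset.add_sum_erase _ _
      (Finset.mem_filter.mpr ⟨Finset.mem_univ χ, hχ⟩), hj, ← sub_sub] at h
    have h0 : ModP p (∑ ψ ∈ (Finset.univ.filter (fun ψ : Cfsg.IrrCharacter G =>
        IsInvFun φ (ψ : G → ℂ))).erase χ,
        (∑ g ∈ Finset.univ.filter (fun g => IsConj g (ι c)), conj ((ψ : G → ℂ) g)) *
          ((Nat.card C : ℂ) * Cfsg.classInner (fun x => (ψ : G → ℂ) (ι x)) δ)) := by
      refine ModP.sum _ _ fun ψ hψ => ?_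
      obtain ⟨i, hi⟩ := IsCharacter.exists_classInner_irr_eq_natCast (isCharacter_res (ι := ι) ψ) δ
      obtain ⟨hψne, hψmem⟩ := Finset.mem_erase.mp hψ
      have hpi : p ∣ i := by
        by_contra hd
        exact hψne (glauber_injective hι hC hA hpG (Finset.mem_filter.mp hψmem).2 hχ
          (β := δ) ⟨i, hi, hd⟩ ⟨j, hj, hpj⟩)
      refine ModP.mul_left (IsIntegral.sum _ fun g _ => ?_) ?_
      · rw [← irr_apply_inv]; exact IsCharacter.isIntegral (irr_isCharacter ψ) _
      · rw [hi]; exact (ModP.of_dvd hpi).mul_left (isIntegral_natCast _)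
    have h1 := h.add h0
    rwa [sub_add_cancel] at h1
  have hcomb : ∀ c, ModP p ((Nat.card G : ℂ) *
      ((l : ℂ) * classSumConj (β : C → ℂ) c - (k : ℂ) * classSumConj (γ : C → ℂ) c)) := by
    intro c
    convert ((key β k hk hpk c).mul_left (isIntegral_natCast l)).sub
      ((key γ l hl hpl c).mul_left (isIntegral_natCast k)) using 1
    ring
  have := Fintype.ofFinite (ConjClasses C)
  choose r hr using fun K : ConjClasses C => ConjClasses.exists_rep K
  have htot : ModP p (∑ K : ConjClasses C, (β : C → ℂ) (r K) * ((Nat.card G : ℂ) *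
      ((l : ℂ) * classSumConj (β : C → ℂ) (r K) - (k : ℂ) * classSumConj (γ : C → ℂ) (r K)))) :=
    ModP.sum _ _ fun K _ => (hcomb _).mul_left (IsCharacter.isIntegral (irr_isCharacter β) _)
  have horth : ∀ δ : Cfsg.IrrCharacter C,
      ∑ K : ConjClasses C, (β : C → ℂ) (r K) * classSumConj (δ : C → ℂ) (r K) =
        if β = δ then (Nat.card C : ℂ) else 0 := by
    intro δ
    have h := classInner_irr β δ
    rw [classInner_def, inv_mul_eq_iff_eq_mul₀ (Nat.cast_ne_zero.mpr Nat.card_pos.ne')] at h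
    have hfib : ∑ x : C, (β : C → ℂ) x * conj ((δ : C → ℂ) x) =
        ∑ K : ConjClasses C, (β : C → ℂ) (r K) * classSumConj (δ : C → ℂ) (r K) := by
      rw [← Finset.sum_fiberwise Finset.univ ConjClasses.mk]
      refine Finset.sum_congr rfl fun K _ => ?_
      rw [classSumConj, Finset.mul_sum]
      refine Finset.sum_congr (Finset.filter_congr fun x _ => ?_) fun x hx => ?_
      · rw [← ConjClasses.mk_eq_mk_iff_isConj, hr]
      · obtain ⟨z, hz⟩ := isConj_iff.mp (Finset.mem_filter.mp hx).2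
        rw [← hz, irr_isClassFunction β x z]
    rw [← hfib, h]
    split_ifs <;> simp
  have hexp : ∑ K : ConjClasses C, (β : C → ℂ) (r K) * ((Nat.card G : ℂ) *
      ((l : ℂ) * classSumConj (β : C → ℂ) (r K) - (k : ℂ) * classSumConj (γ : C → ℂ) (r K))) =
      (((Nat.card G * l) * Nat.card C : ℕ) : ℂ) := by
    have : ∀ K : ConjClasses C, (β : C → ℂ) (r K) * ((Nat.card G : ℂ) *
        ((l : ℂ) * classSumConj (β : C → ℂ) (r K) - (k : ℂ) * classSumConj (γ : C → ℂ) (r K))) =
        ((Nat.card G : ℂ) * l) * ((β : C → ℂ) (r K) * classSumConj (β : C → ℂ) (r K)) -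
          ((Nat.card G : ℂ) * k) * ((β : C → ℂ) (r K) * classSumConj (γ : C → ℂ) (r K)) :=
      fun K => by ring
    simp only [this, Finset.sum_sub_distrib, ← Finset.mul_sum, horth, if_true, if_neg hne]
    push_cast; ring
  rw [hexp] at htot
  have hp := (Fact.out : p.Prime)
  rcases hp.dvd_mul.mp (modP_natCast_iff.mp htot) with h | h
  · rcases hp.dvd_mul.mp h with h | h
    · exact hpG h
    · exact hpl h
  · exact not_dvd_card_fixed hι hpG h

include hι hC hA hpG in
/-- The multiplicity is congruent to `±1`. -/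
theorem glauber_mult {χ : Cfsg.IrrCharacter G} (hχ : IsInvFun φ (χ : G → ℂ))
    {β : Cfsg.IrrCharacter C} {k : ℕ}
    (hk : Cfsg.classInner (fun c => (χ : G → ℂ) (ι c)) β = k) (hpk : ¬ p ∣ k) :
    (k : ℤ) ≡ 1 [ZMOD p] ∨ (k : ℤ) ≡ -1 [ZMOD p] := by
  classical
  obtain ⟨m, hm1, hm2⟩ := exists_mult (ι := ι) χ
  have hmk : m β = k := by
    have := hm1 β
    rw [hk] at this
    exact_mod_cast this.symm
  have h := modP_sum_sq (p := p) hι hC hA hχ hm2
  have hd : p ∣ ∑ γ ∈ Finset.univ.erase β, m γ * m γ := Finset.dvd_sum fun γ hγ => by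
    refine dvd_mul_of_dvd_left ?_ _
    by_contra hd
    exact (Finset.mem_erase.mp hγ).1
      (glauber_unique hι hC hA hpG hχ ⟨m γ, hm1 γ, hd⟩ ⟨k, hk, hpk⟩)
  rw [← Finset.add_sum_erase _ _ (Finset.mem_univ β), hmk, Nat.cast_add] at h
  have h1 := h.sub ((ModP.of_dvd hd).mul_left (isIntegral_natCast (Nat.card C)))
  have h2 : ModP p ((((Nat.card C : ℤ) * ((k : ℤ) * k - 1)) : ℤ) : ℂ) := by
    convert h1 using 1
    push_cast; ring
  have hp : Prime (p : ℤ) := Nat.prime_iff_prime_int.mp Fact.out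
  rcases hp.dvd_mul.mp (modP_intCast_iff.mp h2) with h3 | h3
  · exact absurd (Int.natCast_dvd_natCast.mp h3) (not_dvd_card_fixed hι hpG)
  · rcases hp.dvd_mul.mp (show (p : ℤ) ∣ ((k : ℤ) - 1) * ((k : ℤ) + 1) by
      rwa [show ((k : ℤ) - 1) * ((k : ℤ) + 1) = (k : ℤ) * k - 1 by ring]) with h4 | h4
    · exact Or.inl (Int.modEq_iff_dvd.mpr (by
        rw [show (1 : ℤ) - k = -((k : ℤ) - 1) by ring]; exact h4.neg_right))
    · exact Or.inr (Int.modEq_iff_dvd.mpr (by
        rw [show (-1 : ℤ) - k = -((k : ℤ) + 1) by ring]; exact h4.neg_right))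

end Setup

end Cfsg.Agent.CharCore
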