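import Cfsg.Agent.Lib.CharCore.Glauberman
import Cfsg.Agent.Lib.CharCore.CliffordDegree
import Cfsg.Agent.Lib.Fitting.Minimal

/-!
# Solvable groups of operators of coprime order

Invariant irreducible characters and invariant classes; invariant characters over invariant ones.

Library `CharCore`, part 14.
-/

set_option autoImplicit false
set_option linter.unusedSectionVars false

open scoped ComplexConjugate

namespace Cfsg.Agent.CharCore

universe u v w

variable {A : Type v} [Group A] {G : Type u} [Group G]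

/-- Restriction of operators to an invariant subgroup. -/
noncomputable def restrictAut (φ : A →* MulAut G) (H : Subgroup G)
    (h : ∀ a, ∀ x ∈ H, φ a x ∈ H) : A →* MulAut H where
  toFun a :=
    { toFun := fun x => ⟨φ a x, h a x x.2⟩
      invFun := fun x => ⟨φ a⁻¹ x, h a⁻¹ x x.2⟩
      left_inv := fun x => Subtype.ext (show φ a⁻¹ (φ a (x : G)) = x by
        rw [← MulAut.mul_apply, ← map_mul, inv_mul_cancel, map_one, MulAut.one_apply])
      right_inv := fun x => Subtype.ext (show φ a (φ a⁻¹ (x : G)) = x by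
        rw [← MulAut.mul_apply, ← map_mul, mul_inv_cancel, map_one, MulAut.one_apply])
      map_mul' := fun x y => Subtype.ext (map_mul (φ a) (x : G) y) }
  map_one' := MulEquiv.ext fun x => Subtype.ext
    (show φ 1 (x : G) = x by rw [map_one, MulAut.one_apply])
  map_mul' a b := MulEquiv.ext fun x => Subtype.ext
    (show φ (a * b) (x : G) = φ a (φ b x) by rw [map_mul, MulAut.mul_apply])

theorem coe_restrictAut (φ : A →* MulAut G) (H : Subgroup G) (h : ∀ a, ∀ x ∈ H, φ a x ∈ H)
    (a : A) (x : H) : ((restrictAut φ H h a x : H) : G) = φ a x := rfl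

/-- The fixed points of operators. -/
def fixedSubgroup (φ : A →* MulAut G) : Subgroup G where
  carrier := {g | ∀ a, φ a g = g}
  one_mem' a := map_one _
  mul_mem' {x y} hx hy a := by rw [map_mul, hx a, hy a]
  inv_mem' {x} hx a := by rw [map_inv, hx a]

theorem mem_range_subtype_fixed (φ : A →* MulAut G) (g : G) :
    g ∈ (fixedSubgroup φ).subtype.range ↔ ∀ a, φ a g = g :=
  ⟨by rintro ⟨c, rfl⟩; exact c.2, fun h => ⟨⟨g, h⟩, rfl⟩⟩

theorem fixedSubgroup_invariant (φ : A →* MulAut G) (B : Subgroup A) [hB : B.Normal] (a : A)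
    (x : G) (hx : x ∈ fixedSubgroup (φ.comp B.subtype)) :
    φ a x ∈ fixedSubgroup (φ.comp B.subtype) := fun b => by
  show φ (b : A) (φ a x) = φ a x
  have hb : φ (a⁻¹ * b * a) x = x :=
    hx ⟨a⁻¹ * b * a, by simpa using hB.conj_mem b b.2 a⁻¹⟩
  rw [← MulAut.mul_apply, ← map_mul, show (b : A) * a = a * (a⁻¹ * b * a) by group, map_mul,
    MulAut.mul_apply, hb]

/-- The operators on the fixed points of a normal subgroup of operators. -/
noncomputable def quotientAut (φ : A →* MulAut G) (B : Subgroup A) [B.Normal] :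
    A ⧸ B →* MulAut (fixedSubgroup (φ.comp B.subtype)) :=
  QuotientGroup.lift B
    (restrictAut φ (fixedSubgroup (φ.comp B.subtype)) (fixedSubgroup_invariant φ B)) fun b hb =>
      MulEquiv.ext fun x => Subtype.ext (x.2 ⟨b, hb⟩)

theorem coe_quotientAut (φ : A →* MulAut G) (B : Subgroup A) [B.Normal] (a : A)
    (x : fixedSubgroup (φ.comp B.subtype)) :
    ((quotientAut φ B (a : A ⧸ B) x : fixedSubgroup (φ.comp B.subtype)) : G) = φ a x := rfl

theorem isInvFun_quotientAut (φ : A →* MulAut G) (B : Subgroup A) [B.Normal]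
    (β : fixedSubgroup (φ.comp B.subtype) → ℂ) :
    IsInvFun (quotientAut φ B) β ↔ ∀ (a : A) x,
      β (restrictAut φ _ (fixedSubgroup_invariant φ B) a x) = β x :=
  ⟨fun h a x => h (a : A ⧸ B) x, fun h a x => by
    obtain ⟨a, rfl⟩ := QuotientGroup.mk_surjective a
    exact h a x⟩

/-- Invariance of a conjugacy class. -/
def IsInvClass (φ : A →* MulAut G) (K : ConjClasses G) : Prop :=
  ∀ (a : A) (g : G), ConjClasses.mk g = K → ConjClasses.mk (φ a g) = K

theorem exists_normal_pgroup [Finite A] [Group.IsSolvable A] [Nontrivial A] :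
    ∃ (p : ℕ) (B : Subgroup A), p.Prime ∧ B.Normal ∧ B ≠ ⊥ ∧ IsPGroup p B := by
  obtain ⟨M, hM⟩ := Fitting.exists_isMinNormal (G := A)
  obtain ⟨p, hp, hel⟩ := hM.exists_isElementaryAbelian_of_isSolvable
  exact ⟨p, M, hp, hM.1, hM.2.1, Fitting.isPGroup_of_isElementaryAbelian hel⟩

theorem not_dvd_card_of_coprime [Finite A] [Finite G]
    (hcop : (Nat.card G).Coprime (Nat.card A)) {p : ℕ} (hp : p.Prime) {B : Subgroup A}
    (hB : IsPGroup p B) (hne : B ≠ ⊥) : ¬ p ∣ Nat.card G := fun h => by
  have := Fact.mk hp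
  obtain ⟨n, hn⟩ := IsPGroup.iff_card.mp hB
  have hn0 : n ≠ 0 := fun h0 => hne (Subgroup.card_eq_one.mp (by rw [hn, h0, pow_zero]))
  have h2 : p ∣ Nat.card A := ((hn ▸ dvd_pow_self p hn0)).trans B.card_subgroup_dvd_card
  exact hp.not_dvd_one (hcop.gcd_eq_one ▸ Nat.dvd_gcd h h2)

theorem coprime_quotient [Finite A] [Finite G] (hcop : (Nat.card G).Coprime (Nat.card A))
    (B : Subgroup A) [B.Normal] (H : Subgroup G) :
    (Nat.card H).Coprime (Nat.card (A ⧸ B)) :=
  (hcop.coprime_dvd_left H.card_subgroup_dvd_card).coprime_dvd_right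
    B.card_quotient_dvd_card

theorem card_quotient_lt [Finite A] (B : Subgroup A) (hB : B ≠ ⊥) :
    Nat.card (A ⧸ B) < Nat.card A := by
  rw [Subgroup.card_eq_card_quotient_mul_card_subgroup B]
  exact lt_mul_of_one_lt_right Nat.card_pos
    (Finite.one_lt_card_iff_nontrivial.mpr ((Subgroup.nontrivial_iff_ne_bot B).mpr hB))

section Step

variable [Finite A] [Fintype G] {p : ℕ} [Fact p.Prime]
variable {C : Type w} [Group C] [Fintype C] {φ : A →* MulAut G} {B : Subgroup A} [B.Normal]
variable {ι : C →* G} {ψ : A →* MulAut C}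

/-- The correspondence commutes with the operators. -/
theorem isGlauber_twist (hψ : ∀ a c, ι (ψ a c) = φ a (ι c)) (a : A) {χ : G → ℂ} {β : C → ℂ}
    (h : IsGlauber p ι χ β) :
    IsGlauber p ι (fun g => χ (φ a g)) (fun c => β (ψ a c)) := by
  obtain ⟨m, hm, hpm⟩ := h
  refine ⟨m, ?_, hpm⟩
  rw [← hm]
  unfold Cfsg.classInner
  congr 1
  exact Fintype.sum_equiv (ψ a).toEquiv _ _ fun c => by simp [hψ]

variable (hι : Function.Injective ι) (hC : ∀ g, g ∈ ι.range ↔ ∀ b, (φ.comp B.subtype) b g = g)
  (hBp : IsPGroup p B) (hpG : ¬ p ∣ Nat.card G) (hψ : ∀ a c, ι (ψ a c) = φ a (ι c))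

theorem isInvFun_twist {χ : G → ℂ} (hχ : IsInvFun (φ.comp B.subtype) χ) (a : A) :
    IsInvFun (φ.comp B.subtype) (fun g => χ (φ a g)) := fun b g => by
  show χ (φ a (φ (b : A) g)) = χ (φ a g)
  rw [← MulAut.mul_apply, ← map_mul,
    show a * (b : A) = (a * b * a⁻¹) * a by group, map_mul, MulAut.mul_apply]
  exact hχ ⟨_, Subgroup.Normal.conj_mem ‹B.Normal› b b.2 a⟩ _

include hι hC hBp hpG hψ in
/-- A `B`-invariant character is `A`-invariant iff its correspondent is. -/
theorem isInvFun_iff_correspondent {χ : Cfsg.IrrCharacter G}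
    (hχ : IsInvFun (φ.comp B.subtype) (χ : G → ℂ)) {β : Cfsg.IrrCharacter C}
    (h : IsGlauber p ι (χ : G → ℂ) (β : C → ℂ)) :
    IsInvFun φ (χ : G → ℂ) ↔ IsInvFun ψ (β : C → ℂ) := by
  constructor
  · intro hinv a c
    have h1 := isGlauber_twist hψ a h
    rw [show (fun g => (χ : G → ℂ) (φ a g)) = (χ : G → ℂ) from funext (hinv a)] at h1
    exact congrFun (congrArg Subtype.val (glauber_unique hι hC hBp hpG hχ
      (β := ⟨_, isIrrCharacter_comp_surjective β.2 (ψ a).toMonoidHom (ψ a).surjective⟩) h1 h)) c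
  · intro hinv a g
    have h1 := isGlauber_twist hψ a h
    rw [show (fun c => (β : C → ℂ) (ψ a c)) = (β : C → ℂ) from funext (hinv a)] at h1
    exact congrFun (congrArg Subtype.val (glauber_injective hι hC hBp hpG
      (χ := ⟨_, isIrrCharacter_comp_surjective χ.2 (φ a).toMonoidHom (φ a).surjective⟩)
      (ψ := χ) (isInvFun_twist hχ a) hχ h1 h)) g

include hι hC hBp hpG hψ in
theorem card_inv_irr_step :
    Nat.card {χ : Cfsg.IrrCharacter G // IsInvFun φ (χ : G → ℂ)} =
      Nat.card {β : Cfsg.IrrCharacter C // IsInvFun ψ (β : C → ℂ)} := by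
  have hB : ∀ χ : G → ℂ, IsInvFun φ χ → IsInvFun (φ.comp B.subtype) χ :=
    fun χ h b g => h b g
  choose f hf using fun χ : {χ : Cfsg.IrrCharacter G // IsInvFun φ (χ : G → ℂ)} =>
    exists_glauber hι hC hBp hpG (hB _ χ.2)
  refine Nat.card_congr (Equiv.ofBijective (fun χ => ⟨f χ,
    (isInvFun_iff_correspondent hι hC hBp hpG hψ (hB _ χ.2) (hf χ)).mp χ.2⟩) ⟨?_, ?_⟩)
  · intro χ χ' he
    have he' : f χ = f χ' := congrArg Subtype.val he
    exact Subtype.ext (glauber_injective hι hC hBp hpG (hB _ χ.2) (hB _ χ'.2) (hf χ) (he' ▸ hf χ'))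
  · rintro ⟨β, hβ⟩
    obtain ⟨χ, h1, h2⟩ := glauber_surjective hι hC hBp hpG β
    refine ⟨⟨χ, (isInvFun_iff_correspondent hι hC hBp hpG hψ h1 h2).mpr hβ⟩, Subtype.ext ?_⟩
    exact glauber_unique hι hC hBp hpG h1 (hf ⟨χ, _⟩) h2

include hι hC hBp hpG hψ in
theorem card_inv_class_step :
    Nat.card {K : ConjClasses G // IsInvClass φ K} =
      Nat.card {K : ConjClasses C // IsInvClass ψ K} := by
  symm
  refine Nat.card_congr (Equiv.ofBijective (fun K => ⟨ConjClasses.map ι K.1, ?_⟩) ⟨?_, ?_⟩)
  · obtain ⟨K, hK⟩ := K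
    obtain ⟨c, rfl⟩ := ConjClasses.exists_rep K
    intro a g hg
    have h1 : IsConj g (ι c) := ConjClasses.mk_eq_mk_iff_isConj.mp hg
    show _ = ConjClasses.mk (ι c)
    rw [ConjClasses.mk_eq_mk_iff_isConj]
    have h2 := ι.map_isConj (ConjClasses.mk_eq_mk_iff_isConj.mp (hK a c rfl))
    rw [hψ] at h2
    exact ((φ a).toMonoidHom.map_isConj h1).trans h2
  · rintro ⟨K, hK⟩ ⟨L, hL⟩ he
    obtain ⟨c, rfl⟩ := ConjClasses.exists_rep K
    obtain ⟨d, rfl⟩ := ConjClasses.exists_rep L
    have he' : ConjClasses.mk (ι c) = ConjClasses.mk (ι d) := congrArg Subtype.val he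
    exact Subtype.ext (ConjClasses.mk_eq_mk_iff_isConj.mpr
      (isConj_of_isConj_map hι hC hBp hpG (ConjClasses.mk_eq_mk_iff_isConj.mp he')))
  · rintro ⟨K, hK⟩
    obtain ⟨g, rfl⟩ := ConjClasses.exists_rep K
    obtain ⟨c, hc⟩ := exists_fixed_isConj hC hBp hpG (g := g) fun b =>
      (ConjClasses.mk_eq_mk_iff_isConj.mp (hK (b : A) g rfl)).symm
    refine ⟨⟨ConjClasses.mk c, fun a d hd => ?_⟩,
      Subtype.ext (ConjClasses.mk_eq_mk_iff_isConj.mpr hc.symm)⟩
    rw [ConjClasses.mk_eq_mk_iff_isConj] at hd ⊢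
    refine isConj_of_isConj_map hι hC hBp hpG ?_
    rw [hψ]
    have h1 : ConjClasses.mk (φ a (ι d)) = ConjClasses.mk g := hK a _
      (ConjClasses.mk_eq_mk_iff_isConj.mpr ((ι.map_isConj hd).trans hc.symm))
    exact (ConjClasses.mk_eq_mk_iff_isConj.mp h1).trans hc

end Step

/-- For solvable coprime operators, invariant irreducible characters and invariant classes are
equally numerous. -/
theorem card_inv_irr_eq_card_inv_class :
    ∀ (n : ℕ) (A : Type v) [Group A] [Finite A] [Group.IsSolvable A] (G : Type u) [Group G]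
      [Finite G] (φ : A →* MulAut G), Nat.card A = n → (Nat.card G).Coprime (Nat.card A) →
      Nat.card {χ : Cfsg.IrrCharacter G // IsInvFun φ (χ : G → ℂ)} =
        Nat.card {K : ConjClasses G // IsInvClass φ K} := by
  intro n
  induction n using Nat.strong_induction_on with
  | _ n ih =>
    intro A _ _ _ G _ _ φ hn hcop
    rcases subsingleton_or_nontrivial A with hA | hA
    · have h1 : ∀ χ : Cfsg.IrrCharacter G, IsInvFun φ (χ : G → ℂ) := fun χ a g => by
        rw [Subsingleton.elim a 1, map_one, MulAut.one_apply]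
      have h2 : ∀ K : ConjClasses G, IsInvClass φ K := fun K a g hg => by
        rwa [Subsingleton.elim a 1, map_one, MulAut.one_apply]
      rw [Nat.card_congr (Equiv.subtypeUnivEquiv h1), Nat.card_congr (Equiv.subtypeUnivEquiv h2)]
      exact card_irr
    · obtain ⟨p, B, hp, hBn, hB0, hBp⟩ := exists_normal_pgroup (A := A)
      have := Fact.mk hp
      have := Fintype.ofFinite G
      have hpG := not_dvd_card_of_coprime hcop hp hBp hB0
      set H := fixedSubgroup (φ.comp B.subtype) with hH
      have := Fintype.ofFinite H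
      let ψ : A →* MulAut H := restrictAut φ H (fixedSubgroup_invariant φ B)
      have hψ : ∀ a c, H.subtype (ψ a c) = φ a (H.subtype c) := fun a c => rfl
      rw [card_inv_irr_step (ψ := ψ) H.subtype_injective (mem_range_subtype_fixed _) hBp hpG hψ,
        card_inv_class_step (ψ := ψ) H.subtype_injective (mem_range_subtype_fixed _) hBp hpG hψ]
      have hih := ih _ (hn ▸ card_quotient_lt B hB0) (A ⧸ B) H (quotientAut φ B) rfl
        (coprime_quotient hcop B H)
      refine (Nat.card_congr (Equiv.subtypeEquivRight fun β => ?_)).trans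
        (hih.trans (Nat.card_congr (Equiv.subtypeEquivRight fun K => ?_)))
      · exact (isInvFun_quotientAut φ B _).symm
      · exact ⟨fun h a g hg => h (a : A ⧸ B) g hg, fun h a g hg => by
          obtain ⟨a, rfl⟩ := QuotientGroup.mk_surjective a
          exact h a g hg⟩

/-- For solvable coprime operators, an invariant irreducible character of an invariant normal
subgroup lies under an invariant irreducible character. -/
theorem exists_inv_over :
    ∀ (n : ℕ) (A : Type v) [Group A] [Finite A] [Group.IsSolvable A] (G : Type u) [Group G]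
      [Fintype G] (φ : A →* MulAut G) (N : Subgroup G) [N.Normal] [Fintype N],
      Nat.card A = n → (Nat.card G).Coprime (Nat.card A) → (∀ a, ∀ x ∈ N, φ a x ∈ N) →
      ∀ θ : Cfsg.IrrCharacter N,
        (∀ (a : A) (x y : N), (y : G) = φ a x → (θ : N → ℂ) y = (θ : N → ℂ) x) →
        ∃ χ : Cfsg.IrrCharacter G, IsInvFun φ (χ : G → ℂ) ∧
          Cfsg.classInner (fun x : N => (χ : G → ℂ) x) θ ≠ 0 := by
  intro n
  induction n using Nat.strong_induction_on with
  | _ n ih =>
    intro A _ _ _ G _ _ φ N hNn _ hn hcop hN θ hθ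
    classical
    rcases subsingleton_or_nontrivial A with hA | hA
    · obtain ⟨χ, hχ⟩ := exists_over N θ
      exact ⟨χ, fun a g => by rw [Subsingleton.elim a 1, map_one, MulAut.one_apply], hχ⟩
    obtain ⟨p, B, hp, hBn, hB0, hBp⟩ := exists_normal_pgroup (A := A)
    have := Fact.mk hp
    have hpG := not_dvd_card_of_coprime hcop hp hBp hB0
    have hpN : ¬ p ∣ Nat.card N := fun h => hpG (h.trans N.card_subgroup_dvd_card)
    set H := fixedSubgroup (φ.comp B.subtype) with hH
    have := Fintype.ofFinite H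
    let N' : Subgroup H := N.subgroupOf H
    have := Fintype.ofFinite N'
    let φN : A →* MulAut N := restrictAut φ N hN
    let ι' : N' →* N :=
      { toFun := fun x => ⟨((x : H) : G), x.2⟩, map_one' := rfl, map_mul' := fun _ _ => rfl }
    have hι' : Function.Injective ι' := fun x y h =>
      Subtype.ext (Subtype.ext (congrArg (fun z : N => (z : G)) h))
    have hC' : ∀ g, g ∈ ι'.range ↔ ∀ b, (φN.comp B.subtype) b g = g := by
      intro g
      constructor
      · rintro ⟨x, rfl⟩ b
        exact Subtype.ext ((x : H).2 b)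
      · intro h
        exact ⟨⟨⟨(g : G), fun b => congrArg (fun z : N => (z : G)) (h b)⟩, g.2⟩, rfl⟩
    have hθB : IsInvFun (φN.comp B.subtype) (θ : N → ℂ) := fun b x => hθ b x _ rfl
    obtain ⟨θ', hθ'⟩ := exists_glauber hι' hC' hBp hpN hθB
    have hN' : ∀ a, ∀ x ∈ N', restrictAut φ H (fixedSubgroup_invariant φ B) a x ∈ N' :=
      fun a x hx => hN a _ hx
    let ψN : A →* MulAut N' := restrictAut _ N' hN'
    have hθ'inv : IsInvFun ψN (θ' : N' → ℂ) :=
      (isInvFun_iff_correspondent (φ := φN) hι' hC' hBp hpN (ψ := ψN) (fun a c => rfl) hθB hθ').mp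
        fun a x => hθ a x _ rfl
    obtain ⟨β, hβinv, hβ⟩ := ih _ (hn ▸ card_quotient_lt B hB0) (A ⧸ B) H (quotientAut φ B) N' rfl
      (coprime_quotient hcop B H)
      (fun a x hx => by
        obtain ⟨a, rfl⟩ := QuotientGroup.mk_surjective a
        exact hN a _ hx)
      θ' (fun a x y hy => by
        obtain ⟨a, rfl⟩ := QuotientGroup.mk_surjective a
        rw [show y = ψN a x from Subtype.ext hy]
        exact hθ'inv a x)
    obtain ⟨χ, hχB, hχβ⟩ :=
      glauber_surjective H.subtype_injective (mem_range_subtype_fixed _) hBp hpG β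
    have hχinv : IsInvFun φ (χ : G → ℂ) :=
      (isInvFun_iff_correspondent H.subtype_injective (mem_range_subtype_fixed _) hBp hpG
        (ψ := restrictAut φ H (fixedSubgroup_invariant φ B)) (fun a c => rfl) hχB hχβ).mpr
        ((isInvFun_quotientAut φ B _).mp hβinv)
    refine ⟨χ, hχinv, fun hzero => ?_⟩
    obtain ⟨m, hm1, hm2⟩ := exists_mult (ι := H.subtype) χ
    obtain ⟨k, hk, hpk⟩ := hχβ
    have hmβ : m β = k := by
      have := hm1 β
      rw [hk] at this
      exact_mod_cast this.symm
    choose e he using fun γ : Cfsg.IrrCharacter H =>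
      IsCharacter.exists_classInner_irr_eq_natCast (isCharacter_restrict (irr_isCharacter γ) N') θ'
    obtain ⟨d, -, hdvd, hd⟩ := CharClifford.exists_degree_dvd_card β.2
    have hpe : ¬ p ∣ e β := fun h => by
      have h1 := mult_dvd_degree N' β θ' (he β) (fun h0 => hβ (by rw [he β, h0, Nat.cast_zero])) hd
      exact hpG ((h.trans (h1.trans hdvd)).trans H.card_subgroup_dvd_card)
    -- first computation
    have hX1 : Cfsg.classInner (fun x : N' => (χ : G → ℂ) ((x : H) : G)) θ' =
        ((∑ γ, m γ * e γ : ℕ) : ℂ) := by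
      have hfun : (fun x : N' => (χ : G → ℂ) ((x : H) : G)) =
          ∑ γ : Cfsg.IrrCharacter H, (m γ : ℂ) • (fun x : N' => (γ : H → ℂ) x) := by
        funext x
        have := congrFun hm2 (x : H)
        simpa using this
      rw [hfun, classInner_sum_left]
      push_cast
      exact Finset.sum_congr rfl fun γ _ => by rw [classInner_smul_left, he γ]
    -- second computation
    obtain ⟨a, ha⟩ := IsCharacter.exists_sum (isCharacter_restrict (irr_isCharacter χ) N)
    choose f hf using fun ξ : Cfsg.IrrCharacter N =>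
      IsCharacter.exists_classInner_irr_eq_natCast (isCharacter_res (ι := ι') ξ) θ'
    have haξ : ∀ ξ : Cfsg.IrrCharacter N, Cfsg.classInner (fun x : N => (χ : G → ℂ) x) ξ = a ξ := fun ξ => by
      rw [ha, classInner_sum_all]
    have hX2 : Cfsg.classInner (fun x : N' => (χ : G → ℂ) ((x : H) : G)) θ' =
        ∑ ξ : Cfsg.IrrCharacter N, (a ξ : ℂ) * f ξ := by
      have hfun : (fun x : N' => (χ : G → ℂ) ((x : H) : G)) =
          ∑ ξ : Cfsg.IrrCharacter N, (a ξ : ℂ) • (fun x : N' => (ξ : N → ℂ) (ι' x)) := by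
        funext x
        have := congrFun ha (ι' x)
        simpa using! this
      rw [hfun, classInner_sum_left]
      exact Finset.sum_congr rfl fun ξ _ => by rw [classInner_smul_left, hf ξ]
    let _ : MulAction B (Cfsg.IrrCharacter N) := irrAction (φN.comp B.subtype)
    have hmod := modP_sum_sub_sum_fixed hBp (fun ξ : Cfsg.IrrCharacter N => (a ξ : ℂ) * f ξ)
      (fun ξ => (isIntegral_natCast _).mul (isIntegral_natCast _))
      (fun b ξ => by
        have h1 : f (b • ξ) = f ξ := by
          have h := hf (b • ξ)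
          rw [show (fun x : N' => ((b • ξ : Cfsg.IrrCharacter N) : N → ℂ) (ι' x)) =
              fun x => (ξ : N → ℂ) (ι' x) from funext fun x => by
            show (ξ : N → ℂ) (((φN.comp B.subtype) b)⁻¹ (ι' x)) = _
            rw [← map_inv, fixed_apply hC' x]] at h
          rw [hf ξ] at h
          exact_mod_cast h.symm
        have h2 : a (b • ξ) = a ξ := by
          have h := haξ (b • ξ)
          have : Cfsg.classInner (fun x : N => (χ : G → ℂ) x) (b • ξ : Cfsg.IrrCharacter N) =
              Cfsg.classInner (fun x : N => (χ : G → ℂ) x) ξ := by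
            unfold Cfsg.classInner
            congr 1
            refine Fintype.sum_equiv ((φN.comp B.subtype) b⁻¹).toEquiv _ _ fun x => ?_
            have hx : (χ : G → ℂ) (((φN.comp B.subtype) b⁻¹ x : N) : G) = (χ : G → ℂ) x :=
              hχB b⁻¹ x
            show _ = (χ : G → ℂ) (((φN.comp B.subtype) b⁻¹ x : N) : G) * _
            rw [hx, map_inv]
            rfl
          rw [this, haξ ξ] at h
          exact_mod_cast h.symm
        simp only [h1, h2])
    have hfix0 : ModP p (∑ ξ ∈ Finset.univ.filter (fun ξ : Cfsg.IrrCharacter N =>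
        ∀ b : B, b • ξ = ξ), (a ξ : ℂ) * f ξ) := by
      refine ModP.sum _ _ fun ξ hξ => ?_
      by_cases hξθ : ξ = θ
      · subst hξθ
        have : a ξ = 0 := by exact_mod_cast (haξ ξ).symm.trans hzero
        simp [this, ModP.zero]
      · refine (ModP.of_dvd ?_).mul_left (isIntegral_natCast _)
        by_contra hnd
        refine hξθ (glauber_injective hι' hC' hBp hpN (fun b x => ?_) hθB
          ⟨f ξ, hf ξ, hnd⟩ hθ')
        have h := congrFun (congrArg Subtype.val ((Finset.mem_filter.mp hξ).2 b⁻¹)) x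
        change (ξ : N → ℂ) (((φN.comp B.subtype) b⁻¹)⁻¹ x) = _ at h
        rwa [map_inv, inv_inv] at h
    have htot := hmod.add hfix0
    rw [sub_add_cancel, ← hX2, hX1] at htot
    have hdvd2 := modP_natCast_iff.mp htot
    rw [← Finset.add_sum_erase _ _ (Finset.mem_univ β)] at hdvd2
    have hrest : p ∣ ∑ γ ∈ Finset.univ.erase β, m γ * e γ := Finset.dvd_sum fun γ hγ => by
      refine dvd_mul_of_dvd_left ?_ _
      by_contra hnd
      exact (Finset.mem_erase.mp hγ).1 (glauber_unique H.subtype_injective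
        (mem_range_subtype_fixed _) hBp hpG hχB ⟨m γ, hm1 γ, hnd⟩ ⟨k, hk, hpk⟩)
    have := (Nat.dvd_add_left hrest).mp hdvd2
    rw [hmβ] at this
    rcases hp.dvd_mul.mp this with h | h
    · exact hpk h
    · exact hpe h

end Cfsg.Agent.CharCore
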