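import Cfsg.Agent.Lib.CharCore.Glauberman

/-!
# Operators given by conjugation inside a bigger group

Library `CharCore`, part 12.
-/

set_option autoImplicit false

namespace Cfsg.Agent.CharCore

universe u

variable {Γ : Type u} [Group Γ]

/-- A subgroup normalising `G` acting on `G` by conjugation. -/
noncomputable def conjAut (G S : Subgroup Γ) (h : ∀ s ∈ S, ∀ g ∈ G, s * g * s⁻¹ ∈ G) :
    S →* MulAut G where
  toFun s :=
    { toFun := fun g => ⟨(s : Γ) * g * (s : Γ)⁻¹, h s s.2 g g.2⟩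
      invFun := fun g => ⟨(s : Γ)⁻¹ * g * (s : Γ), by simpa using h (s : Γ)⁻¹ (inv_mem s.2) g g.2⟩
      left_inv := fun g => Subtype.ext (show _ = (g : Γ) by simp [mul_assoc])
      right_inv := fun g => Subtype.ext (show _ = (g : Γ) by simp [mul_assoc])
      map_mul' := fun a b => Subtype.ext (by simp [mul_assoc]) }
  map_one' := MulEquiv.ext fun g => Subtype.ext (show _ = (g : Γ) by simp)
  map_mul' s t := MulEquiv.ext fun g => Subtype.ext (by simp [mul_assoc])

theorem coe_conjAut {G S : Subgroup Γ} (h : ∀ s ∈ S, ∀ g ∈ G, s * g * s⁻¹ ∈ G) (s : S) (g : G) :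
    ((conjAut G S h s g : G) : Γ) = (s : Γ) * g * (s : Γ)⁻¹ := rfl

theorem isInvFun_conjAut {G S : Subgroup Γ} (h : ∀ s ∈ S, ∀ g ∈ G, s * g * s⁻¹ ∈ G)
    (χ : G → ℂ) : IsInvFun (conjAut G S h) χ ↔
      ∀ s ∈ S, ∀ g g' : G, (g' : Γ) = s * g * s⁻¹ → χ g' = χ g := by
  refine ⟨fun hi s hs g g' he => ?_, fun hi s g => hi s s.2 g _ rfl⟩
  rw [show g' = conjAut G S h ⟨s, hs⟩ g from Subtype.ext he, hi]

/-- The fixed points are the centralizer of `S` in `G`. -/
theorem mem_range_inclusion_iff {G S C : Subgroup Γ} (h : ∀ s ∈ S, ∀ g ∈ G, s * g * s⁻¹ ∈ G)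
    (hC : C = G ⊓ Subgroup.centralizer (S : Set Γ)) (hCG : C ≤ G) (g : G) :
    g ∈ (Subgroup.inclusion hCG).range ↔ ∀ s, conjAut G S h s g = g := by
  constructor
  · rintro ⟨c, rfl⟩ s
    have hc : (c : Γ) ∈ Subgroup.centralizer (S : Set Γ) := by
      have := c.2
      simp only [hC] at this
      exact this.2
    refine Subtype.ext ?_
    show (s : Γ) * c * (s : Γ)⁻¹ = c
    rw [Subgroup.mem_centralizer_iff.mp hc s s.2, mul_inv_cancel_right]
  · intro hg
    have hmem : (g : Γ) ∈ C := by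
      rw [hC]
      refine ⟨g.2, Subgroup.mem_centralizer_iff.mpr fun s hs => ?_⟩
      have := congrArg (Subtype.val : G → Γ) (hg ⟨s, hs⟩)
      exact mul_inv_eq_iff_eq_mul.mp this
    exact ⟨⟨g, hmem⟩, Subtype.ext rfl⟩

end Cfsg.Agent.CharCore
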