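import Cfsg.Agent.Lib.CharCore.GlaubermanSolvable
import Cfsg.Agent.Lib.CharCore.ConjAut
import Cfsg.Agent.CharDeep.Ext.Avg
import Cfsg.Agent.CharDeep.Ext.Clifford
import Cfsg.Agent.Lib.CharInd.Monomial

/-!
# Invariant constituents above, for solvable factor groups

Library `CharCore`, part 17.
-/

set_option autoImplicit false
set_option linter.unusedSectionVars false

open scoped ComplexConjugate

namespace Cfsg.Agent.CharCore

universe u v

/-- Constituents of constituents are constituents. -/
theorem classInner_comp_ne_zero {G : Type u} [Group G] [Fintype G] {M : Type v} [Group M] [Fintype M]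
    {L : Type*} [Group L] [Fintype L] (i : M →* G) (j : L →* M) {χ : G → ℂ}
    (hχ : Cfsg.IsCharacter G χ) (ξ : Cfsg.IrrCharacter M) (θ : Cfsg.IrrCharacter L)
    (h1 : Cfsg.classInner (fun m => χ (i m)) ξ ≠ 0)
    (h2 : Cfsg.classInner (fun l => (ξ : M → ℂ) (j l)) θ ≠ 0) :
    Cfsg.classInner (fun l => χ (i (j l))) θ ≠ 0 := by
  classical
  obtain ⟨a, ha⟩ := IsCharacter.exists_sum (isCharacter_comp hχ i)
  choose f hf using fun γ : Cfsg.IrrCharacter M =>
    IsCharacter.exists_classInner_irr_eq_natCast (isCharacter_comp (irr_isCharacter γ) j) θ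
  have hfun : (fun l => χ (i (j l))) =
      ∑ γ : Cfsg.IrrCharacter M, (a γ : ℂ) • (fun l => (γ : M → ℂ) (j l)) := by
    funext l
    simpa using! congrFun ha (j l)
  have ha0 : a ξ ≠ 0 := fun h0 => by
    apply h1
    rw [show (fun m => χ (i m)) = _ from ha, classInner_sum_all, h0, Nat.cast_zero]
  have hf0 : f ξ ≠ 0 := fun h0 => h2 (by
    have := hf ξ
    rw [h0, Nat.cast_zero] at this
    exact this)
  rw [hfun, classInner_sum_left]
  have : ∀ γ : Cfsg.IrrCharacter M,
      Cfsg.classInner ((a γ : ℂ) • fun l => (γ : M → ℂ) (j l)) θ = ((a γ * f γ : ℕ) : ℂ) := fun γ => by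
    rw [classInner_smul_left, hf γ, Nat.cast_mul]
  rw [Finset.sum_congr rfl fun γ _ => this γ, ← Nat.cast_sum, Nat.cast_ne_zero]
  intro h0
  exact Nat.mul_ne_zero ha0 hf0 (Finset.sum_eq_zero_iff.mp h0 ξ (Finset.mem_univ _))

section Abelian

variable {G : Type u} [Group G] [Fintype G] (M : Subgroup G) [M.Normal] [Fintype M]

/-- An irreducible character trivial on a subgroup containing the commutators is linear. -/
theorem degree_one_of_inv (hcomm : commutator G ≤ M) (γ : Cfsg.IrrCharacter G)
    (hinv : ∀ (n : M) g, (γ : G → ℂ) ((n : G) * g) = (γ : G → ℂ) g) :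
    (γ : G → ℂ) 1 = 1 := by
  obtain ⟨nn, ρ, hρ, hchar⟩ := γ.2
  have hker : ∀ c ∈ commutator G, ρ c = 1 := fun c hc => by
    have h1 := hinv ⟨c, hcomm hc⟩ 1
    rw [← hchar, mul_one, Representation.char_one] at h1
    exact (character_eq_finrank_iff ρ c).mp h1
  have hs : ∀ g, g ∈ CharInd.scalarSubgroup ρ := by
    intro g
    obtain ⟨c, hc⟩ := CharClifford.exists_scalar_of_commute ρ (ρ g) fun b => by
      have h1 := hker _ (Subgroup.commutator_mem_commutator (Subgroup.mem_top g) (Subgroup.mem_top b))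
      rw [commutatorElement_def] at h1
      show ρ g * ρ b = ρ b * ρ g
      rw [← map_mul, ← map_mul, show g * b = g * b * g⁻¹ * b⁻¹ * (b * g) by group, map_mul, h1,
        one_mul]
    exact CharInd.mem_scalarSubgroup.mpr ⟨c, fun v => by rw [hc]; simp⟩
  rw [← hchar, Representation.char_one, CharInd.finrank_eq_one_of_scalar ρ hs, Nat.cast_one]

/-- Characters over a common character of `M` differ by linear characters of `G ⧸ M`. -/
theorem exists_linear_of_common (hcomm : commutator G ≤ M) (χ χ' : Cfsg.IrrCharacter G)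
    (ξ : Cfsg.IrrCharacter M) (h : Cfsg.classInner (fun m : M => (χ : G → ℂ) m) ξ ≠ 0)
    (h' : Cfsg.classInner (fun m : M => (χ' : G → ℂ) m) ξ ≠ 0) :
    ∃ l : G →* ℂˣ, (∀ m : M, l m = 1) ∧ ∀ g, (χ' : G → ℂ) g = (l g : ℂ) * (χ : G → ℂ) g := by
  classical
  set f : G → ℂ := fun g => (χ' : G → ℂ) g * conj ((χ : G → ℂ) g) with hf
  have hfc : Cfsg.IsCharacter G f :=
    isCharacter_mul (irr_isCharacter χ') (IsCharacter.star (irr_isCharacter χ))
  have hη := CharDeep.Ext.isCharacter_avg M hfc
  have h1 : CharDeep.Ext.avg M f 1 ≠ 0 := by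
    rw [CharDeep.Ext.avg_one]
    obtain ⟨a, ha⟩ := IsCharacter.exists_sum (isCharacter_restrict (irr_isCharacter χ) M)
    obtain ⟨b, hb⟩ := IsCharacter.exists_sum (isCharacter_restrict (irr_isCharacter χ') M)
    have ha0 : a ξ ≠ 0 := fun h0 => h (by rw [ha, classInner_sum_all, h0, Nat.cast_zero])
    have hb0 : b ξ ≠ 0 := fun h0 => h' (by rw [hb, classInner_sum_all, h0, Nat.cast_zero])
    have he : Cfsg.classInner (fun m : M => (χ' : G → ℂ) m) (fun m : M => (χ : G → ℂ) m) =
        ((∑ γ, b γ * a γ : ℕ) : ℂ) := by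
      rw [ha, hb, classInner_sum_sum]
      push_cast
      simp
    have hne : Cfsg.classInner (fun m : M => (χ' : G → ℂ) m) (fun m : M => (χ : G → ℂ) m) ≠ 0 := by
      rw [he, Nat.cast_ne_zero]
      intro h0
      exact Nat.mul_ne_zero hb0 ha0 (Finset.sum_eq_zero_iff.mp h0 ξ (Finset.mem_univ _))
    simpa [classInner_def, hf] using hne
  obtain ⟨γ, hγ⟩ : ∃ γ : Cfsg.IrrCharacter G,
      Cfsg.classInner (CharDeep.Ext.avg M f) γ ≠ 0 := by
    by_contra hcon
    push Not at hcon
    apply h1
    rw [IsCharacter.eq_sum_classInner hη, Finset.sum_apply]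
    exact Finset.sum_eq_zero fun γ _ => by simp [hcon γ]
  have hinv : ∀ (n : M) g, (γ : G → ℂ) ((n : G) * g) = (γ : G → ℂ) g := by
    intro n g
    rcases CharDeep.Ext.avg_irr M γ with hav | hav
    · rw [← hav]; exact CharDeep.Ext.avg_mul_left M _ n g
    · exfalso
      apply hγ
      have hc := CharDeep.Ext.classInner_avg M (f := (γ : G → ℂ)) (β := CharDeep.Ext.avg M f)
        (fun n g => CharDeep.Ext.avg_mul_left M f n g)
      rw [hav] at hc
      rw [← conj_classInner, ← hc]
      simp [classInner_def]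
  obtain ⟨l, hl⟩ := IsCharacter.exists_hom_of_degree_one (irr_isCharacter γ)
    (degree_one_of_inv M hcomm γ hinv)
  refine ⟨l, fun m => ?_, ?_⟩
  · have h1 := hinv m 1
    rw [hl] at h1
    simp only [mul_one, map_one, Units.val_one] at h1
    exact Units.ext (h1.trans Units.val_one.symm)
  · by_contra hne
    push Not at hne
    obtain ⟨g, hg⟩ := hne
    apply hγ
    rw [CharDeep.Ext.classInner_avg M hinv]
    have hmul := isIrrCharacter_hom_mul l χ.2
    refine Eq.trans ?_ (classInner_irr_of_ne (χ := χ') (ψ := ⟨_, hmul⟩)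
      (fun he => hg (congrFun (congrArg Subtype.val he) g)))
    simp only [classInner_def, hf, hl, map_mul]
    congr 1
    exact Finset.sum_congr rfl fun g _ => by ring

/-- The averaging step. -/
theorem exists_inv_over_of_commutator_le {A : Type v} [Group A] [Finite A] (φ : A →* MulAut G)
    (hcomm : commutator G ≤ M) (hM : ∀ a, ∀ x ∈ M, φ a x ∈ M)
    (hcop : M.index.Coprime (Nat.card A)) (ξ : Cfsg.IrrCharacter M)
    (hξ : ∀ (a : A) (x y : M), (y : G) = φ a x → (ξ : M → ℂ) y = (ξ : M → ℂ) x) :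
    ∃ χ : Cfsg.IrrCharacter G, IsInvFun φ (χ : G → ℂ) ∧
      Cfsg.classInner (fun m : M => (χ : G → ℂ) m) ξ ≠ 0 := by
  classical
  have := Fintype.ofFinite A
  obtain ⟨χ₀, hχ₀⟩ := exists_over M ξ
  have hl : ∀ a : A, ∃ l : G →* ℂˣ, (∀ m : M, l m = 1) ∧
      ∀ g, (χ₀ : G → ℂ) (φ a g) = (l g : ℂ) * (χ₀ : G → ℂ) g := by
    intro a
    refine exists_linear_of_common M hcomm χ₀
      ⟨_, isIrrCharacter_comp_surjective χ₀.2 (φ a).toMonoidHom (φ a).surjective⟩ ξ hχ₀ ?_
    have he : Cfsg.classInner (fun m : M => (χ₀ : G → ℂ) (φ a m)) ξ =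
        Cfsg.classInner (fun m : M => (χ₀ : G → ℂ) m) ξ := by
      unfold Cfsg.classInner
      congr 1
      refine Fintype.sum_equiv (restrictAut φ M hM a).toEquiv _ _ fun m => ?_
      show (χ₀ : G → ℂ) (φ a m) * conj ((ξ : M → ℂ) m) =
        (χ₀ : G → ℂ) (φ a m) * conj ((ξ : M → ℂ) (restrictAut φ M hM a m))
      rw [hξ a m _ (coe_restrictAut φ M hM a m)]
    exact fun h0 => hχ₀ (he ▸ h0)
  choose l hlM hlχ using hl
  set n := Nat.card A with hn
  set m := M.index with hm
  have hpow : ∀ a g, ((l a g : ℂˣ) : ℂˣ) ^ m = 1 := fun a g => by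
    rw [← map_pow]
    exact hlM a ⟨g ^ m, M.pow_index_mem g⟩
  set x : ℤ := Nat.gcdA n m with hx
  set t : G →* ℂˣ := ∏ b : A, l b with ht
  set u : G →* ℂˣ := t ^ x with hu
  have htM : ∀ k : M, t k = 1 := fun k => by
    rw [ht, MonoidHom.finsetProd_apply]
    exact Finset.prod_eq_one fun b _ => hlM b k
  have huM : ∀ k : M, u k = 1 := fun k => by
    show (t k) ^ x = 1
    rw [htM, one_zpow]
  have hb : ∀ (z : ℂˣ), z ^ m = 1 → (z ^ n) ^ x = z := fun z hz => by
    have h := Nat.gcd_eq_gcd_ab n m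
    rw [hcop.symm.gcd_eq_one, Nat.cast_one, ← hx] at h
    rw [← zpow_natCast, ← zpow_mul]
    calc z ^ ((n : ℤ) * x) = z ^ (1 - (m : ℤ) * Nat.gcdB n m) := by congr 1; linarith
      _ = z := by rw [zpow_sub, zpow_one, zpow_mul, zpow_natCast, hz, one_zpow, inv_one, mul_one]
  have key : ∀ a g, (χ₀ : G → ℂ) g ≠ 0 → u g = u (φ a g) * l a g := by
    intro a g hg
    have h1 : ∀ b : A, l (b * a) g = l b (φ a g) * l a g := fun b => by
      have h2 := hlχ (b * a) g
      rw [map_mul, MulAut.mul_apply, hlχ b, hlχ a, ← mul_assoc] at h2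
      exact Units.ext (by rw [Units.val_mul]; exact (mul_right_cancel₀ hg h2).symm)
    have h3 : t g = t (φ a g) * l a g ^ n := by
      rw [ht, MonoidHom.finsetProd_apply, MonoidHom.finsetProd_apply,
        ← Equiv.prod_comp (Equiv.mulRight a) (fun b => l b g)]
      simp only [Equiv.coe_mulRight, h1, Finset.prod_mul_distrib, Finset.prod_const,
        Finset.card_univ, Fintype.card_eq_nat_card, ← hn]
    show (t g) ^ x = (t (φ a g)) ^ x * l a g
    rw [h3, mul_zpow, hb _ (hpow a g)]
  refine ⟨⟨_, isIrrCharacter_hom_mul u χ₀.2⟩, fun a g => ?_, ?_⟩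
  · show (u (φ a g) : ℂ) * (χ₀ : G → ℂ) (φ a g) = (u g : ℂ) * (χ₀ : G → ℂ) g
    rw [hlχ a g]
    rcases eq_or_ne ((χ₀ : G → ℂ) g) 0 with h0 | h0
    · simp [h0]
    · rw [key a g h0, Units.val_mul, mul_assoc]
  · show Cfsg.classInner (fun k : M => (u k : ℂ) * (χ₀ : G → ℂ) k) ξ ≠ 0
    simpa [huM] using hχ₀

end Abelian

/-- Over an invariant character there is an invariant one, for a solvable factor group of
coprime order. -/
theorem exists_inv_over_of_solvable_quotient :
    ∀ (k : ℕ) (A : Type v) [Group A] [Finite A] (G : Type u) [Group G] [Fintype G]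
      (φ : A →* MulAut G) (N : Subgroup G) [N.Normal] [Fintype N],
      N.index = k → (∀ a, ∀ x ∈ N, φ a x ∈ N) → Group.IsSolvable (G ⧸ N) →
      N.index.Coprime (Nat.card A) → ∀ θ : Cfsg.IrrCharacter N,
        (∀ (a : A) (x y : N), (y : G) = φ a x → (θ : N → ℂ) y = (θ : N → ℂ) x) →
        ∃ χ : Cfsg.IrrCharacter G, IsInvFun φ (χ : G → ℂ) ∧
          Cfsg.classInner (fun x : N => (χ : G → ℂ) x) θ ≠ 0 := by
  intro k
  induction k using Nat.strong_induction_on with
  | _ k ih =>
    intro A _ _ G _ _ φ N _ _ hk hN hsol hcop θ hθ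
    classical
    by_cases htop : N = ⊤
    · obtain ⟨χ, hχ⟩ := exists_over N θ
      refine ⟨χ, fun a g => ?_, hχ⟩
      have hirr : Cfsg.IsIrrCharacter N (fun x : N => (χ : G → ℂ) x) :=
        isIrrCharacter_comp_surjective χ.2 N.subtype fun g => ⟨⟨g, htop ▸ Subgroup.mem_top g⟩, rfl⟩
      have he : (fun x : N => (χ : G → ℂ) x) = (θ : N → ℂ) := by
        by_contra hne
        exact hχ (classInner_irr_of_ne (χ := ⟨_, hirr⟩) (ψ := θ)
          fun h => hne (congrArg Subtype.val h))
      have hg : g ∈ N := htop ▸ Subgroup.mem_top g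
      have h1 := congrFun he ⟨φ a g, hN a g hg⟩
      have h2 := congrFun he ⟨g, hg⟩
      rw [hθ a ⟨g, hg⟩ _ rfl] at h1
      exact h1.trans h2.symm
    · set M : Subgroup G := (commutator (G ⧸ N)).comap (QuotientGroup.mk' N) with hMdef
      have hNM : N ≤ M := fun x hx => by
        rw [hMdef, Subgroup.mem_comap, QuotientGroup.mk'_apply, (QuotientGroup.eq_one_iff x).mpr hx]
        exact one_mem _
      have hMeq : M = commutator G ⊔ N := by
        rw [hMdef, ← derivedSeries_one,
          ← map_derivedSeries_eq (QuotientGroup.mk'_surjective N) 1, Subgroup.comap_map_eq,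
          QuotientGroup.ker_mk', derivedSeries_one]
      have hcomm : commutator G ≤ M := hMeq ▸ le_sup_left
      have hMinv : ∀ a, ∀ x ∈ M, φ a x ∈ M := by
        intro a x hx
        rw [hMeq] at hx ⊢
        have h1 : (commutator G).map (φ a).toMonoidHom = commutator G := by
          rw [← derivedSeries_one]
          exact map_derivedSeries_eq (φ a).surjective 1
        have h2 : N.map (φ a).toMonoidHom ≤ N := by
          rintro _ ⟨y, hy, rfl⟩
          exact hN a y hy
        have h3 := Subgroup.mem_map_of_mem (φ a).toMonoidHom hx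
        rw [Subgroup.map_sup, h1] at h3
        exact sup_le_sup_left h2 _ h3
      have hne : M ≠ ⊤ := by
        intro hM
        have hnt : Nontrivial (G ⧸ N) := QuotientGroup.nontrivial_iff.mpr htop
        refine (hsol.commutator_lt_top_of_nontrivial).ne ?_
        rw [← Subgroup.map_comap_eq_self_of_surjective (QuotientGroup.mk'_surjective N)
          (commutator (G ⧸ N)), ← hMdef, hM,
          Subgroup.map_top_of_surjective _ (QuotientGroup.mk'_surjective N)]
      have := Fintype.ofFinite M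
      have := Fintype.ofFinite (N.subgroupOf M)
      have hidx : N.relIndex M * M.index = N.index := Subgroup.relIndex_mul_index hNM
      have hMidx : 1 < M.index := by
        have h0 := M.index_ne_zero_of_finite
        have h1 : M.index ≠ 1 := fun h => hne (Subgroup.index_eq_one.mp h)
        omega
      have hlt : N.relIndex M < k := by
        rw [← hk, ← hidx]
        exact lt_mul_of_one_lt_right
          (Nat.pos_of_ne_zero (Subgroup.index_ne_zero_of_finite (H := N.subgroupOf M))) hMidx
      let e : N.subgroupOf M ≃* N := Subgroup.subgroupOfEquivOfLe hNM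
      have hsolM : Group.IsSolvable (M ⧸ N.subgroupOf M) :=
        Group.isSolvable_of_isSolvable_injective (G' := G ⧸ N)
          (f := QuotientGroup.map (N.subgroupOf M) N M.subtype fun x hx => hx) <| by
            rw [← MonoidHom.ker_eq_bot_iff, eq_bot_iff]
            intro q hq
            obtain ⟨x, rfl⟩ := QuotientGroup.mk_surjective q
            exact Subgroup.mem_bot.mpr ((QuotientGroup.eq_one_iff x).mpr
              ((QuotientGroup.eq_one_iff (x : G)).mp hq))
      obtain ⟨ξ, hξinv, hξ⟩ := ih _ hlt A M (restrictAut φ M hMinv) (N.subgroupOf M) rfl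
        (fun a x hx => hN a _ hx) hsolM (hcop.coprime_dvd_left ⟨M.index, hidx.symm⟩)
        ⟨_, isIrrCharacter_comp_surjective θ.2 e.toMonoidHom e.surjective⟩
        (fun a x y hy => hθ a (e x) (e y) (congrArg Subtype.val hy))
      obtain ⟨χ, hχinv, hχ⟩ := exists_inv_over_of_commutator_le M φ hcomm hMinv
        (hcop.coprime_dvd_left ⟨N.relIndex M, by rw [← hidx, mul_comm]⟩) ξ
        fun a x y hy => by
          rw [show y = restrictAut φ M hMinv a x from Subtype.ext hy]
          exact hξinv a x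
      refine ⟨χ, hχinv, ?_⟩
      have hξ' : Cfsg.classInner (fun x : N => (ξ : M → ℂ) (Subgroup.inclusion hNM x)) θ ≠ 0 := by
        intro h0
        apply hξ
        refine Eq.trans ?_ h0
        unfold Cfsg.classInner
        rw [Nat.card_congr e.toEquiv]
        congr 1
        exact Fintype.sum_equiv e.toEquiv _ _ fun x => rfl
      exact classInner_comp_ne_zero M.subtype (Subgroup.inclusion hNM) (irr_isCharacter χ) ξ θ hχ hξ'

end Cfsg.Agent.CharCore
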