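import Cfsg.Agent.Lib.CharCore.BlockSections
import Cfsg.Agent.Lib.BlocksCore.SecondBlock
import Cfsg.Agent.Lib.BlocksCore.Brauer
import Cfsg.Prelude.Def_BrauerPairs

/-!
# Counting a block by subsections

`k(B)` as a sum of regular ranks, and the orthogonality relation of a Brauer element.

Library `CharCore`, part 23.
-/

set_option autoImplicit false
set_option linter.unusedSectionVars false

open scoped ComplexConjugate

namespace Cfsg.Agent.CharCore.BlockSections

open Cfsg.Agent.CharCore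

universe u

variable {G : Type u} [Group G] [Fintype G] {p : ℕ} [Fact p.Prime] {M : Ideal Cfsg.AlgInt}

theorem finsum_blockRank (hM : Cfsg.IsPModular p M) {x : G}
    [Fintype (Subgroup.centralizer ({x} : Set G))]
    (B : Set (Cfsg.IrrCharacter G)) [DecidablePred (· ∈ inducing M x B)] :
    (Nat.card (Subgroup.centralizer ({x} : Set G)) : ℂ) *
        ((∑ᶠ b ∈ {b : Set (Cfsg.IrrCharacter (Subgroup.centralizer ({x} : Set G))) |
          Cfsg.IsInducedBlock M (Subgroup.centralizer ({x} : Set G)) b B},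
            Cfsg.blockRank p b : ℕ) : ℂ) =
      ∑ s ∈ Finset.univ.filter (fun s : Subgroup.centralizer ({x} : Set G) => ¬ p ∣ orderOf s),
        ∑ θ ∈ Finset.univ.filter (· ∈ inducing M x B),
          (θ : Subgroup.centralizer ({x} : Set G) → ℂ) s *
            conj ((θ : Subgroup.centralizer ({x} : Set G) → ℂ) s) := by
  classical
  have := BlocksCore.isPrime hM
  let T : Finset (Set (Cfsg.IrrCharacter (Subgroup.centralizer ({x} : Set G)))) :=
    (Finset.univ.filter (· ∈ inducing M x B)).image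
      fun θ : Cfsg.IrrCharacter (Subgroup.centralizer ({x} : Set G)) =>
        Cfsg.blockOf M (θ : Subgroup.centralizer ({x} : Set G) → ℂ)
  have hT : {b : Set (Cfsg.IrrCharacter (Subgroup.centralizer ({x} : Set G))) |
      Cfsg.IsInducedBlock M (Subgroup.centralizer ({x} : Set G)) b B} = (T : Set _) := by
    ext b
    simp only [T, Finset.coe_image, Finset.coe_filter, Finset.mem_univ, true_and,
      Set.mem_ofPred_eq, Set.mem_image]
    constructor
    · intro hb
      obtain ⟨θ, hθ⟩ := BlocksCore.isPBlock_nonempty hb.1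
      have he := BlocksCore.isPBlock_eq_blockOf hb.1 hθ
      exact ⟨θ, (show Cfsg.IsInducedBlock M _ _ B from he ▸ hb), he.symm⟩
    · rintro ⟨θ, hθ, rfl⟩
      exact hθ
  rw [hT, finsum_mem_coe_finset, Nat.cast_sum, Finset.mul_sum]
  rw [Finset.sum_congr rfl fun b hb => mul_blockRank (p := p) hM (b := b) (by
    obtain ⟨θ, -, rfl⟩ := Finset.mem_image.mp hb
    exact BlocksCore.isPBlock_blockOf θ), Finset.sum_comm]
  refine Finset.sum_congr rfl fun s _ => ?_
  rw [← Finset.sum_fiberwise_of_maps_to (t := T)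
    (fun θ hθ => Finset.mem_image_of_mem _ hθ) (fun θ : Cfsg.IrrCharacter
      (Subgroup.centralizer ({x} : Set G)) =>
        (θ : Subgroup.centralizer ({x} : Set G) → ℂ) s *
          conj ((θ : Subgroup.centralizer ({x} : Set G) → ℂ) s))]
  refine Finset.sum_congr rfl fun b hb => ?_
  obtain ⟨θ, hθ, rfl⟩ := Finset.mem_image.mp hb
  refine Finset.sum_congr (Finset.ext fun η => ?_) fun η _ => rfl
  simp only [Finset.mem_filter, Finset.mem_univ, true_and]
  refine ⟨fun hη => ?_, fun he => he.2 ▸ BlocksCore.mem_blockOf_self η⟩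
  have he := BlocksCore.blockOf_eq_of_sameBlock hη
  refine ⟨?_, he.symm⟩
  show Cfsg.IsInducedBlock M _ _ B
  rw [← he]
  exact (Finset.mem_filter.mp hθ).2

/-- A sum over one `p`-section. -/
theorem sum_one_section (hp : p.Prime) {F : G → ℂ} (hF : Cfsg.IsClassFunction G F) {x : G}
    (hx : ∃ k : ℕ, orderOf x = p ^ k) [Fintype (Subgroup.centralizer ({x} : Set G))]
    (S : Finset G) (hS : ∀ g, g ∈ S ↔ ∃ z, Cfsg.IsPPart p g z ∧ IsConj z x) :
    (Nat.card (Subgroup.centralizer ({x} : Set G)) : ℂ) * ∑ g ∈ S, F g =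
      (Nat.card G : ℂ) * ∑ s ∈ Finset.univ.filter
        (fun s : Subgroup.centralizer ({x} : Set G) => ¬ p ∣ orderOf s), F (x * s) := by
  classical
  set R := Finset.univ.filter (fun s : Subgroup.centralizer ({x} : Set G) => ¬ p ∣ orderOf s)
  let P : Finset (G × Subgroup.centralizer ({x} : Set G)) := Finset.univ ×ˢ R
  let Φ : G × Subgroup.centralizer ({x} : Set G) → G := fun q => q.1 * (x * (q.2 : G)) * q.1⁻¹
  have hR : ∀ {s : Subgroup.centralizer ({x} : Set G)}, s ∈ R ↔ ¬ p ∣ orderOf s := fun {s} => by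
    simp [R]
  have hΦ : ∀ q ∈ P, Φ q ∈ S := fun q hq => (hS _).mpr
    ⟨q.1 * x * q.1⁻¹, BlocksCore.isPPart_conj (pPart_mul hx q.2 (hR.mp (Finset.mem_product.mp hq).2))
      q.1, (isConj_iff.mpr ⟨q.1, rfl⟩).symm⟩
  have hfib : ∀ g ∈ S, (P.filter fun q => Φ q = g).card =
      Nat.card (Subgroup.centralizer ({x} : Set G)) := by
    intro g hg
    obtain ⟨z, hz, hzx⟩ := (hS g).mp hg
    obtain ⟨a, ha⟩ := isConj_iff.mp hzx
    have h0 := BlocksCore.isPPart_conj hz a
    rw [ha] at h0
    obtain ⟨y, hy, hxy, -, hyp⟩ := h0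
    let s₀ : Subgroup.centralizer ({x} : Set G) :=
      ⟨y, Subgroup.mem_centralizer_singleton_iff.mpr hxy.eq.symm⟩
    have hs₀ : ¬ p ∣ orderOf s₀ := by
      rw [← Subgroup.orderOf_coe]
      exact hyp
    have hg0 : g = a⁻¹ * (x * (s₀ : G)) * a := by
      show g = a⁻¹ * (x * y) * a
      rw [hy]
      group
    rw [← Fintype.card_eq_nat_card, ← Finset.card_univ]
    symm
    refine Finset.card_bij
      (fun (c : Subgroup.centralizer ({x} : Set G)) _ => (a⁻¹ * (c : G), c⁻¹ * s₀ * c)) ?_ ?_ ?_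
    · intro c _
      refine Finset.mem_filter.mpr ⟨Finset.mem_product.mpr ⟨Finset.mem_univ _, hR.mpr ?_⟩, ?_⟩
      · have : orderOf (c⁻¹ * s₀ * c) = orderOf s₀ := by
          have h := (MulAut.conj c⁻¹).orderOf_eq s₀
          rwa [MulAut.conj_apply, inv_inv] at h
        rwa [this]
      · show a⁻¹ * (c : G) * (x * ((c : G)⁻¹ * (s₀ : G) * c)) * (a⁻¹ * (c : G))⁻¹ = g
        rw [hg0, show a⁻¹ * (c : G) * (x * ((c : G)⁻¹ * (s₀ : G) * c)) * (a⁻¹ * (c : G))⁻¹ =
          a⁻¹ * ((c : G) * x * (c : G)⁻¹ * (s₀ : G)) * a by group,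
          Subgroup.mem_centralizer_singleton_iff.mp c.2, mul_inv_cancel_right]
    · intro c _ d _ h
      exact Subtype.ext (mul_left_cancel (Prod.ext_iff.mp h).1)
    · rintro ⟨b, t⟩ hq
      obtain ⟨hq1, hq2⟩ := Finset.mem_filter.mp hq
      have ht := hR.mp (Finset.mem_product.mp hq1).2
      change b * (x * (t : G)) * b⁻¹ = g at hq2
      have h : (a * b) * (x * (t : G)) * (a * b)⁻¹ = x * (s₀ : G) := by
        rw [show (a * b) * (x * (t : G)) * (a * b)⁻¹ = a * (b * (x * (t : G)) * b⁻¹) * a⁻¹ by group,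
          hq2, hg0]
        group
      obtain ⟨h1, h2⟩ := fixes_of_conj hp hx ht hs₀ h
      refine ⟨⟨a * b, h1⟩, Finset.mem_univ _, Prod.ext (inv_mul_cancel_left a b) (Subtype.ext ?_)⟩
      show (a * b)⁻¹ * (s₀ : G) * (a * b) = t
      rw [← h2]
      group
  have e1 : ∑ q ∈ P, F (Φ q) = (Nat.card (Subgroup.centralizer ({x} : Set G)) : ℂ) * ∑ g ∈ S, F g := by
    rw [← Finset.sum_fiberwise_of_maps_to hΦ, Finset.mul_sum]
    refine Finset.sum_congr rfl fun g hg => ?_
    rw [Finset.sum_congr rfl (g := fun _ => F g) fun q hq => by rw [(Finset.mem_filter.mp hq).2],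
      Finset.sum_const, hfib g hg, nsmul_eq_mul]
  rw [← e1, Finset.sum_product]
  simp only [Φ, hF _ _, Finset.sum_const, Finset.card_univ, nsmul_eq_mul, Fintype.card_eq_nat_card]

/-- `k(B)` is the sum of the regular ranks over the subsections. -/
theorem card_block_eq_sum (hM : Cfsg.IsPModular p M) {B : Set (Cfsg.IrrCharacter G)}
    (hB : Cfsg.IsPBlock M B) (X : Finset G) (hX : ∀ x ∈ X, ∃ k : ℕ, orderOf x = p ^ k)
    (hXrep : ∀ g : G, (∃ k : ℕ, orderOf g = p ^ k) → ∃! x, x ∈ X ∧ IsConj g x) :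
    Nat.card B = ∑ x ∈ X, ∑ᶠ b ∈ {b : Set (Cfsg.IrrCharacter (Subgroup.centralizer ({x} : Set G))) |
      Cfsg.IsInducedBlock M (Subgroup.centralizer ({x} : Set G)) b B}, Cfsg.blockRank p b := by
  classical
  let F : G → ℂ := fun g =>
    ∑ χ ∈ Finset.univ.filter (· ∈ B), (χ : G → ℂ) g * conj ((χ : G → ℂ) g)
  have hF : Cfsg.IsClassFunction G F := fun g h =>
    Finset.sum_congr rfl fun χ _ => by rw [irr_isClassFunction χ g h]
  let S : G → Finset G := fun x => Finset.univ.filter fun g => ∃ z, Cfsg.IsPPart p g z ∧ IsConj z x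
  have hN : (Nat.card G : ℂ) ≠ 0 := Nat.cast_ne_zero.mpr Nat.card_pos.ne'
  have htot : ∑ g, F g = (Nat.card G : ℂ) * (Nat.card B : ℂ) := by
    rw [Finset.sum_comm]
    have h1 : ∀ χ : Cfsg.IrrCharacter G,
        ∑ g, (χ : G → ℂ) g * conj ((χ : G → ℂ) g) = (Nat.card G : ℂ) := fun χ => by
      have h := classInner_irr_self χ
      rw [classInner_def, inv_mul_eq_one₀ hN] at h
      exact h.symm
    rw [Finset.sum_congr rfl fun χ _ => h1 χ, Finset.sum_const, nsmul_eq_mul, mul_comm]
    congr 2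
    rw [Nat.card_eq_fintype_card, Fintype.card_subtype]
  have hsplit : ∑ g, F g = ∑ x ∈ X, ∑ g ∈ S x, F g := by
    rw [← Finset.sum_biUnion]
    · congr 1
      refine (Finset.eq_univ_of_forall fun g => ?_).symm
      obtain ⟨z, hz⟩ := BlocksCore.exists_pPart hM.1 g
      obtain ⟨y, -, -, hzk, -⟩ := id hz
      obtain ⟨x, ⟨hx, hzx⟩, -⟩ := hXrep z hzk
      exact Finset.mem_biUnion.mpr ⟨x, hx, Finset.mem_filter.mpr ⟨Finset.mem_univ _, z, hz, hzx⟩⟩
    · intro x hx x' hx' hne
      refine Finset.disjoint_left.mpr fun g hg hg' => hne ?_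
      obtain ⟨-, z, hz, hzx⟩ := Finset.mem_filter.mp hg
      obtain ⟨-, z', hz', hzx'⟩ := Finset.mem_filter.mp hg'
      rw [BlocksCore.isPPart_unique hM.1 hz' hz] at hzx'
      obtain ⟨y, -, -, hzk, -⟩ := id hz
      exact (hXrep z hzk).unique ⟨hx, hzx⟩ ⟨hx', hzx'⟩
  refine Nat.cast_injective (R := ℂ) (mul_left_cancel₀ hN ?_)
  rw [← htot, hsplit, Nat.cast_sum, Finset.mul_sum]
  refine Finset.sum_congr rfl fun x hx => ?_
  have := Fintype.ofFinite (Subgroup.centralizer ({x} : Set G))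
  have hC : (Nat.card (Subgroup.centralizer ({x} : Set G)) : ℂ) ≠ 0 :=
    Nat.cast_ne_zero.mpr Nat.card_pos.ne'
  refine mul_left_cancel₀ hC ?_
  rw [sum_one_section hM.1 hF (hX x hx) (S x) (fun g => by simp [S]), mul_left_comm,
    finsum_blockRank hM B]
  congr 1
  refine Finset.sum_congr rfl fun s hs => ?_
  exact sum_block_section hM (hX x hx) hB (Finset.mem_filter.mp hs).2 (Finset.mem_filter.mp hs).2

/-- A block of the centralizer inducing `B`, on its own part of the section. -/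
theorem sum_block_part_section (hM : Cfsg.IsPModular p M) {x : G}
    [Fintype (Subgroup.centralizer ({x} : Set G))] (hx : ∃ k : ℕ, orderOf x = p ^ k)
    {B : Set (Cfsg.IrrCharacter G)} (hB : Cfsg.IsPBlock M B) [DecidablePred (· ∈ B)]
    {e : Set (Cfsg.IrrCharacter (Subgroup.centralizer ({x} : Set G)))}
    (he : Cfsg.IsInducedBlock M (Subgroup.centralizer ({x} : Set G)) e B) [DecidablePred (· ∈ e)]
    {s t : Subgroup.centralizer ({x} : Set G)} (hs : ¬ p ∣ orderOf s) (ht : ¬ p ∣ orderOf t) :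
    ∑ χ ∈ Finset.univ.filter (· ∈ B),
        Cfsg.blockPart e (fun c => (χ : G → ℂ) (x * (c : G))) s *
          conj (Cfsg.blockPart e (fun c => (χ : G → ℂ) (x * (c : G))) t) =
      ∑ θ ∈ Finset.univ.filter (· ∈ e), (θ : Subgroup.centralizer ({x} : Set G) → ℂ) s *
          conj ((θ : Subgroup.centralizer ({x} : Set G) → ℂ) t) := by
  classical
  have := BlocksCore.isPrime hM
  have hsub : ∀ θ ∈ e, θ ∈ inducing M x B := fun θ hθ => by
    show Cfsg.IsInducedBlock M _ _ B
    rw [← BlocksCore.isPBlock_eq_blockOf he.1 hθ]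
    exact he
  have hlin : ∀ (A : Finset (Cfsg.IrrCharacter G)) (a : Cfsg.IrrCharacter G → ℂ)
      (c : Subgroup.centralizer ({x} : Set G)),
      Cfsg.blockPart e (∑ χ ∈ A, a χ • fun d : Subgroup.centralizer ({x} : Set G) =>
        (χ : G → ℂ) (x * (d : G))) c =
      ∑ χ ∈ A, a χ * Cfsg.blockPart e (fun d : Subgroup.centralizer ({x} : Set G) =>
        (χ : G → ℂ) (x * (d : G))) c := by
    intro A a c
    simp only [blockPart_eq_sum, classInner_sum_left, classInner_smul_left, Finset.sum_mul,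
      Finset.mul_sum]
    rw [Finset.sum_comm]
    exact Finset.sum_congr rfl fun χ _ => Finset.sum_congr rfl fun θ _ => by ring
  have hid : ∀ (a : Cfsg.IrrCharacter (Subgroup.centralizer ({x} : Set G)) → ℂ)
      (c : Subgroup.centralizer ({x} : Set G))
      (A : Finset (Cfsg.IrrCharacter (Subgroup.centralizer ({x} : Set G)))), (∀ θ ∈ e, θ ∈ A) →
      Cfsg.blockPart e (∑ θ ∈ A, a θ • (θ : Subgroup.centralizer ({x} : Set G) → ℂ)) c =
      ∑ θ ∈ Finset.univ.filter (· ∈ e), a θ * (θ : Subgroup.centralizer ({x} : Set G) → ℂ) c := by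
    intro a c A hA
    rw [blockPart_eq_sum]
    refine Finset.sum_congr rfl fun θ hθ => ?_
    rw [classInner_sum_left, Finset.sum_eq_single θ]
    · rw [classInner_smul_left, classInner_irr_self, mul_one]
    · intro η _ hne
      rw [classInner_smul_left, classInner_irr_of_ne hne, mul_zero]
    · exact fun h => absurd (hA θ (Finset.mem_filter.mp hθ).2) h
  -- one projection
  have step : ∀ c d : Subgroup.centralizer ({x} : Set G), ¬ p ∣ orderOf c → ¬ p ∣ orderOf d →
      ∑ χ ∈ Finset.univ.filter (· ∈ B),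
        Cfsg.blockPart e (fun c => (χ : G → ℂ) (x * (c : G))) c * conj ((χ : G → ℂ) (x * d)) =
      ∑ θ ∈ Finset.univ.filter (· ∈ e), (θ : Subgroup.centralizer ({x} : Set G) → ℂ) c *
        conj ((θ : Subgroup.centralizer ({x} : Set G) → ℂ) d) := by
    intro c d hc hd
    rw [Finset.sum_congr rfl (g := fun χ : Cfsg.IrrCharacter G => conj ((χ : G → ℂ) (x * d)) *
        Cfsg.blockPart e (fun c => (χ : G → ℂ) (x * (c : G))) c) fun χ _ => mul_comm _ _,
      ← hlin,
      blockPart_congr_regular hM he.1 (g := ∑ θ ∈ Finset.univ.filter (· ∈ inducing M x B),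
        conj ((θ : Subgroup.centralizer ({x} : Set G) → ℂ) d) •
          (θ : Subgroup.centralizer ({x} : Set G) → ℂ)) (fun u hu => ?_) hc,
      hid _ _ _ fun θ hθ => Finset.mem_filter.mpr ⟨Finset.mem_univ _, hsub θ hθ⟩]
    · exact Finset.sum_congr rfl fun θ _ => mul_comm _ _
    · simp only [Finset.sum_apply, Pi.smul_apply, smul_eq_mul, mul_comm (conj _)]
      exact sum_block_section hM hx hB hu hd
  rw [← Complex.conj_conj (∑ θ ∈ Finset.univ.filter (· ∈ e), _), map_sum]
  rw [← Complex.conj_conj (∑ χ ∈ Finset.univ.filter (· ∈ B), _), map_sum]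
  congr 1
  simp only [map_mul, Complex.conj_conj]
  rw [← hlin, blockPart_congr_regular hM he.1 (g := ∑ θ ∈ Finset.univ.filter (· ∈ e),
      conj ((θ : Subgroup.centralizer ({x} : Set G) → ℂ) s) •
        (θ : Subgroup.centralizer ({x} : Set G) → ℂ)) (fun u hu => ?_) ht,
    hid _ _ _ fun θ hθ => Finset.mem_filter.mpr ⟨Finset.mem_univ _, hθ⟩]
  simp only [Finset.sum_apply, Pi.smul_apply, smul_eq_mul]
  have h := congrArg conj (step s u hs hu)
  simp only [map_sum, map_mul, Complex.conj_conj] at h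
  exact h

/-- The orthogonality relation of a Brauer element. -/
theorem sum_brauer_element (hM : Cfsg.IsPModular p M) (B : Set (Cfsg.IrrCharacter G)) {u : G}
    (hu : ∃ k : ℕ, orderOf u = p ^ k) (C : Subgroup G)
    (hC : C = Subgroup.centralizer ({u} : Set G)) (e : Set (Cfsg.IrrCharacter C))
    (he : Cfsg.IsInducedBlock M C e B) :
    ∑ᶠ χ ∈ B, ∑ᶠ s : C,
        Cfsg.pRegularPart p (Cfsg.blockPart e (fun c : C => (χ : G → ℂ) (u * c))) s *
          Cfsg.blockPart e (fun c : C => (χ : G → ℂ) (u⁻¹ * c)) s⁻¹ =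
      (Nat.card C : ℂ) * (Cfsg.blockRank p e : ℂ) := by
  classical
  subst hC
  have := Fintype.ofFinite (Subgroup.centralizer ({u} : Set G))
  have hconj : ∀ (χ : Cfsg.IrrCharacter G) (s : Subgroup.centralizer ({u} : Set G)),
      Cfsg.blockPart e (fun c => (χ : G → ℂ) (u⁻¹ * (c : G))) s⁻¹ =
        conj (Cfsg.blockPart e (fun c => (χ : G → ℂ) (u * (c : G))) s) := by
    intro χ s
    simp only [blockPart_eq_sum, map_sum, map_mul]
    refine Finset.sum_congr rfl fun θ _ => ?_
    rw [irr_apply_inv θ s]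
    congr 1
    simp only [classInner_def, map_mul, map_inv₀, Complex.conj_natCast, map_sum, Complex.conj_conj]
    congr 1
    refine Fintype.sum_equiv (Equiv.inv _) _ _ fun c => ?_
    rw [Equiv.inv_apply, Subgroup.coe_inv, irr_apply_inv θ c, ← irr_apply_inv χ, mul_inv_rev,
      inv_inv]
    rw [show u⁻¹ * (c : G) = (c : G) * u⁻¹ from
      (Commute.inv_right (show Commute (c : G) u from
        Subgroup.mem_centralizer_singleton_iff.mp c.2)).eq.symm]
  rw [finsum_mem_eq_finite_toFinset_sum _ (Set.toFinite B)]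
  simp only [finsum_eq_sum_of_fintype, hconj]
  rw [Finset.sum_comm, mul_blockRank hM he.1, Finset.sum_filter]
  refine Finset.sum_congr rfl fun s _ => ?_
  by_cases hs : p ∣ orderOf s
  · rw [if_neg (not_not.mpr hs)]
    exact Finset.sum_eq_zero fun χ _ => by rw [BC85.pRegularPart_neg hs, zero_mul]
  · rw [if_pos hs]
    refine Eq.trans (Finset.sum_congr (Finset.ext fun χ => by simp) fun χ _ => ?_)
      (sum_block_part_section hM hu he.2.1 he hs hs)
    rw [BC85.pRegularPart_pos hs]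

theorem induced_of_brauerPair (hM : Cfsg.IsPModular p M) {B : Set (Cfsg.IrrCharacter G)} {u : G}
    {e : Set (Cfsg.IrrCharacter (Subgroup.centralizer (Subgroup.zpowers u : Set G)))}
    (h : Cfsg.IsBrauerPairOf p M B (Subgroup.zpowers u) e) :
    Cfsg.IsInducedBlock M (Subgroup.centralizer (Subgroup.zpowers u : Set G)) e B := by
  classical
  have := BlocksCore.isPrime hM
  have hP := h.1.1
  have hHN : Subgroup.centralizer (Subgroup.zpowers u : Set G) ≤
      Subgroup.normalizer ((Subgroup.zpowers u : Subgroup G) : Set G) :=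
    Subgroup.centralizer_le_normalizer _
  obtain ⟨B₀, hB₀⟩ := BlocksCore.inducedBlockDefined hM hP (Subgroup.le_centralizer _) le_rfl hHN h.1.2
  suffices e' : B₀ = B from e' ▸ hB₀
  obtain ⟨ξ, hξ⟩ := BlocksCore.isPBlock_nonempty h.1.2
  obtain ⟨ζ, hζ⟩ := BlocksCore.isPBlock_nonempty hB₀.2.1
  have := Fintype.ofFinite (Subgroup.centralizer (Subgroup.zpowers u : Set G))
  have h1 := BlocksDefect.omega_induced hM hB₀ hξ hζ (BlocksCore.isIntClassFun_blockCoeff hM h.2.1)
  rw [BlocksCore.omega_blockCoeff] at h1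
  by_contra hne
  rw [Set.indicator_of_notMem fun hc => hne (BlocksCore.isPBlock_eq_of_mem hB₀.2.1 h.2.1 hζ hc),
    sub_zero] at h1
  have h2 := h.2.2 ξ hξ
  rw [show Cfsg.brauerOmega (Subgroup.zpowers u) (Cfsg.blockCoeff B)
      (ξ : Subgroup.centralizer (Subgroup.zpowers u : Set G) → ℂ) =
      BlocksCore.omega (ξ : Subgroup.centralizer (Subgroup.zpowers u : Set G) → ℂ)
        (BlocksDefect.res _ (Cfsg.blockCoeff B)) by
    rw [Cfsg.brauerOmega, finsum_eq_sum_of_fintype, BlocksCore.omega_eq_sum, Finset.sum_div]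
    rfl] at h2
  have h3 := BlocksCore.memLocalIdeal_sub h1 h2
  rw [sub_sub_cancel] at h3
  exact BlocksCore.not_memLocalIdeal_one (M := M) h3

end Cfsg.Agent.CharCore.BlockSections
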