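import Cfsg.Agent.Lib.CharCore.PrimePowerCyclotomic
import Cfsg.Agent.Lib.CharCore.BlockCount
import Cfsg.Agent.Lib.BlocksDefect.Central
import Cfsg.Agent.Lib.BlocksDefect.Induced
import Cfsg.Agent.BC85.Contribution

/-!
# The contribution matrix of a subsection

For a `p`-element `u` and a block `e` of its centralizer `C` inducing `B`, `contrib` is `p^d` times
the inner product on the `p`-regular elements of `C` of the `e`-parts of `χ (u ·)` and `ψ (u ·)`,
where `d` is the defect of `e`.  It is Hermitian, `p^d` times an idempotent of trace `blockRank e`,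
integral in the roots of unity of `p`-power order, and a unit at two height zero members.  For a
major subsection its valuations are known.

Library `CharCore`, part 25.
-/

set_option autoImplicit false
set_option linter.unusedSectionVars false

open scoped ComplexConjugate

namespace Cfsg.Agent.CharCore.SubContrib

open BlocksCore BlocksDefect BC85 Cfsg.Agent.CharCore.PPCyc Cfsg.Agent.CharCore

universe u

variable {G : Type u} [Group G] [Fintype G] {p : ℕ} [Fact p.Prime] {M : Ideal Cfsg.AlgInt}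
  {u : G}

/-- The members of a set of irreducible characters, as a finite set. -/
noncomputable def mems {H : Type u} [Group H] [Finite H] (A : Set (Cfsg.IrrCharacter H)) :
    Finset (Cfsg.IrrCharacter H) :=
  haveI : Finite (Cfsg.IrrCharacter H) :=
    haveI := Fintype.ofFinite H
    BlocksCore.finite_irr
  (Set.toFinite A).toFinset

theorem mem_mems {H : Type u} [Group H] [Finite H] {A : Set (Cfsg.IrrCharacter H)}
    {x : Cfsg.IrrCharacter H} : x ∈ mems A ↔ x ∈ A := Set.Finite.mem_toFinset _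

variable [Fintype (Subgroup.centralizer ({u} : Set G))]
  (e : Set (Cfsg.IrrCharacter (Subgroup.centralizer ({u} : Set G))))

/-- The multiplicities of the translate of `χ` by `u`. -/
noncomputable def cf (u : G) [Fintype (Subgroup.centralizer ({u} : Set G))]
    (χ : Cfsg.IrrCharacter G)
    (θ : Cfsg.IrrCharacter (Subgroup.centralizer ({u} : Set G))) : ℂ :=
  Cfsg.classInner (fun c : Subgroup.centralizer ({u} : Set G) => (χ : G → ℂ) (u * (c : G)))
    (θ : Subgroup.centralizer ({u} : Set G) → ℂ)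

/-- The regular pairing of the `e`-part with a character. -/
noncomputable def coord (p : ℕ) (e : Set (Cfsg.IrrCharacter (Subgroup.centralizer ({u} : Set G))))
    (χ : Cfsg.IrrCharacter G)
    (θ : Cfsg.IrrCharacter (Subgroup.centralizer ({u} : Set G))) : ℂ :=
  ∑ η ∈ mems e, cf u χ η * prj p η θ

/-- The normalised contribution. -/
noncomputable def sub (p : ℕ) (e : Set (Cfsg.IrrCharacter (Subgroup.centralizer ({u} : Set G))))
    (χ ψ : Cfsg.IrrCharacter G) : ℂ :=
  ∑ θ ∈ mems e, coord p e χ θ * conj (cf u ψ θ)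

/-- The contribution. -/
noncomputable def contrib (p : ℕ) (e : Set (Cfsg.IrrCharacter (Subgroup.centralizer ({u} : Set G))))
    (χ ψ : Cfsg.IrrCharacter G) : ℂ :=
  (p : ℂ) ^ Cfsg.blockDefect p e * sub p e χ ψ

/-- The `e`-part of the translate of `χ`. -/
noncomputable def part (e : Set (Cfsg.IrrCharacter (Subgroup.centralizer ({u} : Set G))))
    (χ : Cfsg.IrrCharacter G) : Subgroup.centralizer ({u} : Set G) → ℂ :=
  Cfsg.blockPart e fun c => (χ : G → ℂ) (u * (c : G))

theorem part_eq_sum (χ : Cfsg.IrrCharacter G) :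
    part e χ = ∑ θ ∈ mems e, cf u χ θ • (θ : Subgroup.centralizer ({u} : Set G) → ℂ) := by
  classical
  funext s
  rw [part, BlockSections.blockPart_eq_sum, Finset.sum_apply]
  refine Finset.sum_congr (Finset.ext fun θ => by simp [mem_mems]) fun θ _ => ?_
  rfl

theorem pRegularPart_sum {H : Type u} [Group H] {ι : Type*} (s : Finset ι) (a : ι → ℂ)
    (f : ι → H → ℂ) : Cfsg.pRegularPart p (∑ i ∈ s, a i • f i) =
      ∑ i ∈ s, a i • Cfsg.pRegularPart p (f i) := by
  funext x
  by_cases hx : p ∣ orderOf x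
  · simp [pRegularPart_neg hx]
  · simp [pRegularPart_pos hx]

theorem coord_eq_classInner (χ : Cfsg.IrrCharacter G)
    (θ : Cfsg.IrrCharacter (Subgroup.centralizer ({u} : Set G))) :
    coord p e χ θ = Cfsg.classInner (Cfsg.pRegularPart p (part e χ))
      (θ : Subgroup.centralizer ({u} : Set G) → ℂ) := by
  rw [part_eq_sum, pRegularPart_sum, classInner_sum_left]
  exact Finset.sum_congr rfl fun η _ => by rw [classInner_smul_left, prj_def]

theorem coord_eq_zero (hM : Cfsg.IsPModular p M) (he : Cfsg.IsPBlock M e)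
    (χ : Cfsg.IrrCharacter G) {θ : Cfsg.IrrCharacter (Subgroup.centralizer ({u} : Set G))}
    (hθ : θ ∉ e) : coord p e χ θ = 0 :=
  Finset.sum_eq_zero fun η hη => by
    rw [prj_eq_zero_of_notMem hM he (mem_mems.mp hη) hθ, mul_zero]

theorem conj_prj (hM : Cfsg.IsPModular p M) {H : Type u} [Group H] [Finite H]
    (θ η : Cfsg.IrrCharacter H) : conj (prj p θ η) = prj p θ η := by
  have := BlocksCore.isPrime hM
  have := Fintype.ofFinite H
  obtain ⟨m, hm, -⟩ := exists_contrib hM (isPBlock_blockOf θ) (mem_blockOf_self θ) η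
  have h := congrArg conj hm
  rw [map_intCast, map_mul, map_pow, map_natCast, hm] at h
  exact (mul_left_cancel₀ (pow_ne_zero _ (Nat.cast_ne_zero.mpr hM.1.ne_zero)) h).symm

/-- Two families with the same kernel on the regular elements have the same Gram matrix. -/
theorem gram_congr {H : Type u} [Group H] [Fintype H] {ι κ : Type*} (S : Finset ι) (T : Finset κ)
    (a : ι → H → ℂ) (b : κ → H → ℂ)
    (h : ∀ s t : H, ¬ p ∣ orderOf s → ¬ p ∣ orderOf t →
      ∑ i ∈ S, a i s * conj (a i t) = ∑ j ∈ T, b j s * conj (b j t))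
    (θ η : H → ℂ) :
    ∑ i ∈ S, Cfsg.classInner (Cfsg.pRegularPart p (a i)) θ *
        conj (Cfsg.classInner (Cfsg.pRegularPart p (a i)) η) =
      ∑ j ∈ T, Cfsg.classInner (Cfsg.pRegularPart p (b j)) θ *
        conj (Cfsg.classInner (Cfsg.pRegularPart p (b j)) η) := by
  simp only [classInner_def, map_mul, map_inv₀, Complex.conj_natCast, map_sum, Complex.conj_conj,
    Finset.mul_sum, Finset.sum_mul]
  rw [Finset.sum_comm, Finset.sum_comm (s := T)]
  refine Finset.sum_congr rfl fun s _ => ?_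
  rw [Finset.sum_comm, Finset.sum_comm (s := T)]
  refine Finset.sum_congr rfl fun t _ => ?_
  by_cases hs : p ∣ orderOf s
  · simp [pRegularPart_neg hs]
  by_cases ht : p ∣ orderOf t
  · simp [pRegularPart_neg ht]
  simp only [pRegularPart_pos hs, pRegularPart_pos ht]
  have key := congrArg (fun z => (Nat.card H : ℂ)⁻¹ * (Nat.card H : ℂ)⁻¹ * (conj (θ t) * η s) * z)
    (h t s ht hs)
  simp only [Finset.mul_sum] at key
  refine Eq.trans (Finset.sum_congr rfl fun i _ => ?_)
    (key.trans (Finset.sum_congr rfl fun j _ => ?_)) <;> ring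

/-- Gram relation of the coordinates. -/
theorem sum_coord_mul_conj (hM : Cfsg.IsPModular p M)
    (hu : ∃ j : ℕ, orderOf u = p ^ j)
    {B : Set (Cfsg.IrrCharacter G)}
    (he : Cfsg.IsInducedBlock M (Subgroup.centralizer ({u} : Set G)) e B)
    {θ η : Cfsg.IrrCharacter (Subgroup.centralizer ({u} : Set G))} (hθ : θ ∈ e) :
    ∑ χ ∈ mems B, coord p e χ θ * conj (coord p e χ η) = prj p θ η := by
  classical
  simp only [coord_eq_classInner]
  rw [gram_congr (mems B) (mems e) (fun χ => part e χ)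
    (fun ρ : Cfsg.IrrCharacter (Subgroup.centralizer ({u} : Set G)) =>
      (ρ : Subgroup.centralizer ({u} : Set G) → ℂ)) fun s t hs ht => ?_]
  · simp only [← prj_def, conj_prj hM]
    have := Fintype.ofFinite (Cfsg.IrrCharacter (Subgroup.centralizer ({u} : Set G)))
    rw [← sum_prj_mul_prj θ η]
    refine Eq.trans (Finset.sum_congr rfl fun ρ _ => by rw [prj_comm ρ θ])
      (Finset.sum_subset (Finset.subset_univ _) fun ρ _ hρ => ?_)
    rw [prj_eq_zero_of_notMem hM he.1 hθ (fun h => hρ (mem_mems.mpr h)), zero_mul]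
  · refine Eq.trans (Finset.sum_congr (Finset.ext fun χ => by simp [mem_mems]) fun χ _ => rfl)
      ((BlockSections.sum_block_part_section hM hu he.2.1 he hs ht).trans
        (Finset.sum_congr (Finset.ext fun χ => by simp [mem_mems]) fun χ _ => rfl))

theorem sub_eq_classInner (χ ψ : Cfsg.IrrCharacter G) :
    sub p e χ ψ = Cfsg.classInner (Cfsg.pRegularPart p (part e χ)) (part e ψ) := by
  rw [part_eq_sum e ψ, classInner_sum_right]
  refine Finset.sum_congr rfl fun θ _ => ?_
  rw [classInner_smul_right, coord_eq_classInner, mul_comm]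

theorem conj_sub (χ ψ : Cfsg.IrrCharacter G) : conj (sub p e χ ψ) = sub p e ψ χ := by
  rw [sub_eq_classInner, sub_eq_classInner, classInner_def, classInner_def]
  simp only [map_mul, map_inv₀, Complex.conj_natCast, map_sum, Complex.conj_conj]
  congr 1
  refine Finset.sum_congr rfl fun x _ => ?_
  by_cases hx : p ∣ orderOf x
  · simp [pRegularPart_neg hx]
  · simp [pRegularPart_pos hx, mul_comm]

theorem sub_eq_sum_coord (χ ψ : Cfsg.IrrCharacter G) :
    sub p e χ ψ = ∑ θ ∈ mems e, cf u χ θ * conj (coord p e ψ θ) := by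
  rw [← conj_sub, sub, map_sum]
  exact Finset.sum_congr rfl fun θ _ => by rw [map_mul, Complex.conj_conj, mul_comm]

theorem sub_idem (hM : Cfsg.IsPModular p M) (hu : ∃ j : ℕ, orderOf u = p ^ j)
    {B : Set (Cfsg.IrrCharacter G)}
    (he : Cfsg.IsInducedBlock M (Subgroup.centralizer ({u} : Set G)) e B)
    (χ ω : Cfsg.IrrCharacter G) :
    ∑ ψ ∈ mems B, sub p e χ ψ * sub p e ψ ω = sub p e χ ω := by
  have h1 : ∀ ψ, sub p e χ ψ * sub p e ψ ω = ∑ θ ∈ mems e, ∑ η ∈ mems e,
      cf u χ θ * conj (cf u ω η) * (coord p e ψ η * conj (coord p e ψ θ)) := fun ψ => by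
    rw [sub_eq_sum_coord e χ ψ, sub, Finset.sum_mul_sum]
    exact Finset.sum_congr rfl fun θ _ => Finset.sum_congr rfl fun η _ => by ring
  have h2 : sub p e χ ω = ∑ θ ∈ mems e, ∑ η ∈ mems e,
      cf u χ θ * conj (cf u ω η) * prj p θ η := by
    rw [sub]
    simp only [coord, Finset.sum_mul]
    rw [Finset.sum_comm]
    exact Finset.sum_congr rfl fun θ _ => Finset.sum_congr rfl fun η _ => by ring
  rw [h2, Finset.sum_congr rfl fun ψ _ => h1 ψ, Finset.sum_comm]
  refine Finset.sum_congr rfl fun θ _ => ?_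
  rw [Finset.sum_comm]
  refine Finset.sum_congr rfl fun η hη => ?_
  rw [← Finset.mul_sum, sum_coord_mul_conj e hM hu he (mem_mems.mp hη), prj_comm η θ]

theorem sum_sub_self (hM : Cfsg.IsPModular p M) (hu : ∃ j : ℕ, orderOf u = p ^ j)
    {B : Set (Cfsg.IrrCharacter G)}
    (he : Cfsg.IsInducedBlock M (Subgroup.centralizer ({u} : Set G)) e B) :
    ∑ χ ∈ mems B, sub p e χ χ = (Cfsg.blockRank p e : ℂ) := by
  classical
  simp only [sub_eq_classInner, classInner_def]
  rw [← Finset.mul_sum, inv_mul_eq_iff_eq_mul₀ (Nat.cast_ne_zero.mpr Nat.card_pos.ne'),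
    BlockSections.mul_blockRank hM he.1, Finset.sum_comm, Finset.sum_filter]
  refine Finset.sum_congr rfl fun s _ => ?_
  by_cases hs : p ∣ orderOf s
  · rw [if_neg (not_not.mpr hs)]
    exact Finset.sum_eq_zero fun χ _ => by rw [pRegularPart_neg hs, zero_mul]
  · rw [if_pos hs]
    simp only [pRegularPart_pos hs]
    exact Eq.trans (Finset.sum_congr (Finset.ext fun χ => by simp [mem_mems]) fun χ _ => rfl)
      (BlockSections.sum_block_part_section hM hu he.2.1 he hs hs)

/-! ### Values of the coefficients -/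

theorem pow_eq_one_of_le {j k : ℕ} (hj : orderOf u = p ^ j) (hk : j ≤ k + 1) :
    u ^ p ^ (k + 1) = 1 :=
  orderOf_dvd_iff_pow_eq_one.mp (hj ▸ pow_dvd_pow p hk)

theorem exists_cf_eq {k : ℕ} (hu : u ^ p ^ (k + 1) = 1) (χ : Cfsg.IrrCharacter G)
    (θ : Cfsg.IrrCharacter (Subgroup.centralizer ({u} : Set G))) :
    ∃ n : ℕ, ∃ μ : ℂ, μ ^ p ^ (k + 1) = 1 ∧
      Cfsg.classInner (fun c : Subgroup.centralizer ({u} : Set G) => (χ : G → ℂ) c)
        (θ : Subgroup.centralizer ({u} : Set G) → ℂ) = (n : ℂ) ∧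
      cf u χ θ = (n : ℂ) * μ := by
  classical
  have hchar : Cfsg.IsCharacter (Subgroup.centralizer ({u} : Set G))
      (fun c : Subgroup.centralizer ({u} : Set G) => (χ : G → ℂ) c) :=
    isCharacter_restrict (irr_isCharacter χ) _
  obtain ⟨n, hn⟩ := IsCharacter.exists_classInner_irr_eq_natCast hchar θ
  let v : Subgroup.centralizer ({u} : Set G) :=
    ⟨u, Subgroup.mem_centralizer_singleton_iff.mpr rfl⟩
  have hv : v ∈ Subgroup.center (Subgroup.centralizer ({u} : Set G)) :=
    Subgroup.mem_center_iff.mpr fun c =>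
      Subtype.ext (Subgroup.mem_centralizer_singleton_iff.mp c.2)
  refine ⟨n, cval θ v, ?_, hn, ?_⟩
  · rw [← cval_pow θ hv, show v ^ p ^ (k + 1) = 1 from Subtype.ext (by simpa [v] using hu), cval_one]
  · have hf : (fun c : Subgroup.centralizer ({u} : Set G) => (χ : G → ℂ) (u * (c : G))) =
        ∑ η : Cfsg.IrrCharacter (Subgroup.centralizer ({u} : Set G)),
          (Cfsg.classInner (fun c : Subgroup.centralizer ({u} : Set G) => (χ : G → ℂ) c)
            (η : Subgroup.centralizer ({u} : Set G) → ℂ) * cval η v) •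
            (η : Subgroup.centralizer ({u} : Set G) → ℂ) := by
      funext c
      have h := congrFun (IsCharacter.eq_sum_classInner hchar) (v * c)
      simp only [Finset.sum_apply, Pi.smul_apply, smul_eq_mul] at h ⊢
      refine h.trans (Finset.sum_congr rfl fun η _ => ?_)
      rw [← Subgroup.mem_center_iff.mp hv c, apply_mul_of_center η hv c, mul_assoc]
    rw [cf, hf, classInner_sum_all, hn]

theorem cf_mem {k : ℕ} (hu : u ^ p ^ (k + 1) = 1) (χ : Cfsg.IrrCharacter G)
    (θ : Cfsg.IrrCharacter (Subgroup.centralizer ({u} : Set G))) : cf u χ θ ∈ cyc p k := by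
  obtain ⟨n, μ, hμ, -, h⟩ := exists_cf_eq hu χ θ
  rw [h]
  exact mul_mem (natCast_mem _ _) (root_mem hμ)

theorem cf_congr (hM : Cfsg.IsPModular p M) {k : ℕ} (hu : u ^ p ^ (k + 1) = 1)
    (χ : Cfsg.IrrCharacter G) (θ : Cfsg.IrrCharacter (Subgroup.centralizer ({u} : Set G))) :
    Cfsg.MemLocalIdeal M (cf u χ θ -
      Cfsg.classInner (fun c : Subgroup.centralizer ({u} : Set G) => (χ : G → ℂ) c)
        (θ : Subgroup.centralizer ({u} : Set G) → ℂ)) := by
  have := BlocksCore.isPrime hM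
  obtain ⟨n, μ, hμ, hn, h⟩ := exists_cf_eq hu χ θ
  rw [h, hn, show (n : ℂ) * μ - n = n * (μ - 1) by ring]
  exact memLocalIdeal_mul_left (memLocalRing_natCast n)
    (memLocalIdeal_sub_one_of_pow hM (k := k + 1) hμ)

theorem coord_mul_pow_mem (hM : Cfsg.IsPModular p M) (he : Cfsg.IsPBlock M e) {k : ℕ}
    (hu : u ^ p ^ (k + 1) = 1) (χ : Cfsg.IrrCharacter G)
    (θ : Cfsg.IrrCharacter (Subgroup.centralizer ({u} : Set G))) :
    (p : ℂ) ^ Cfsg.blockDefect p e * coord p e χ θ ∈ cyc p k := by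
  rw [coord, Finset.mul_sum]
  refine sum_mem fun η hη => ?_
  obtain ⟨m, hm, -⟩ := exists_contrib hM he (mem_mems.mp hη) θ
  rw [mul_left_comm, ← hm]
  exact mul_mem (cf_mem hu χ η) (intCast_mem _ _)

theorem contrib_mem (hM : Cfsg.IsPModular p M) (he : Cfsg.IsPBlock M e) {k : ℕ}
    (hu : u ^ p ^ (k + 1) = 1) (χ ψ : Cfsg.IrrCharacter G) :
    contrib p e χ ψ ∈ cyc p k := by
  rw [contrib, sub, Finset.mul_sum]
  refine sum_mem fun θ _ => ?_
  rw [← mul_assoc]
  exact mul_mem (coord_mul_pow_mem e hM he hu χ θ) (conj_mem (cf_mem hu ψ θ))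

theorem conj_contrib (χ ψ : Cfsg.IrrCharacter G) :
    conj (contrib p e χ ψ) = contrib p e ψ χ := by
  rw [contrib, map_mul, map_pow, map_natCast, conj_sub, contrib]

theorem contrib_idem (hM : Cfsg.IsPModular p M) (hu : ∃ j : ℕ, orderOf u = p ^ j)
    {B : Set (Cfsg.IrrCharacter G)}
    (he : Cfsg.IsInducedBlock M (Subgroup.centralizer ({u} : Set G)) e B)
    (χ ω : Cfsg.IrrCharacter G) :
    ∑ ψ ∈ mems B, contrib p e χ ψ * contrib p e ψ ω =
      (p : ℂ) ^ Cfsg.blockDefect p e * contrib p e χ ω := by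
  simp only [contrib]
  rw [← sub_idem e hM hu he χ ω, Finset.mul_sum, Finset.mul_sum]
  exact Finset.sum_congr rfl fun ψ _ => by ring

theorem sum_contrib_self (hM : Cfsg.IsPModular p M) (hu : ∃ j : ℕ, orderOf u = p ^ j)
    {B : Set (Cfsg.IrrCharacter G)}
    (he : Cfsg.IsInducedBlock M (Subgroup.centralizer ({u} : Set G)) e B) :
    ∑ χ ∈ mems B, contrib p e χ χ =
      (p : ℂ) ^ Cfsg.blockDefect p e * (Cfsg.blockRank p e : ℂ) := by
  simp only [contrib]
  rw [← Finset.mul_sum, sum_sub_self e hM hu he]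

/-! ### The pairing with `G` -/

theorem natCard_centralizer_mul (hu : ∃ j : ℕ, orderOf u = p ^ j)
    (s : Subgroup.centralizer ({u} : Set G)) (hs : ¬ p ∣ orderOf s) :
    Nat.card (Subgroup.centralizer ({u * (s : G)} : Set G)) =
      Nat.card (Subgroup.centralizer ({s} : Set (Subgroup.centralizer ({u} : Set G)))) := by
  have hp := (Fact.out : p.Prime)
  rw [show Subgroup.centralizer ({u * (s : G)} : Set G) = (Subgroup.centralizer
      ({s} : Set (Subgroup.centralizer ({u} : Set G)))).map (Subgroup.subtype _) from ?_,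
    Subgroup.card_map_of_injective (Subgroup.subtype_injective _)]
  ext g
  constructor
  · intro hg
    obtain ⟨h1, h2⟩ := BlockSections.fixes_of_conj hp hu hs hs (g := g) (by
      rw [Subgroup.mem_centralizer_singleton_iff.mp hg, mul_inv_cancel_right])
    exact ⟨⟨g, h1⟩, Subgroup.mem_centralizer_singleton_iff.mpr
      (Subtype.ext (mul_inv_eq_iff_eq_mul.mp h2)), rfl⟩
  · rintro ⟨c, hc, rfl⟩
    refine Subgroup.mem_centralizer_singleton_iff.mpr ?_
    have h2 : (c : G) * (s : G) = s * c :=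
      congrArg Subtype.val (Subgroup.mem_centralizer_singleton_iff.mp hc)
    show (c : G) * (u * s) = u * s * c
    rw [← mul_assoc, Subgroup.mem_centralizer_singleton_iff.mp c.2, mul_assoc, h2, ← mul_assoc]

/-- The central character pairing. -/
noncomputable def cpair [Fintype (ConjClasses (Subgroup.centralizer ({u} : Set G)))] (p : ℕ)
    (e : Set (Cfsg.IrrCharacter (Subgroup.centralizer ({u} : Set G))))
    (χ ψ : Cfsg.IrrCharacter G) : ℂ :=
  ∑ K : ConjClasses (Subgroup.centralizer ({u} : Set G)),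
    Cfsg.pRegularPart p (part e χ) (Quotient.out K) *
      Cfsg.centralChar (ψ : G → ℂ) (u * ((Quotient.out K : Subgroup.centralizer ({u} : Set G)) : G))⁻¹

variable [Fintype (ConjClasses (Subgroup.centralizer ({u} : Set G)))]

theorem isClassFunction_part (χ : Cfsg.IrrCharacter G) :
    Cfsg.IsClassFunction (Subgroup.centralizer ({u} : Set G)) (part e χ) := by
  rw [part_eq_sum]
  intro g h
  simp only [Finset.sum_apply, Pi.smul_apply]
  exact Finset.sum_congr rfl fun θ _ => by rw [irr_isClassFunction θ g h]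

set_option quotPrecheck false in
local notation "CC" => Subgroup.centralizer ({u} : Set G)

theorem card_mul_sub (hM : Cfsg.IsPModular p M) (he : Cfsg.IsPBlock M e)
    (hu : ∃ j : ℕ, orderOf u = p ^ j) (χ ψ : Cfsg.IrrCharacter G) :
    (Nat.card G : ℂ) * sub p e χ ψ = (ψ : G → ℂ) 1 * cpair p e χ ψ := by
  classical
  set a : CC → ℂ := Cfsg.pRegularPart p (part e χ) with ha
  have hacl : Cfsg.IsClassFunction CC a := isClassFunction_pRegularPart (isClassFunction_part e χ)
  have hψcl : Cfsg.IsClassFunction CC (fun c : CC => (ψ : G → ℂ) (u * (c : G))) :=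
    BlockSections.isClassFunction_translate ψ
  have h1 : sub p e χ ψ = Cfsg.classInner a (fun c : CC => (ψ : G → ℂ) (u * (c : G))) := by
    rw [classInner_eq_sum hacl hψcl, sub]
    refine Eq.trans (Finset.sum_congr rfl fun θ _ => by rw [coord_eq_classInner]; rfl)
      (Finset.sum_subset (Finset.subset_univ _) fun θ _ hθ => ?_)
    rw [ha, ← coord_eq_classInner, coord_eq_zero e hM he χ (fun h => hθ (mem_mems.mpr h)), zero_mul]
  set b : CC → ℂ := fun c => a c * (ψ : G → ℂ) (u * (c : G))⁻¹ with hb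
  have hbcl : Cfsg.IsClassFunction CC b := by
    intro c d
    simp only [hb]
    rw [hacl c d, irr_apply_inv ψ, irr_apply_inv ψ]
    congr 2
    exact hψcl c d
  have h2 : ∑ c, b c = ∑ K : ConjClasses CC, b (Quotient.out K) *
      ((Subgroup.centralizer ({(Quotient.out K : CC)} : Set CC)).index : ℂ) := by
    conv_lhs => rw [eq_sum_classes hbcl]
    simp only [Finset.sum_apply, Pi.smul_apply, smul_eq_mul]
    rw [Finset.sum_comm]
    exact Finset.sum_congr rfl fun K _ => by rw [← Finset.mul_sum, BlocksCore.sum_classInd]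
  rw [h1, classInner_def, Finset.sum_congr rfl (g := b) fun c _ => by simp only [hb]; rw [irr_apply_inv ψ],
    h2, cpair, Finset.mul_sum, Finset.mul_sum, Finset.mul_sum]
  refine Finset.sum_congr rfl fun K _ => ?_
  set s : CC := Quotient.out K
  by_cases hs : p ∣ orderOf s
  · simp [hb, ha, pRegularPart_neg hs]
  have hC := Subgroup.card_mul_index (Subgroup.centralizer ({s} : Set CC))
  have hG := Subgroup.card_mul_index (Subgroup.centralizer ({u * (s : G)} : Set G))
  rw [natCard_centralizer_mul hu s hs] at hG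
  simp only [hb, Cfsg.centralChar, centralizer_inv]
  rw [← hC, ← hG]
  have h0 : ((Nat.card (Subgroup.centralizer ({s} : Set CC)) : ℕ) : ℂ) ≠ 0 :=
    Nat.cast_ne_zero.mpr Nat.card_pos.ne'
  have h0' : ((Subgroup.centralizer ({s} : Set CC)).index : ℂ) ≠ 0 :=
    Nat.cast_ne_zero.mpr Subgroup.FiniteIndex.index_ne_zero
  push_cast
  field_simp [irr_apply_one_ne_zero ψ]
  ring

theorem isIntegral_part {k : ℕ} (hu : u ^ p ^ (k + 1) = 1) (χ : Cfsg.IrrCharacter G)
    (s : Subgroup.centralizer ({u} : Set G)) : IsIntegral ℤ (part e χ s) := by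
  rw [part_eq_sum, Finset.sum_apply]
  exact IsIntegral.sum _ fun θ _ =>
    (isIntegral_of_mem (Fact.out) (cf_mem hu χ θ)).mul (isIntegral_irr θ s)

theorem isIntegral_cpair {k : ℕ} (hu : u ^ p ^ (k + 1) = 1) (χ ψ : Cfsg.IrrCharacter G) :
    IsIntegral ℤ (cpair p e χ ψ) := by
  refine IsIntegral.sum _ fun K _ => IsIntegral.mul ?_ (isIntegral_centralChar ψ _)
  by_cases hs : p ∣ orderOf (Quotient.out K : Subgroup.centralizer ({u} : Set G))
  · rw [pRegularPart_neg hs]; exact isIntegral_zero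
  · rw [pRegularPart_pos hs]; exact isIntegral_part e hu χ _

theorem cpair_congr (hM : Cfsg.IsPModular p M) {k : ℕ} (hu : u ^ p ^ (k + 1) = 1)
    {B : Set (Cfsg.IrrCharacter G)} (hB : Cfsg.IsPBlock M B) (χ : Cfsg.IrrCharacter G)
    {ψ ψ' : Cfsg.IrrCharacter G} (hψ : ψ ∈ B) (hψ' : ψ' ∈ B) :
    Cfsg.MemLocalIdeal M (cpair p e χ ψ - cpair p e χ ψ') := by
  have := BlocksCore.isPrime hM
  rw [cpair, cpair, ← Finset.sum_sub_distrib]
  refine memLocalIdeal_sum fun K _ => ?_
  rw [← mul_sub]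
  refine memLocalIdeal_mul_left ?_ (sameBlock_of_mem hB hψ hψ' _)
  by_cases hs : p ∣ orderOf (Quotient.out K : Subgroup.centralizer ({u} : Set G))
  · rw [pRegularPart_neg hs]; exact memLocalRing_of_mem (zero_mem _)
  · rw [pRegularPart_pos hs]; exact memLocalRing_of_isIntegral (isIntegral_part e hu χ _)

omit [Fintype (ConjClasses (Subgroup.centralizer ({u} : Set G)))]

/-! ### The fundamental congruence -/

/-- `p^d θ(1) / |C|` is a local integer, a unit exactly at height zero. -/
theorem weight_spec (hM : Cfsg.IsPModular p M) {H : Type u} [Group H] [Finite H]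
    {b : Set (Cfsg.IrrCharacter H)} {θ : Cfsg.IrrCharacter H} (hθ : θ ∈ b) :
    Cfsg.MemLocalRing M
        ((p : ℂ) ^ Cfsg.blockDefect p b * (θ : H → ℂ) 1 / (Nat.card H : ℂ)) ∧
      (Cfsg.blockHeight p b (θ : H → ℂ) = 0 →
        ¬ Cfsg.MemLocalIdeal M
          ((p : ℂ) ^ Cfsg.blockDefect p b * (θ : H → ℂ) 1 / (Nat.card H : ℂ))) := by
  have := BlocksCore.isPrime hM
  have := Fintype.ofFinite H
  set a := (Nat.card H).factorization p with ha
  set t := (Cfsg.charDegree (θ : H → ℂ)).factorization p with ht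
  set s := sInf ((fun χ : Cfsg.IrrCharacter H =>
    (Cfsg.charDegree (χ : H → ℂ)).factorization p) '' b) with hs
  have hst : s ≤ t := BC85.sInf_le_degree hθ
  have hta : t ≤ a := BC85.degree_factorization_le θ
  set c := Cfsg.charDegree (θ : H → ℂ) / p ^ t
  set n' := Nat.card H / p ^ a
  have hcd : ((θ : H → ℂ) 1) = (p : ℂ) ^ t * (c : ℂ) := by
    rw [irr_one_eq, ← Nat.cast_pow, ← Nat.cast_mul, Nat.ordProj_mul_ordCompl_eq_self]
  have hnd : (Nat.card H : ℂ) = (p : ℂ) ^ a * (n' : ℂ) := by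
    rw [← Nat.cast_pow, ← Nat.cast_mul, Nat.ordProj_mul_ordCompl_eq_self]
  have hn' : ¬ p ∣ n' := Nat.not_dvd_ordCompl hM.1 Nat.card_pos.ne'
  have hc : ¬ p ∣ c := Nat.not_dvd_ordCompl hM.1 (charDegree_pos θ).ne'
  have hp0 : (p : ℂ) ≠ 0 := by exact_mod_cast hM.1.ne_zero
  have hn0 : (n' : ℂ) ≠ 0 :=
    Nat.cast_ne_zero.2 fun h0 : n' = 0 => hn' (by rw [h0]; exact dvd_zero p)
  have heq : (p : ℂ) ^ Cfsg.blockDefect p b * (θ : H → ℂ) 1 / (Nat.card H : ℂ) =
      (p : ℂ) ^ (t - s) * ((c : ℂ) * (n' : ℂ)⁻¹) := by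
    rw [show Cfsg.blockDefect p b = a - s from rfl, hcd, hnd,
      show (p : ℂ) ^ a = (p : ℂ) ^ (a - s) * (p : ℂ) ^ s by
        rw [← pow_add, Nat.sub_add_cancel (hst.trans hta)],
      show (p : ℂ) ^ t = (p : ℂ) ^ (t - s) * (p : ℂ) ^ s by
        rw [← pow_add, Nat.sub_add_cancel hst]]
    field_simp
  rw [heq]
  refine ⟨(localRing M).mul_mem ((localRing M).pow_mem (memLocalRing_natCast p) _)
    ((localRing M).mul_mem (memLocalRing_natCast c) (memLocalRing_natCast_inv hM hn')), fun h hI => ?_⟩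
  rw [show t - s = 0 from h, pow_zero, one_mul] at hI
  have h3 := memLocalIdeal_mul_right hI (memLocalRing_natCast n')
  rw [mul_assoc, inv_mul_cancel₀ hn0, mul_one] at h3
  exact hc ((memLocalIdeal_natCast_iff hM c).1 h3)

theorem pow_mul_prj {H : Type u} [Group H] [Finite H] (b : Set (Cfsg.IrrCharacter H))
    (θ η : Cfsg.IrrCharacter H) :
    (p : ℂ) ^ Cfsg.blockDefect p b * prj p θ η =
      (p : ℂ) ^ Cfsg.blockDefect p b * (θ : H → ℂ) 1 / (Nat.card H : ℂ) *
        regPair p (θ : H → ℂ) η := by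
  rw [prj_eq_regPair]
  ring

/-- The weighted number of constituents in `e` of the restriction. -/
noncomputable def resWeight (p : ℕ)
    (e : Set (Cfsg.IrrCharacter (Subgroup.centralizer ({u} : Set G))))
    (ψ : Cfsg.IrrCharacter G) : ℂ :=
  ∑ θ ∈ mems e, Cfsg.classInner (fun c : Subgroup.centralizer ({u} : Set G) => (ψ : G → ℂ) c)
      (θ : Subgroup.centralizer ({u} : Set G) → ℂ) *
    ((p : ℂ) ^ Cfsg.blockDefect p e * (θ : Subgroup.centralizer ({u} : Set G) → ℂ) 1 /
      (Nat.card (Subgroup.centralizer ({u} : Set G)) : ℂ))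

variable {B : Set (Cfsg.IrrCharacter G)}

theorem sum_res_prj (hM : Cfsg.IsPModular p M) (he : Cfsg.IsPBlock M e) (χ : Cfsg.IrrCharacter G)
    {θ : Cfsg.IrrCharacter (Subgroup.centralizer ({u} : Set G))} (hθ : θ ∈ e) :
    (p : ℂ) ^ Cfsg.blockDefect p e * ∑ η ∈ mems e,
        Cfsg.classInner (fun c : Subgroup.centralizer ({u} : Set G) => (χ : G → ℂ) c)
          (η : Subgroup.centralizer ({u} : Set G) → ℂ) * prj p η θ =
      (p : ℂ) ^ Cfsg.blockDefect p e * (θ : Subgroup.centralizer ({u} : Set G) → ℂ) 1 /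
          (Nat.card (Subgroup.centralizer ({u} : Set G)) : ℂ) *
        omega (θ : Subgroup.centralizer ({u} : Set G) → ℂ)
          (res (Subgroup.centralizer ({u} : Set G)) (regInv p (χ : G → ℂ))) := by
  have := BlocksCore.isPrime hM
  rw [regPair_res_eq_sum, Finset.mul_sum, Finset.mul_sum,
    ← Finset.sum_subset (Finset.subset_univ (mems e)) fun η _ hη => by
      rw [regPair_eq_zero hM, mul_zero, mul_zero]
      intro h
      exact hη (mem_mems.mpr (by rw [isPBlock_eq_blockOf he hθ]; exact h))]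
  refine Finset.sum_congr rfl fun η _ => ?_
  rw [prj_comm, mul_left_comm, pow_mul_prj e θ η]
  ring

theorem natural_res (χ : Cfsg.IrrCharacter G)
    (θ : Cfsg.IrrCharacter (Subgroup.centralizer ({u} : Set G))) [M.IsPrime] :
    Cfsg.MemLocalRing M
      (Cfsg.classInner (fun c : Subgroup.centralizer ({u} : Set G) => (χ : G → ℂ) c)
        (θ : Subgroup.centralizer ({u} : Set G) → ℂ)) := by
  obtain ⟨n, hn⟩ := IsCharacter.exists_classInner_irr_eq_natCast
    (isCharacter_restrict (irr_isCharacter χ) (Subgroup.centralizer ({u} : Set G))) θ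
  rw [hn]
  exact memLocalRing_natCast n

theorem resWeight_unit (hM : Cfsg.IsPModular p M)
    (he : Cfsg.IsInducedBlock M (Subgroup.centralizer ({u} : Set G)) e B)
    {χ : Cfsg.IrrCharacter G} (hχ : χ ∈ B) (h0 : Cfsg.blockHeight p B (χ : G → ℂ) = 0) :
    Cfsg.MemLocalRing M (resWeight p e χ) ∧ ¬ Cfsg.MemLocalIdeal M (resWeight p e χ) := by
  have := BlocksCore.isPrime hM
  refine ⟨memLocalRing_sum fun θ hθ => (localRing M).mul_mem (natural_res χ θ)
    (weight_spec hM (mem_mems.mp hθ)).1, fun hc => ?_⟩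
  obtain ⟨θ₀, hθ₀, h00⟩ := exists_height_zero hM he.1
  have hu0 := (regPair_unit_iff hM he.2.1 hχ hχ).mpr h0
  have h2 := sum_res_prj e hM he.1 χ hθ₀
  have hunit : ¬ Cfsg.MemLocalIdeal M
      (omega (θ₀ : Subgroup.centralizer ({u} : Set G) → ℂ)
        (res (Subgroup.centralizer ({u} : Set G)) (regInv p (χ : G → ℂ)))) := fun hI =>
    hu0 (by simpa [regPair] using
      memLocalIdeal_sub hI (omega_induced hM he hθ₀ hχ (isIntClassFun_regInv (p := p) χ)))
  refine (weight_spec hM hθ₀).2 h00 ((memLocalIdeal_mem_or_mem (weight_spec hM hθ₀).1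
    (omega_memLocalRing θ₀ (isIntClassFun_res _ (isIntClassFun_regInv (p := p) χ)))
    (h2 ▸ ?_)).resolve_right hunit)
  have h3 : Cfsg.MemLocalIdeal M (resWeight p e χ *
      regPair p (θ₀ : Subgroup.centralizer ({u} : Set G) → ℂ) θ₀) :=
    memLocalIdeal_mul_right hc (regPair_memLocalRing θ₀ θ₀)
  rw [show (p : ℂ) ^ Cfsg.blockDefect p e * ∑ η ∈ mems e,
      Cfsg.classInner (fun c : Subgroup.centralizer ({u} : Set G) => (χ : G → ℂ) c)
        (η : Subgroup.centralizer ({u} : Set G) → ℂ) * prj p η θ₀ =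
      resWeight p e χ * regPair p (θ₀ : Subgroup.centralizer ({u} : Set G) → ℂ) θ₀ +
      ∑ η ∈ mems e, Cfsg.classInner (fun c : Subgroup.centralizer ({u} : Set G) => (χ : G → ℂ) c)
        (η : Subgroup.centralizer ({u} : Set G) → ℂ) *
        ((p : ℂ) ^ Cfsg.blockDefect p e * (η : Subgroup.centralizer ({u} : Set G) → ℂ) 1 /
          (Nat.card (Subgroup.centralizer ({u} : Set G)) : ℂ)) *
        (regPair p (η : Subgroup.centralizer ({u} : Set G) → ℂ) θ₀ -
          regPair p (θ₀ : Subgroup.centralizer ({u} : Set G) → ℂ) θ₀) by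
    rw [resWeight, Finset.sum_mul, ← Finset.sum_add_distrib, Finset.mul_sum]
    refine Finset.sum_congr rfl fun η _ => ?_
    rw [mul_left_comm, pow_mul_prj e η θ₀]
    ring]
  exact memLocalIdeal_add h3 (memLocalIdeal_sum fun η hη => memLocalIdeal_mul_left
    ((localRing M).mul_mem (natural_res χ η) (weight_spec hM (mem_mems.mp hη)).1)
    (regPair_congr hM he.1 (mem_mems.mp hη) hθ₀ θ₀))

/-- The contribution is congruent to a product. -/
theorem contrib_congr (hM : Cfsg.IsPModular p M) {k : ℕ} (hu : u ^ p ^ (k + 1) = 1)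
    (he : Cfsg.IsInducedBlock M (Subgroup.centralizer ({u} : Set G)) e B)
    {χ : Cfsg.IrrCharacter G} (hχ : χ ∈ B) (ψ : Cfsg.IrrCharacter G) :
    Cfsg.MemLocalIdeal M
      (contrib p e χ ψ - regPair p (χ : G → ℂ) χ * resWeight p e ψ) := by
  have := BlocksCore.isPrime hM
  rw [contrib, sub, resWeight, Finset.mul_sum, Finset.mul_sum, ← Finset.sum_sub_distrib]
  refine memLocalIdeal_sum fun θ hθ => ?_
  have hθ' := mem_mems.mp hθ
  set R := regPair p (χ : G → ℂ) χ with hR
  set w := (p : ℂ) ^ Cfsg.blockDefect p e * (θ : Subgroup.centralizer ({u} : Set G) → ℂ) 1 /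
    (Nat.card (Subgroup.centralizer ({u} : Set G)) : ℂ) with hw
  set n := Cfsg.classInner (fun c : Subgroup.centralizer ({u} : Set G) => (ψ : G → ℂ) c)
    (θ : Subgroup.centralizer ({u} : Set G) → ℂ) with hn
  have h1 : Cfsg.MemLocalIdeal M
      ((p : ℂ) ^ Cfsg.blockDefect p e * coord p e χ θ - w * R) := by
    have h2 : Cfsg.MemLocalIdeal M ((p : ℂ) ^ Cfsg.blockDefect p e * coord p e χ θ -
        w * omega (θ : Subgroup.centralizer ({u} : Set G) → ℂ)
          (res (Subgroup.centralizer ({u} : Set G)) (regInv p (χ : G → ℂ)))) := by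
      rw [hw, ← sum_res_prj e hM he.1 χ hθ', coord, Finset.mul_sum, Finset.mul_sum,
        ← Finset.sum_sub_distrib]
      refine memLocalIdeal_sum fun η hη => ?_
      obtain ⟨m, hm, -⟩ := exists_contrib hM he.1 (mem_mems.mp hη) θ
      rw [mul_left_comm, mul_left_comm ((p : ℂ) ^ _) (Cfsg.classInner _ _), ← hm, ← sub_mul]
      exact memLocalIdeal_mul_right (cf_congr hM hu χ η) (memLocalRing_intCast m)
    have h3 := memLocalIdeal_mul_left (weight_spec hM hθ').1
      (omega_induced hM he hθ' hχ (isIntClassFun_regInv (p := p) χ))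
    have := memLocalIdeal_add h2 h3
    convert this using 1
    rw [hR, hw, regPair]
    ring
  have h4 : Cfsg.MemLocalIdeal M (conj (cf u ψ θ) - n) := by
    obtain ⟨m, μ, hμ, hm, h⟩ := exists_cf_eq hu ψ θ
    rw [hn, hm, h, map_mul, map_natCast, ← mul_sub_one]
    exact memLocalIdeal_mul_left (memLocalRing_natCast m) (memLocalIdeal_sub_one_of_pow hM
      (k := k + 1) (by rw [← map_pow, hμ, map_one]))
  have hcl : Cfsg.MemLocalRing M ((p : ℂ) ^ Cfsg.blockDefect p e * coord p e χ θ) :=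
    memLocalRing_of_isIntegral (isIntegral_of_mem hM.1 (coord_mul_pow_mem e hM he.1 hu χ θ))
  have := memLocalIdeal_add (memLocalIdeal_mul_left hcl h4)
    (memLocalIdeal_mul_right h1 (natural_res (M := M) ψ θ))
  convert this using 1
  rw [← hn]
  ring

/-- The contribution at two height zero members is a unit. -/
theorem contrib_unit (hM : Cfsg.IsPModular p M) {k : ℕ} (hu : u ^ p ^ (k + 1) = 1)
    (he : Cfsg.IsInducedBlock M (Subgroup.centralizer ({u} : Set G)) e B)
    {χ ψ : Cfsg.IrrCharacter G} (hχ : χ ∈ B) (h0 : Cfsg.blockHeight p B (χ : G → ℂ) = 0)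
    (hψ : ψ ∈ B) (h0' : Cfsg.blockHeight p B (ψ : G → ℂ) = 0) :
    ¬ Cfsg.MemLocalIdeal M (contrib p e χ ψ) := by
  have := BlocksCore.isPrime hM
  intro hc
  obtain ⟨h1, h2⟩ := resWeight_unit e hM he hψ h0'
  have h3 := memLocalIdeal_sub hc (contrib_congr e hM hu he hχ ψ)
  rw [sub_sub_cancel] at h3
  exact h2 ((memLocalIdeal_mem_or_mem (regPair_memLocalRing χ χ) h1 h3).resolve_left
    ((regPair_unit_iff hM he.2.1 hχ hχ).mpr h0))

/-- The valuations of the contributions of a major subsection. -/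
theorem exists_major_contrib (hM : Cfsg.IsPModular p M) (hu' : ∃ j : ℕ, orderOf u = p ^ j)
    {k : ℕ} (hu : u ^ p ^ (k + 1) = 1)
    (he : Cfsg.IsInducedBlock M (Subgroup.centralizer ({u} : Set G)) e B)
    (hd : Cfsg.blockDefect p e = Cfsg.blockDefect p B)
    {χ : Cfsg.IrrCharacter G} (hχ : χ ∈ B) {ψ : Cfsg.IrrCharacter G} (hψ : ψ ∈ B) :
    ∃ w ∈ cyc p k, contrib p e χ ψ = (p : ℂ) ^ Cfsg.blockHeight p B (ψ : G → ℂ) * w ∧
      (Cfsg.MemLocalIdeal M w ↔ Cfsg.blockHeight p B (χ : G → ℂ) ≠ 0) := by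
  classical
  have := BlocksCore.isPrime hM
  have := Fintype.ofFinite (ConjClasses (Subgroup.centralizer ({u} : Set G)))
  set a := (Nat.card G).factorization p with ha
  set n' := Nat.card G / p ^ a
  have hn' : ¬ p ∣ n' := Nat.not_dvd_ordCompl hM.1 Nat.card_pos.ne'
  have hnd : (Nat.card G : ℂ) = (p : ℂ) ^ a * (n' : ℂ) := by
    rw [← Nat.cast_pow, ← Nat.cast_mul, Nat.ordProj_mul_ordCompl_eq_self]
  have hp0 : (p : ℂ) ≠ 0 := by exact_mod_cast hM.1.ne_zero
  have hn0 : (n' : ℂ) ≠ 0 :=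
    Nat.cast_ne_zero.2 fun h0 : n' = 0 => hn' (by rw [h0]; exact dvd_zero p)
  -- the numerical relation
  have key : ∀ {φ η : Cfsg.IrrCharacter G}, η ∈ B →
      ∃ c : ℕ, ¬ p ∣ c ∧ (n' : ℂ) * contrib p e φ η =
        (p : ℂ) ^ Cfsg.blockHeight p B (η : G → ℂ) * ((c : ℂ) * cpair p e φ η) := by
    intro φ η hη
    set t := (Cfsg.charDegree (η : G → ℂ)).factorization p with ht
    set s := sInf ((fun χ : Cfsg.IrrCharacter G =>
      (Cfsg.charDegree (χ : G → ℂ)).factorization p) '' B)
    have hst : s ≤ t := BC85.sInf_le_degree hη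
    have hta : t ≤ a := BC85.degree_factorization_le η
    set c := Cfsg.charDegree (η : G → ℂ) / p ^ t
    refine ⟨c, Nat.not_dvd_ordCompl hM.1 (charDegree_pos η).ne', ?_⟩
    have hcd : ((η : G → ℂ) 1) = (p : ℂ) ^ t * (c : ℂ) := by
      rw [irr_one_eq, ← Nat.cast_pow, ← Nat.cast_mul, Nat.ordProj_mul_ordCompl_eq_self]
    have h := card_mul_sub e hM he.1 hu' φ η
    rw [hnd, hcd] at h
    rw [contrib, hd, show Cfsg.blockDefect p B = a - s from rfl,
      show Cfsg.blockHeight p B (η : G → ℂ) = t - s from rfl]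
    apply mul_left_cancel₀ (pow_ne_zero s hp0)
    calc (p : ℂ) ^ s * ((n' : ℂ) * ((p : ℂ) ^ (a - s) * sub p e φ η))
        = (p : ℂ) ^ (s + (a - s)) * (n' : ℂ) * sub p e φ η := by rw [pow_add]; ring
      _ = (p : ℂ) ^ (s + (t - s)) * ((c : ℂ) * cpair p e φ η) := by
          rw [Nat.add_sub_cancel' (hst.trans hta), Nat.add_sub_cancel' hst, h]; ring
      _ = _ := by rw [pow_add]; ring
  obtain ⟨θ₀, hθ₀, h00⟩ := exists_height_zero hM he.2.1
  -- the class of the pairing
  have hcls : Cfsg.MemLocalIdeal M (cpair p e χ ψ) ↔ Cfsg.blockHeight p B (χ : G → ℂ) ≠ 0 := by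
    constructor
    · intro hI hz
      obtain ⟨c, hc, hk⟩ := key (φ := χ) hχ
      rw [hz, pow_zero, one_mul] at hk
      have hI2 : Cfsg.MemLocalIdeal M (cpair p e χ χ) := by
        simpa using memLocalIdeal_sub hI (cpair_congr e hM hu he.2.1 χ hψ hχ)
      have h2 := memLocalIdeal_mul_left (memLocalRing_natCast c) hI2
      rw [← hk] at h2
      exact contrib_unit e hM hu he hχ hz hχ hz ((memLocalIdeal_mem_or_mem (memLocalRing_natCast n')
        (memLocalRing_of_isIntegral (isIntegral_of_mem hM.1 (contrib_mem e hM he.1 hu χ χ)))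
        h2).resolve_left fun h => hn' ((memLocalIdeal_natCast_iff hM n').1 h))
    · intro hz
      obtain ⟨c, hc, hk⟩ := key (φ := χ) hθ₀
      rw [h00, pow_zero, one_mul] at hk
      obtain ⟨c', -, hk'⟩ := key (φ := θ₀) hχ
      have hI1 : Cfsg.MemLocalIdeal M ((n' : ℂ) * contrib p e θ₀ χ) := by
        rw [hk']
        refine memLocalIdeal_mul_right ((memLocalIdeal_pow_iff (memLocalRing_natCast p) hz).mpr
          ((memLocalIdeal_natCast_iff hM p).2 dvd_rfl)) ((localRing M).mul_mem
          (memLocalRing_natCast c') (memLocalRing_of_isIntegral (isIntegral_cpair e hu θ₀ χ)))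
      have hcm := contrib_mem e hM he.1 hu θ₀ χ
      have hI2 : Cfsg.MemLocalIdeal M (contrib p e θ₀ χ) :=
        (memLocalIdeal_mem_or_mem (memLocalRing_natCast n')
          (memLocalRing_of_isIntegral (isIntegral_of_mem hM.1 hcm))
          hI1).resolve_left fun h => hn' ((memLocalIdeal_natCast_iff hM n').1 h)
      have hI3 : Cfsg.MemLocalIdeal M ((n' : ℂ) * contrib p e χ θ₀) := by
        rw [← conj_contrib]
        exact memLocalIdeal_mul_left (memLocalRing_natCast n')
          ((conj_memLocalIdeal_iff hM hcm).mpr hI2)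
      rw [hk] at hI3
      have hI4 := (memLocalIdeal_mem_or_mem (memLocalRing_natCast c)
        (memLocalRing_of_isIntegral (isIntegral_cpair e hu χ θ₀))
        hI3).resolve_left fun h => hc ((memLocalIdeal_natCast_iff hM c).1 h)
      simpa using memLocalIdeal_add (cpair_congr e hM hu he.2.1 χ hψ hθ₀) hI4
  obtain ⟨c, hc, hk⟩ := key (φ := χ) hψ
  set h := Cfsg.blockHeight p B (ψ : G → ℂ)
  obtain ⟨α, β, hαβ⟩ : IsCoprime ((p : ℤ) ^ h) (n' : ℤ) :=
    (Int.isCoprime_iff_gcd_eq_one.mpr (by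
      rw [Int.gcd_natCast_natCast]
      exact (Nat.Prime.coprime_iff_not_dvd hM.1).mpr hn')).pow_left
  have hαβ' : (α : ℂ) * (p : ℂ) ^ h + (β : ℂ) * (n' : ℂ) = 1 := by exact_mod_cast hαβ
  set w := (α : ℂ) * contrib p e χ ψ + (β : ℂ) * ((c : ℂ) * cpair p e χ ψ) with hwdef
  have hmw : contrib p e χ ψ = (p : ℂ) ^ h * w := by
    rw [hwdef]
    linear_combination -(contrib p e χ ψ) * hαβ' + (β : ℂ) * hk
  have hint : ∀ z : ℤ, IsIntegral ℤ (z : ℂ) := fun z => isIntegral_algebraMap
  have hwI : IsIntegral ℤ w :=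
    ((hint α).mul (isIntegral_of_mem hM.1 (contrib_mem e hM he.1 hu χ ψ))).add
      ((hint β).mul ((by simpa using hint (c : ℤ) : IsIntegral ℤ (c : ℂ)).mul
        (isIntegral_cpair e hu χ ψ)))
  obtain ⟨q, hq, -, hqw⟩ := exists_eq_pow_mul hM (v := 1) (one_mem _) not_memLocalIdeal_one hwI h
    (contrib_mem e hM he.1 hu χ ψ) (by rw [mul_one, hmw])
  rw [mul_one] at hqw
  refine ⟨w, hqw ▸ hq, hmw, ?_⟩
  have hnw : (n' : ℂ) * w = (c : ℂ) * cpair p e χ ψ := by
    apply mul_left_cancel₀ (pow_ne_zero h hp0)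
    rw [← hk, hmw]
    ring
  rw [← hcls]
  constructor <;> intro hI
  · have := memLocalIdeal_mul_left (memLocalRing_natCast n') hI
    rw [hnw] at this
    exact (memLocalIdeal_mem_or_mem (memLocalRing_natCast c)
      (memLocalRing_of_isIntegral (isIntegral_cpair e hu χ ψ)) this).resolve_left
        fun h => hc ((memLocalIdeal_natCast_iff hM c).1 h)
  · have := memLocalIdeal_mul_left (memLocalRing_natCast c) hI
    rw [← hnw] at this
    exact (memLocalIdeal_mem_or_mem (memLocalRing_natCast n')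
      (memLocalRing_of_isIntegral hwI) this).resolve_left
        fun h => hn' ((memLocalIdeal_natCast_iff hM n').1 h)

end Cfsg.Agent.CharCore.SubContrib
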