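import Mathlib.RepresentationTheory.Character
import Mathlib.RingTheory.IntegralClosure.IsIntegral.Basic
import Mathlib.LinearAlgebra.Eigenspace.Semisimple
import Mathlib.LinearAlgebra.Eigenspace.Triangularizable
import Mathlib.LinearAlgebra.FiniteDimensional.Lemmas
import Mathlib.FieldTheory.Separable
import Mathlib.Analysis.Complex.Basic
import Mathlib.Analysis.Complex.Polynomial.Basic

/-!
# Eigenvalues of finite order operators, basic properties of character values

Library `CharCore`, part 1.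
-/

set_option autoImplicit false
set_option linter.unusedSectionVars false

open Module
open scoped ComplexConjugate

namespace Cfsg.Agent.CharCore

universe u v

variable {V : Type v} [AddCommGroup V] [Module ℂ V] [FiniteDimensional ℂ V]

theorem iSup_eigenspace_eq_top_of_pow_eq_one (T : Module.End ℂ V) {m : ℕ} (hm : 0 < m)
    (hT : T ^ m = 1) : ⨆ μ, Module.End.eigenspace T μ = ⊤ := by
  have hsep : (Polynomial.X ^ m - Polynomial.C (1 : ℂ)).Separable :=
    Polynomial.separable_X_pow_sub_C _ (by exact_mod_cast hm.ne') one_ne_zero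
  have hae : Polynomial.aeval T (Polynomial.X ^ m - Polynomial.C (1 : ℂ)) = 0 := by
    simp [hT]
  exact (Module.End.isSemisimple_of_squarefree_aeval_eq_zero hsep.squarefree hae).iSup_eigenspace_eq_top

/-- A finite order operator on a complex vector space has an eigenbasis, with roots of unity as
eigenvalues. -/
theorem exists_eigenbasis (T : Module.End ℂ V) {m : ℕ} (hm : 0 < m) (hT : T ^ m = 1) :
    ∃ (b : Basis (Fin (finrank ℂ V)) ℂ V) (ω : Fin (finrank ℂ V) → ℂ),
      ∀ i, ω i ^ m = 1 ∧ T (b i) = ω i • b i := by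
  classical
  set S : Set V := {x | ∃ μ : ℂ, T x = μ • x} with hS
  have hspan : Submodule.span ℂ S = ⊤ := by
    rw [eq_top_iff, ← iSup_eigenspace_eq_top_of_pow_eq_one T hm hT]
    refine iSup_le fun μ => fun x hx => Submodule.subset_span ?_
    exact ⟨μ, Module.End.mem_eigenspace_iff.mp hx⟩
  obtain ⟨s, hsS, hsspan, hsli⟩ := exists_linearIndependent ℂ S
  have htop : ⊤ ≤ Submodule.span ℂ (Set.range ((↑) : s → V)) := by
    rw [Subtype.range_coe, hsspan, hspan]
  set b₀ : Basis s ℂ V := Basis.mk hsli htop with hb₀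
  have : Fintype s := FiniteDimensional.fintypeBasisIndex b₀
  have hcard : Fintype.card s = finrank ℂ V := (finrank_eq_card_basis b₀).symm
  let e : s ≃ Fin (finrank ℂ V) := Fintype.equivFinOfCardEq hcard
  let b := b₀.reindex e
  have hb : ∀ i, b i = ((e.symm i : s) : V) := fun i => by simp [b, hb₀]
  choose μ hμ using fun i : Fin (finrank ℂ V) => hsS (e.symm i).2
  refine ⟨b, μ, fun i => ?_⟩
  have hTb : T (b i) = μ i • b i := by rw [hb]; exact hμ i
  refine ⟨?_, hTb⟩
  have hpow : ∀ k : ℕ, (T ^ k) (b i) = μ i ^ k • b i := by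
    intro k
    induction k with
    | zero => simp
    | succ k ih => rw [pow_succ', Module.End.mul_apply, ih, map_smul, hTb, smul_smul, ← pow_succ]
  have h1 := hpow m
  rw [hT] at h1
  have h2 : (μ i ^ m - 1) • b i = 0 := by
    rw [sub_smul, one_smul, ← h1]; simp
  rcases smul_eq_zero.mp h2 with h | h
  · exact sub_eq_zero.mp h
  · exact absurd h (b.ne_zero i)

theorem trace_eq_sum_of_eigenbasis {ι : Type*} [Fintype ι] (b : Basis ι ℂ V) (ω : ι → ℂ)
    (T : Module.End ℂ V) (h : ∀ i, T (b i) = ω i • b i) :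
    LinearMap.trace ℂ V T = ∑ i, ω i := by
  classical
  rw [LinearMap.trace_eq_matrix_trace ℂ b]
  simp [Matrix.trace, Matrix.diag, LinearMap.toMatrix_apply, h]

theorem pow_apply_of_eigenbasis {ι : Type*} (b : Basis ι ℂ V) (ω : ι → ℂ)
    (T : Module.End ℂ V) (h : ∀ i, T (b i) = ω i • b i) (k : ℕ) (i : ι) :
    (T ^ k) (b i) = ω i ^ k • b i := by
  induction k with
  | zero => simp
  | succ k ih => rw [pow_succ', Module.End.mul_apply, ih, map_smul, h, smul_smul, ← pow_succ]

/-- The equality case of the triangle inequality for unit complex numbers. -/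
theorem eq_of_norm_sum_eq_card {ι : Type*} [Fintype ι] (ω : ι → ℂ) (h1 : ∀ i, ‖ω i‖ = 1)
    (h : ‖∑ i, ω i‖ = (Fintype.card ι : ℝ)) (i : ι) :
    ω i = (∑ j, ω j) / (Fintype.card ι : ℂ) := by
  set n : ℝ := (Fintype.card ι : ℝ)
  have hn : 0 < n := by
    have : 0 < Fintype.card ι := Fintype.card_pos_iff.mpr ⟨i⟩
    simp only [n]; exact_mod_cast this
  set c : ℂ := (∑ j, ω j) / (Fintype.card ι : ℂ) with hc
  have hnc : (Fintype.card ι : ℂ) = ((n : ℝ) : ℂ) := by simp [n]
  have hsum : ∑ j, ω j = ((n : ℝ) : ℂ) * c := by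
    rw [hc, hnc]; field_simp [Complex.ofReal_ne_zero.mpr hn.ne']
  have hc1 : ‖c‖ = 1 := by
    rw [hc, norm_div, h, Complex.norm_natCast, div_self hn.ne']
  have hcc : conj c * c = 1 := by
    rw [mul_comm, Complex.mul_conj, Complex.normSq_eq_norm_sq, hc1]; simp
  have hle : ∀ j, (conj c * ω j).re ≤ 1 := fun j => by
    refine (Complex.re_le_norm _).trans ?_
    rw [norm_mul, Complex.norm_conj, hc1, h1 j, mul_one]
  have htot : ∑ j, (conj c * ω j).re = ∑ _j : ι, (1 : ℝ) := by
    rw [← Complex.re_sum, ← Finset.mul_sum, hsum, mul_left_comm, hcc, mul_one]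
    simp [n]
  have hre := (Finset.sum_eq_sum_iff_of_le (fun j _ => hle j)).mp htot i (Finset.mem_univ i)
  have hn1 : ‖conj c * ω i‖ = 1 := by rw [norm_mul, Complex.norm_conj, hc1, h1 i, mul_one]
  have him : (conj c * ω i).im = 0 := by
    have h3 := Complex.sq_norm (conj c * ω i)
    rw [hn1, Complex.normSq_apply, hre] at h3
    nlinarith
  have hone : conj c * ω i = 1 := Complex.ext (by simpa using hre) (by simpa using him)
  calc ω i = (c * conj c) * ω i := by rw [mul_comm c, hcc, one_mul]
    _ = c * (conj c * ω i) := by ring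
    _ = c := by rw [hone, mul_one]

section Character

variable {G : Type u} [Group G] [Finite G] (ρ : Representation ℂ G V)

theorem rep_pow_card (g : G) : (ρ g) ^ Nat.card G = 1 := by
  rw [← map_pow, pow_card_eq_one', map_one]

/-- Each `ρ g` has an eigenbasis with roots of unity as eigenvalues; the trace of every power
of `g` is the corresponding power sum. -/
theorem exists_eigenvalues (g : G) :
    ∃ (b : Basis (Fin (finrank ℂ V)) ℂ V) (ω : Fin (finrank ℂ V) → ℂ),
      (∀ i, ω i ^ orderOf g = 1) ∧ (∀ i, ‖ω i‖ = 1) ∧ (∀ i, ρ g (b i) = ω i • b i) ∧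
      ∀ k : ℕ, ρ.character (g ^ k) = ∑ i, ω i ^ k := by
  have hpos : 0 < orderOf g := orderOf_pos g
  have hT : (ρ g) ^ orderOf g = 1 := by rw [← map_pow, pow_orderOf_eq_one, map_one]
  obtain ⟨b, ω, h⟩ := exists_eigenbasis (ρ g) hpos hT
  refine ⟨b, ω, fun i => (h i).1, fun i => Complex.norm_eq_one_of_pow_eq_one (h i).1 hpos.ne',
    fun i => (h i).2, fun k => ?_⟩
  unfold Representation.character
  rw [map_pow]
  exact trace_eq_sum_of_eigenbasis b _ _
    (fun i => pow_apply_of_eigenbasis b ω _ (fun j => (h j).2) k i)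

/-- `χ(g⁻¹) = conj (χ g)`. -/
theorem character_inv (g : G) : ρ.character g⁻¹ = conj (ρ.character g) := by
  obtain ⟨b, ω, hω, hn, hb, hk⟩ := exists_eigenvalues ρ g
  have hpos : 0 < orderOf g := orderOf_pos g
  have hinv : g⁻¹ = g ^ (orderOf g - 1) := by
    rw [inv_eq_iff_mul_eq_one, ← pow_succ', Nat.sub_add_cancel hpos, pow_orderOf_eq_one]
  have h1 : ρ.character g = ∑ i, ω i := by simpa using hk 1
  rw [hinv, hk, h1, map_sum]
  refine Finset.sum_congr rfl fun i _ => ?_
  have : ω i * ω i ^ (orderOf g - 1) = 1 := by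
    rw [← pow_succ', Nat.sub_add_cancel hpos, hω]
  rw [← Complex.inv_eq_conj (hn i)]
  exact eq_inv_of_mul_eq_one_right this

theorem norm_character_le (g : G) : ‖ρ.character g‖ ≤ (finrank ℂ V : ℝ) := by
  obtain ⟨b, ω, hω, hn, hb, hk⟩ := exists_eigenvalues ρ g
  have h1 : ρ.character g = ∑ i, ω i := by simpa using hk 1
  rw [h1]
  exact (norm_sum_le _ _).trans (by simp [hn])

theorem norm_character_eq_iff (g : G) :
    ‖ρ.character g‖ = (finrank ℂ V : ℝ) ↔ ∃ c : ℂ, ρ g = c • (LinearMap.id : V →ₗ[ℂ] V) := by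
  obtain ⟨b, ω, hω, hn, hb, hk⟩ := exists_eigenvalues ρ g
  have h1 : ρ.character g = ∑ i, ω i := by simpa using hk 1
  constructor
  · intro h
    rw [h1] at h
    refine ⟨(∑ j, ω j) / (finrank ℂ V : ℂ), b.ext fun i => ?_⟩
    rw [hb i, eq_of_norm_sum_eq_card ω hn (by simpa using h) i]
    simp
  · rintro ⟨c, hc⟩
    have hωc : ∀ i, ω i = c := fun i => by
      have h2 : ω i • b i = c • b i := by rw [← hb i, hc]; simp
      exact smul_left_injective ℂ (b.ne_zero i) h2
    rw [h1]
    by_cases hz : finrank ℂ V = 0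
    · have : IsEmpty (Fin (finrank ℂ V)) := by rw [hz]; infer_instance
      simp [hz]
    · have hc1 : ‖c‖ = 1 := hωc ⟨0, Nat.pos_of_ne_zero hz⟩ ▸ hn _
      simp [hωc, hc1]

theorem character_eq_finrank_iff (g : G) :
    ρ.character g = (finrank ℂ V : ℂ) ↔ ρ g = LinearMap.id := by
  constructor
  · intro h
    obtain ⟨b, ω, hω, hn, hb, hk⟩ := exists_eigenvalues ρ g
    have h1 : ρ.character g = ∑ i, ω i := by simpa using hk 1
    refine b.ext fun i => ?_
    have h2 := eq_of_norm_sum_eq_card ω hn (by rw [← h1, h]; simp) i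
    rw [← h1, h, Fintype.card_fin, div_self] at h2
    · rw [hb i, h2]; simp
    · exact_mod_cast (Fin.pos i).ne'
  · intro h
    simp [Representation.character, h, LinearMap.trace_id]

theorem isIntegral_character (g : G) : IsIntegral ℤ (ρ.character g) := by
  obtain ⟨b, ω, hω, hn, hb, hk⟩ := exists_eigenvalues ρ g
  have h1 : ρ.character g = ∑ i, ω i := by simpa using hk 1
  rw [h1]
  refine IsIntegral.sum _ fun i _ => IsIntegral.of_pow (orderOf_pos g) ?_
  rw [hω i]
  exact isIntegral_one

end Character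

end Cfsg.Agent.CharCore
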