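import Mathlib.RepresentationTheory.Character
import Mathlib.RepresentationTheory.Semisimple
import Mathlib.RepresentationTheory.Maschke
import Mathlib.LinearAlgebra.Projection
import Mathlib.LinearAlgebra.Trace
import Cfsg.Prelude.Def_Characters
import Cfsg.Agent.Lib.CharCore.Eigen

/-!
# Bridge between representations and characters; induction on subrepresentations

Library `CharCore`, part 2.
-/

set_option autoImplicit false
set_option linter.unusedSectionVars false

open Module
open scoped ComplexConjugate

namespace Cfsg.Agent.CharCore

universe u v w

variable {G : Type u} [Group G]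
variable {V : Type v} [AddCommGroup V] [Module ℂ V]
variable {W : Type w} [AddCommGroup W] [Module ℂ W]

/-- Transport of a representation along a linear equivalence. -/
noncomputable def transport (ρ : Representation ℂ G V) (e : V ≃ₗ[ℂ] W) : Representation ℂ G W where
  toFun g := e.conj (ρ g)
  map_one' := by ext; simp [LinearEquiv.conj_apply]
  map_mul' g h := by ext; simp [LinearEquiv.conj_apply]

/-- A representation is equivalent to any of its transports. -/
noncomputable def transportEquiv (ρ : Representation ℂ G V) (e : V ≃ₗ[ℂ] W) :
    ρ.Equiv (transport ρ e) :=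
  Representation.Equiv.mk e fun g => by ext; simp [transport, LinearEquiv.conj_apply]

/-- An equivalent representation of an irreducible one is irreducible. -/
theorem isIrreducible_of_equiv {ρ : Representation ℂ G V} {σ : Representation ℂ G W}
    (φ : ρ.Equiv σ) (h : ρ.IsIrreducible) : σ.IsIrreducible := by
  let pull : Subrepresentation σ → Subrepresentation ρ := fun S =>
    { toSubmodule := S.toSubmodule.comap φ.toLinearEquiv.toLinearMap
      apply_mem_toSubmodule := fun g v hv => by
        simp only [Submodule.mem_comap] at hv ⊢
        have h1 := congr($(φ.toIntertwiningMap.2 g) v)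
        simp only [LinearMap.comp_apply] at h1
        have h2 := S.apply_mem_toSubmodule g hv
        convert h2 using 1 }
  have hinj : ∀ S T : Subrepresentation σ, (pull S).toSubmodule = (pull T).toSubmodule → S = T :=
    fun S T he => Subrepresentation.toSubmodule_injective
      (Submodule.comap_injective_of_surjective φ.toLinearEquiv.surjective he)
  have hbot : ∀ x : Subrepresentation ρ, x = ⊥ ∨ x = ⊤ := IsSimpleOrder.eq_bot_or_eq_top
  refine { exists_pair_ne := ⟨⊥, ⊤, fun he => ?_⟩, eq_bot_or_eq_top := fun S => ?_ }
  · have hne : (⊥ : Subrepresentation ρ) ≠ ⊤ := bot_ne_top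
    apply hne
    apply Subrepresentation.toSubmodule_injective
    have := congrArg (fun S => (pull S).toSubmodule) he
    have h1 : (pull ⊥).toSubmodule = ⊥ := LinearMap.ker_eq_bot.mpr φ.toLinearEquiv.injective
    have h2 : (pull ⊤).toSubmodule = ⊤ := rfl
    rw [h1, h2] at this
    exact this
  · rcases hbot (pull S) with hS | hS
    · left
      apply hinj
      rw [hS]
      exact (LinearMap.ker_eq_bot.mpr φ.toLinearEquiv.injective).symm
    · right
      apply hinj
      rw [hS]
      rfl

section Bridge

variable [FiniteDimensional ℂ V]

/-- The trace function of any finite-dimensional complex representation is a character. -/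
theorem isCharacter_character (ρ : Representation ℂ G V) : Cfsg.IsCharacter G ρ.character :=
  ⟨finrank ℂ V, transport ρ (Module.finBasis ℂ V).equivFun,
    (Representation.char_iso (transportEquiv ρ _)).symm⟩

/-- The trace function of an irreducible complex representation is an irreducible character. -/
theorem isIrrCharacter_character (ρ : Representation ℂ G V) [hρ : ρ.IsIrreducible] :
    Cfsg.IsIrrCharacter G ρ.character :=
  ⟨finrank ℂ V, transport ρ (Module.finBasis ℂ V).equivFun,
    isIrreducible_of_equiv (transportEquiv ρ _) hρ,
    (Representation.char_iso (transportEquiv ρ _)).symm⟩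

/-- A representation space of an irreducible representation has positive dimension. -/
theorem finrank_pos_of_irreducible (ρ : Representation ℂ G V) [ρ.IsIrreducible] :
    0 < finrank ℂ V := by
  by_contra h
  have hz : finrank ℂ V = 0 := by omega
  have : Subsingleton V := finrank_zero_iff.mp hz
  have hne : (⊥ : Subrepresentation ρ) ≠ ⊤ := bot_ne_top
  exact hne (Subrepresentation.toSubmodule_injective (Subsingleton.elim _ _))

/-- The restriction of a representation to the two halves of a complemented pair of
subrepresentations has the same character. -/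
theorem character_eq_add_of_isCompl (ρ : Representation ℂ G V) (S T : Subrepresentation ρ)
    (h : IsCompl S.toSubmodule T.toSubmodule) :
    ρ.character = S.toRepresentation.character + T.toRepresentation.character := by
  funext g
  let e := Submodule.prodEquivOfIsCompl S.toSubmodule T.toSubmodule h
  have hconj : e.conj ((S.toRepresentation g).prodMap (T.toRepresentation g)) = ρ g := by
    refine LinearMap.ext fun v => ?_
    obtain ⟨⟨a, b⟩, rfl⟩ := e.surjective v
    simp [LinearEquiv.conj_apply, e, Subrepresentation.toRepresentation, map_add]
  calc ρ.character g = LinearMap.trace ℂ V (ρ g) := rfl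
    _ = LinearMap.trace ℂ _ ((S.toRepresentation g).prodMap (T.toRepresentation g)) := by
        rw [← hconj, LinearMap.trace_conj']
    _ = _ := by rw [LinearMap.trace_prodMap']; rfl

theorem isCompl_toSubmodule {ρ : Representation ℂ G V} {S T : Subrepresentation ρ}
    (h : IsCompl S T) : IsCompl S.toSubmodule T.toSubmodule :=
  IsCompl.of_eq (congrArg Subrepresentation.toSubmodule h.inf_eq_bot)
    (congrArg Subrepresentation.toSubmodule h.sup_eq_top)

end Bridge

variable [Finite G]

/-- Maschke: every subrepresentation has a complement. -/
theorem exists_isCompl_subrep (ρ : Representation ℂ G V) (S : Subrepresentation ρ) :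
    ∃ T : Subrepresentation ρ, IsCompl S T :=
  have : NeZero (Nat.card G : ℂ) := ⟨by exact_mod_cast Nat.card_pos.ne'⟩
  exists_isCompl S

/-- Induction principle for finite-dimensional representations of a finite group over `ℂ`. -/
theorem rep_induction
    {motive : ∀ (V : Type v) [AddCommGroup V] [Module ℂ V], Representation ℂ G V → Prop}
    (zero : ∀ (V : Type v) [AddCommGroup V] [Module ℂ V] [FiniteDimensional ℂ V]
      (ρ : Representation ℂ G V), Subsingleton V → motive V ρ)
    (irreducible : ∀ (V : Type v) [AddCommGroup V] [Module ℂ V] [FiniteDimensional ℂ V]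
      (ρ : Representation ℂ G V), ρ.IsIrreducible → motive V ρ)
    (sum : ∀ (V : Type v) [AddCommGroup V] [Module ℂ V] [FiniteDimensional ℂ V]
      (ρ : Representation ℂ G V) (S T : Subrepresentation ρ),
      IsCompl S.toSubmodule T.toSubmodule → S.toSubmodule ≠ ⊥ → T.toSubmodule ≠ ⊥ →
      motive S.toSubmodule S.toRepresentation → motive T.toSubmodule T.toRepresentation →
      motive V ρ)
    (V : Type v) [AddCommGroup V] [Module ℂ V] [FiniteDimensional ℂ V]
    (ρ : Representation ℂ G V) : motive V ρ := by
  suffices H : ∀ (n : ℕ) (V : Type v) [AddCommGroup V] [Module ℂ V] [FiniteDimensional ℂ V]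
      (ρ : Representation ℂ G V), finrank ℂ V = n → motive V ρ from H _ V ρ rfl
  intro n
  induction n using Nat.strong_induction_on with
  | _ n ih =>
    intro V _ _ _ ρ hn
    by_cases hirr : ρ.IsIrreducible
    · exact irreducible V ρ hirr
    by_cases hsub : Subsingleton V
    · exact zero V ρ hsub
    have hne : (⊥ : Subrepresentation ρ) ≠ ⊤ := fun he => hsub <| by
      have h' : (⊥ : Submodule ℂ V) = ⊤ := congrArg Subrepresentation.toSubmodule he
      exact (Submodule.subsingleton_iff ℂ).mp (subsingleton_of_bot_eq_top h')
    have hex : ∃ S : Subrepresentation ρ, S ≠ ⊥ ∧ S ≠ ⊤ := by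
      by_contra hc
      push Not at hc
      exact hirr { exists_pair_ne := ⟨⊥, ⊤, hne⟩, eq_bot_or_eq_top := fun S =>
        (em (S = ⊥)).imp_right (hc S) }
    obtain ⟨S, hS0, hS1⟩ := hex
    obtain ⟨T, hST⟩ := exists_isCompl_subrep ρ S
    have hT0 : T ≠ ⊥ := by rintro rfl; exact hS1 (by simpa using hST.sup_eq_top)
    have hT1 : T ≠ ⊤ := by rintro rfl; exact hS0 (by simpa using hST.inf_eq_bot)
    have hs : ∀ U : Subrepresentation ρ, U ≠ ⊤ → finrank ℂ U.toSubmodule < n := fun U hU => by
      rw [← hn]
      exact Submodule.finrank_lt (fun he => hU (Subrepresentation.toSubmodule_injective he))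
    exact sum V ρ S T (isCompl_toSubmodule hST)
      (fun he => hS0 (Subrepresentation.toSubmodule_injective he))
      (fun he => hT0 (Subrepresentation.toSubmodule_injective he))
      (ih _ (hs S hS1) _ _ rfl) (ih _ (hs T hT1) _ _ rfl)

end Cfsg.Agent.CharCore
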