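import Cfsg.Agent.Lib.CharCore.Complete
import Cfsg.Agent.BC85.Contribution
import Cfsg.Agent.Lib.BlocksDefect.Induced
import Cfsg.Agent.S0923

/-!
# Blocks on a `p`-section

Second main theorem plus column orthogonality: on the section of a `p`-element `x`, the members of
a block `B` pair like the members of the blocks of `C(x)` inducing `B`.

Library `CharCore`, part 22.
-/

set_option autoImplicit false
set_option linter.unusedSectionVars false

open scoped ComplexConjugate

namespace Cfsg.Agent.CharCore.BlockSections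

open Cfsg.Agent.CharCore

universe u

section Single

variable {C : Type u} [Group C] [Fintype C]

/-- The part of a function on a set of irreducible characters, as a finite sum. -/
theorem blockPart_eq_sum [DecidableEq (Cfsg.IrrCharacter C)] (A : Set (Cfsg.IrrCharacter C))
    [DecidablePred (· ∈ A)] (f : C → ℂ) (s : C) :
    Cfsg.blockPart A f s = ∑ θ ∈ Finset.univ.filter (· ∈ A),
      Cfsg.classInner f (θ : C → ℂ) * (θ : C → ℂ) s := by
  rw [Cfsg.blockPart, finsum_mem_eq_finite_toFinset_sum _ (Set.toFinite A)]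
  refine Finset.sum_congr (Finset.ext fun θ => by simp) fun θ _ => ?_
  congr 2
  exact Subsingleton.elim _ _

theorem blockPart_congr_regular {p : ℕ} [Fact p.Prime] {M : Ideal Cfsg.AlgInt}
    (hM : Cfsg.IsPModular p M) {b : Set (Cfsg.IrrCharacter C)} (hb : Cfsg.IsPBlock M b)
    {f g : C → ℂ} (h : ∀ c, ¬ p ∣ orderOf c → f c = g c) {s : C} (hs : ¬ p ∣ orderOf s) :
    Cfsg.blockPart b f s = Cfsg.blockPart b g s := by
  classical
  rw [blockPart_eq_sum, blockPart_eq_sum]
  simp only [classInner_def, Finset.mul_sum, Finset.sum_mul]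
  rw [Finset.sum_comm]
  conv_rhs => rw [Finset.sum_comm]
  refine Finset.sum_congr rfl fun u _ => ?_
  by_cases hu : p ∣ orderOf u
  · have h0 := BlocksCore.weakOrth hM hb hs hu
    rw [finsum_mem_eq_finite_toFinset_sum _ (Set.toFinite b)] at h0
    have h1 : ∀ a : ℂ, ∑ θ ∈ Finset.univ.filter (· ∈ b),
        (Nat.card C : ℂ)⁻¹ * (a * conj ((θ : C → ℂ) u)) * (θ : C → ℂ) s = 0 := by
      intro a
      calc _ = (Nat.card C : ℂ)⁻¹ * a * ∑ θ ∈ (Set.toFinite b).toFinset,
            (θ : C → ℂ) s * conj ((θ : C → ℂ) u) := by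
            rw [Finset.mul_sum]
            exact Finset.sum_congr (Finset.ext fun θ => by simp) fun θ _ => by ring
        _ = 0 := by rw [h0, mul_zero]
    rw [h1, h1]
  · rw [h u hu]

theorem mul_blockRank {p : ℕ} [Fact p.Prime] {M : Ideal Cfsg.AlgInt}
    (hM : Cfsg.IsPModular p M) {b : Set (Cfsg.IrrCharacter C)} (hb : Cfsg.IsPBlock M b)
    [DecidablePred (· ∈ b)] :
    (Nat.card C : ℂ) * (Cfsg.blockRank p b : ℂ) =
      ∑ s ∈ Finset.univ.filter (fun s : C => ¬ p ∣ orderOf s),
        ∑ θ ∈ Finset.univ.filter (· ∈ b), (θ : C → ℂ) s * conj ((θ : C → ℂ) s) := by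
  classical
  have := Fintype.ofFinite b
  rw [BC85.blockRank_eq_sum hM hb, Finset.mul_sum, Finset.sum_comm,
    Finset.sum_subtype (Finset.univ.filter (· ∈ b)) (p := fun θ => θ ∈ b) (fun θ => by simp)]
  refine Finset.sum_congr rfl fun θ _ => ?_
  rw [BC85.prj_def, classInner_def, ← mul_assoc,
    mul_inv_cancel₀ (Nat.cast_ne_zero.mpr Nat.card_pos.ne'), one_mul, Finset.sum_filter]
  refine Finset.sum_congr rfl fun s _ => ?_
  by_cases hs : p ∣ orderOf s
  · rw [if_neg (not_not.mpr hs), BC85.pRegularPart_neg hs, zero_mul]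
  · rw [if_pos hs, BC85.pRegularPart_pos hs]

end Single

section Section

variable {G : Type u} [Group G] [Fintype G] {p : ℕ} [Fact p.Prime] {M : Ideal Cfsg.AlgInt}

theorem eq_of_induced [M.IsPrime] {H : Subgroup G} {b : Set (Cfsg.IrrCharacter H)}
    {B B' : Set (Cfsg.IrrCharacter G)} (h : Cfsg.IsInducedBlock M H b B)
    (h' : Cfsg.IsInducedBlock M H b B') : B = B' := by
  obtain ⟨ξ, hξ⟩ := BlocksCore.isPBlock_nonempty h.1
  obtain ⟨χ, hχ⟩ := BlocksCore.isPBlock_nonempty h.2.1
  obtain ⟨ψ, hψ⟩ := BlocksCore.isPBlock_nonempty h'.2.1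
  refine BlocksCore.isPBlock_eq_of_mem h.2.1 h'.2.1 hχ ?_
  rw [BlocksCore.isPBlock_eq_blockOf h'.2.1 hψ]
  refine BlocksCore.sameBlock_symm fun g => ?_
  have := BlocksCore.memLocalIdeal_sub (h'.2.2 ξ hξ ψ hψ g) (h.2.2 ξ hξ χ hχ g)
  rwa [sub_sub_sub_cancel_left] at this

variable {x : G}

theorem pPart_mul (hx : ∃ k : ℕ, orderOf x = p ^ k) (c : Subgroup.centralizer ({x} : Set G))
    (hc : ¬ p ∣ orderOf c) : Cfsg.IsPPart p (x * (c : G)) x :=
  ⟨c, rfl, (Subgroup.mem_centralizer_singleton_iff.mp c.2).symm, hx, by rwa [Subgroup.orderOf_coe]⟩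

theorem fixes_of_conj (hp : p.Prime) (hx : ∃ k : ℕ, orderOf x = p ^ k)
    {s t : Subgroup.centralizer ({x} : Set G)} (hs : ¬ p ∣ orderOf s) (ht : ¬ p ∣ orderOf t)
    {g : G} (h : g * (x * (s : G)) * g⁻¹ = x * t) :
    g ∈ Subgroup.centralizer ({x} : Set G) ∧ g * (s : G) * g⁻¹ = t := by
  have h1 := BlocksCore.isPPart_conj (pPart_mul hx s hs) g
  rw [h] at h1
  have h2 : g * x * g⁻¹ = x := BlocksCore.isPPart_unique hp h1 (pPart_mul hx t ht)
  refine ⟨Subgroup.mem_centralizer_singleton_iff.mpr (mul_inv_eq_iff_eq_mul.mp h2), ?_⟩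
  rw [show g * (x * (s : G)) * g⁻¹ = g * x * g⁻¹ * (g * s * g⁻¹) by group, h2] at h
  exact mul_left_cancel h

/-- Column orthogonality on a section is column orthogonality of the centralizer. -/
theorem sum_section_eq (hp : p.Prime) (hx : ∃ k : ℕ, orderOf x = p ^ k)
    (s t : Subgroup.centralizer ({x} : Set G)) (hs : ¬ p ∣ orderOf s) (ht : ¬ p ∣ orderOf t)
    [Fintype (Subgroup.centralizer ({x} : Set G))] :
    ∑ χ : Cfsg.IrrCharacter G, (χ : G → ℂ) (x * s) * conj ((χ : G → ℂ) (x * t)) =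
      ∑ θ : Cfsg.IrrCharacter (Subgroup.centralizer ({x} : Set G)),
        (θ : Subgroup.centralizer ({x} : Set G) → ℂ) s *
          conj ((θ : Subgroup.centralizer ({x} : Set G) → ℂ) t) := by
  classical
  rw [sum_apply_mul_conj, sum_apply_mul_conj]
  have hiff : IsConj (x * (s : G)) (x * t) ↔ IsConj s t := by
    constructor
    · intro h
      obtain ⟨g, hg⟩ := isConj_iff.mp h
      obtain ⟨h1, h2⟩ := fixes_of_conj hp hx hs ht hg
      exact isConj_iff.mpr ⟨⟨g, h1⟩, Subtype.ext h2⟩
    · intro h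
      obtain ⟨⟨g, hg⟩, hgs⟩ := isConj_iff.mp h
      refine isConj_iff.mpr ⟨g, ?_⟩
      have h2 : g * (s : G) * g⁻¹ = t := congrArg Subtype.val hgs
      rw [show g * (x * (s : G)) * g⁻¹ = g * x * g⁻¹ * (g * s * g⁻¹) by group, h2,
        Subgroup.mem_centralizer_singleton_iff.mp hg, mul_inv_cancel_right]
  simp only [hiff]
  split_ifs with h
  · congr 1
    refine Nat.card_congr (Equiv.ofBijective (fun g => ⟨⟨(g : G), ?_⟩, ?_⟩) ⟨?_, ?_⟩)
    · exact (fixes_of_conj hp hx hs hs (g := (g : G)) (by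
        rw [Subgroup.mem_centralizer_singleton_iff.mp g.2, mul_inv_cancel_right])).1
    · refine Subgroup.mem_centralizer_singleton_iff.mpr (Subtype.ext ?_)
      have h2 := (fixes_of_conj hp hx hs hs (g := (g : G)) (by
        rw [Subgroup.mem_centralizer_singleton_iff.mp g.2, mul_inv_cancel_right])).2
      exact mul_inv_eq_iff_eq_mul.mp h2
    · exact fun a b hab => Subtype.ext
        (congrArg (fun z : Subgroup.centralizer
          ({s} : Set (Subgroup.centralizer ({x} : Set G))) => (((z : Subgroup.centralizer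
            ({x} : Set G))) : G)) hab :)
    · rintro ⟨⟨g, hg⟩, hgs⟩
      refine ⟨⟨g, Subgroup.mem_centralizer_singleton_iff.mpr ?_⟩, rfl⟩
      have h2 : g * (s : G) = s * g :=
        congrArg Subtype.val (Subgroup.mem_centralizer_singleton_iff.mp hgs)
      rw [← mul_assoc, Subgroup.mem_centralizer_singleton_iff.mp hg, mul_assoc, h2, ← mul_assoc]
  · rfl

variable [Fintype (Subgroup.centralizer ({x} : Set G))]

theorem isClassFunction_translate (χ : Cfsg.IrrCharacter G) :
    Cfsg.IsClassFunction (Subgroup.centralizer ({x} : Set G))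
      (fun c => (χ : G → ℂ) (x * (c : G))) := by
  intro c d
  show (χ : G → ℂ) _ = (χ : G → ℂ) _
  have hd : (d : G) * x = x * d := Subgroup.mem_centralizer_singleton_iff.mp d.2
  rw [← irr_isClassFunction χ (x * (c : G)) (d : G)]
  push_cast
  refine congrArg (χ : G → ℂ) ?_
  calc x * ((d : G) * c * (d : G)⁻¹) = (x * d) * c * (d : G)⁻¹ := by group
    _ = _ := by rw [← hd, mul_assoc (d : G) x]

/-- The blocks of the centralizer that induce `B`, as a set of characters. -/
def inducing (M : Ideal Cfsg.AlgInt) (x : G) (B : Set (Cfsg.IrrCharacter G)) :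
    Set (Cfsg.IrrCharacter (Subgroup.centralizer ({x} : Set G))) :=
  {θ | Cfsg.IsInducedBlock M (Subgroup.centralizer ({x} : Set G))
    (Cfsg.blockOf M (θ : Subgroup.centralizer ({x} : Set G) → ℂ)) B}

theorem blockPart_inducing [DecidableEq (Cfsg.IrrCharacter (Subgroup.centralizer ({x} : Set G)))]
    (hM : Cfsg.IsPModular p M) (hx : ∃ k : ℕ, orderOf x = p ^ k)
    {B : Set (Cfsg.IrrCharacter G)} (hB : Cfsg.IsPBlock M B) (χ : Cfsg.IrrCharacter G)
    [Decidable (χ ∈ B)] {s : Subgroup.centralizer ({x} : Set G)} (hs : ¬ p ∣ orderOf s) :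
    Cfsg.blockPart (inducing M x B) (fun c => (χ : G → ℂ) (x * (c : G))) s =
      if χ ∈ B then (χ : G → ℂ) (x * s) else 0 := by
  classical
  have := BlocksCore.isPrime hM
  set h : Subgroup.centralizer ({x} : Set G) → ℂ := fun c => (χ : G → ℂ) (x * (c : G))
  set g := fun θ : Cfsg.IrrCharacter (Subgroup.centralizer ({x} : Set G)) =>
    Cfsg.classInner h (θ : Subgroup.centralizer ({x} : Set G) → ℂ) *
      (θ : Subgroup.centralizer ({x} : Set G) → ℂ) s
  have key : ∀ (A : Finset (Cfsg.IrrCharacter (Subgroup.centralizer ({x} : Set G))))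
      (B' : Set (Cfsg.IrrCharacter G)), Cfsg.IsPBlock M B' → χ ∈ B' →
      (∀ θ ∈ A, Cfsg.blockOf M (θ : Subgroup.centralizer ({x} : Set G) → ℂ) ⊆ (A : Set _)) →
      (∀ θ ∈ A, ¬ Cfsg.IsInducedBlock M (Subgroup.centralizer ({x} : Set G))
        (Cfsg.blockOf M (θ : Subgroup.centralizer ({x} : Set G) → ℂ)) B') →
      ∑ θ ∈ A, g θ = 0 := by
    intro A B' hB' hχ hA hA'
    rw [← Finset.sum_fiberwise_of_maps_to (t := A.image fun θ : Cfsg.IrrCharacter (Subgroup.centralizer ({x} : Set G)) =>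
      Cfsg.blockOf M (θ : Subgroup.centralizer ({x} : Set G) → ℂ))
      (fun θ hθ => Finset.mem_image_of_mem _ hθ)]
    refine Finset.sum_eq_zero fun b hb => ?_
    obtain ⟨θ, hθ, rfl⟩ := Finset.mem_image.mp hb
    have h0 := S0923.result p M hM x hx B' hB' χ hχ _ (BlocksCore.isPBlock_blockOf θ) (hA' θ hθ) s hs
    rw [blockPart_eq_sum] at h0
    refine Eq.trans (Finset.sum_congr (Finset.ext fun η => ?_) fun η _ => rfl) h0
    simp only [Finset.mem_filter, Finset.mem_univ, true_and]
    refine ⟨fun he => he.2 ▸ BlocksCore.mem_blockOf_self η, fun hη => ⟨hA θ hθ hη, ?_⟩⟩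
    exact (BlocksCore.blockOf_eq_of_sameBlock hη).symm
  have hcl : ∀ θ η : Cfsg.IrrCharacter (Subgroup.centralizer ({x} : Set G)),
      η ∈ Cfsg.blockOf M (θ : Subgroup.centralizer ({x} : Set G) → ℂ) →
      (θ ∈ inducing M x B ↔ η ∈ inducing M x B) := fun θ η hη => by
    show Cfsg.IsInducedBlock M _ _ B ↔ Cfsg.IsInducedBlock M _ _ B
    rw [BlocksCore.blockOf_eq_of_sameBlock hη]
  rw [blockPart_eq_sum]
  show ∑ θ ∈ Finset.univ.filter (· ∈ inducing M x B), g θ = _
  split_ifs with hχ
  · have htot : ∑ θ, g θ = h s := by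
      have := congrFun (eq_sum_classInner (isClassFunction_translate (x := x) χ)) s
      rw [Finset.sum_apply] at this
      exact this.symm.trans rfl
    have hrest : ∑ θ ∈ Finset.univ.filter (· ∉ inducing M x B), g θ = 0 := by
      refine key _ B hB hχ (fun θ hθ η hη => ?_) fun θ hθ hind => ?_
      · simpa [← hcl θ η hη] using hθ
      · exact (Finset.mem_filter.mp hθ).2 hind
    rw [← Finset.sum_filter_add_sum_filter_not Finset.univ (· ∈ inducing M x B), hrest, add_zero]
      at htot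
    exact htot
  · refine key _ _ (BlocksCore.isPBlock_blockOf χ) (BlocksCore.mem_blockOf_self χ)
      (fun θ hθ η hη => ?_) fun θ hθ hind => hχ ?_
    · simpa [← hcl θ η hη] using hθ
    · rw [eq_of_induced (Finset.mem_filter.mp hθ).2 hind]
      exact BlocksCore.mem_blockOf_self χ

/-- The pairing of a block on a section. -/
theorem sum_block_section (hM : Cfsg.IsPModular p M) (hx : ∃ k : ℕ, orderOf x = p ^ k)
    {B : Set (Cfsg.IrrCharacter G)} (hB : Cfsg.IsPBlock M B) [DecidablePred (· ∈ B)]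
    [DecidablePred (· ∈ inducing M x B)]
    {s t : Subgroup.centralizer ({x} : Set G)} (hs : ¬ p ∣ orderOf s) (ht : ¬ p ∣ orderOf t) :
    ∑ χ ∈ Finset.univ.filter (· ∈ B), (χ : G → ℂ) (x * s) * conj ((χ : G → ℂ) (x * t)) =
      ∑ θ ∈ Finset.univ.filter (· ∈ inducing M x B),
        (θ : Subgroup.centralizer ({x} : Set G) → ℂ) s *
          conj ((θ : Subgroup.centralizer ({x} : Set G) → ℂ) t) := by
  classical
  have := BlocksCore.isPrime hM
  let F : Subgroup.centralizer ({x} : Set G) → ℂ := fun c =>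
    ∑ χ : Cfsg.IrrCharacter G, (χ : G → ℂ) (x * c) * conj ((χ : G → ℂ) (x * t))
  let Gt : Subgroup.centralizer ({x} : Set G) → ℂ := fun c =>
    ∑ θ : Cfsg.IrrCharacter (Subgroup.centralizer ({x} : Set G)),
      (θ : Subgroup.centralizer ({x} : Set G) → ℂ) c *
        conj ((θ : Subgroup.centralizer ({x} : Set G) → ℂ) t)
  have hFG : ∀ c, ¬ p ∣ orderOf c → F c = Gt c := fun c hc => sum_section_eq hM.1 hx c t hc ht
  have hlin : ∀ A : Set (Cfsg.IrrCharacter (Subgroup.centralizer ({x} : Set G))),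
      Cfsg.blockPart A F s = ∑ χ : Cfsg.IrrCharacter G,
        Cfsg.blockPart A (fun c => (χ : G → ℂ) (x * (c : G))) s * conj ((χ : G → ℂ) (x * t)) := by
    intro A
    have hF : F = ∑ χ : Cfsg.IrrCharacter G,
        conj ((χ : G → ℂ) (x * t)) • fun c : Subgroup.centralizer ({x} : Set G) =>
          (χ : G → ℂ) (x * c) := by
      funext c
      simp only [F, Finset.sum_apply, Pi.smul_apply, smul_eq_mul, mul_comm]
    simp only [blockPart_eq_sum, hF, classInner_sum_left, classInner_smul_left, Finset.sum_mul]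
    rw [Finset.sum_comm]
    exact Finset.sum_congr rfl fun χ _ => Finset.sum_congr rfl fun θ _ => by ring
  have h1 : Cfsg.blockPart (inducing M x B) F s =
      ∑ χ ∈ Finset.univ.filter (· ∈ B), (χ : G → ℂ) (x * s) * conj ((χ : G → ℂ) (x * t)) := by
    rw [hlin, Finset.sum_filter]
    refine Finset.sum_congr rfl fun χ _ => ?_
    rw [blockPart_inducing hM hx hB χ hs]
    split_ifs <;> simp
  have h2 : Cfsg.blockPart (inducing M x B) Gt s =
      ∑ θ ∈ Finset.univ.filter (· ∈ inducing M x B),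
        (θ : Subgroup.centralizer ({x} : Set G) → ℂ) s *
          conj ((θ : Subgroup.centralizer ({x} : Set G) → ℂ) t) := by
    rw [blockPart_eq_sum]
    refine Finset.sum_congr rfl fun θ _ => ?_
    have hG : Gt = ∑ η : Cfsg.IrrCharacter (Subgroup.centralizer ({x} : Set G)),
        conj ((η : Subgroup.centralizer ({x} : Set G) → ℂ) t) •
          (η : Subgroup.centralizer ({x} : Set G) → ℂ) := by
      funext c
      simp only [Gt, Finset.sum_apply, Pi.smul_apply, smul_eq_mul, mul_comm]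
    rw [hG, classInner_sum_all, mul_comm]
  rw [← h1, ← h2, blockPart_eq_sum, blockPart_eq_sum]
  rw [← Finset.sum_fiberwise_of_maps_to (t := (Finset.univ.filter (· ∈ inducing M x B)).image
    fun θ : Cfsg.IrrCharacter (Subgroup.centralizer ({x} : Set G)) => Cfsg.blockOf M (θ : Subgroup.centralizer ({x} : Set G) → ℂ))
    (fun θ hθ => Finset.mem_image_of_mem _ hθ)]
  conv_rhs => rw [← Finset.sum_fiberwise_of_maps_to
    (t := (Finset.univ.filter (· ∈ inducing M x B)).image
      fun θ : Cfsg.IrrCharacter (Subgroup.centralizer ({x} : Set G)) => Cfsg.blockOf M (θ : Subgroup.centralizer ({x} : Set G) → ℂ))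
    (fun θ hθ => Finset.mem_image_of_mem _ hθ)]
  refine Finset.sum_congr rfl fun b hb => ?_
  obtain ⟨θ, hθ, rfl⟩ := Finset.mem_image.mp hb
  have hset : (Finset.univ.filter (· ∈ inducing M x B)).filter
      (fun η : Cfsg.IrrCharacter (Subgroup.centralizer ({x} : Set G)) =>
        Cfsg.blockOf M (η : Subgroup.centralizer ({x} : Set G) → ℂ) =
          Cfsg.blockOf M (θ : Subgroup.centralizer ({x} : Set G) → ℂ)) =
      Finset.univ.filter (· ∈ Cfsg.blockOf M (θ : Subgroup.centralizer ({x} : Set G) → ℂ)) := by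
    ext η
    simp only [Finset.mem_filter, Finset.mem_univ, true_and]
    refine ⟨fun he => he.2 ▸ BlocksCore.mem_blockOf_self η, fun hη => ?_⟩
    have he := BlocksCore.blockOf_eq_of_sameBlock hη
    refine ⟨?_, he.symm⟩
    show Cfsg.IsInducedBlock M _ _ B
    rw [← he]
    exact (Finset.mem_filter.mp hθ).2
  rw [hset, ← blockPart_eq_sum, ← blockPart_eq_sum]
  exact blockPart_congr_regular hM (BlocksCore.isPBlock_blockOf θ) hFG hs

end Section

end Cfsg.Agent.CharCore.BlockSections
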