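import Cfsg.Agent.Lib.CharCore.CyclicDegree
import Cfsg.Agent.Lib.Coprime.Generation
import Cfsg.Agent.Lib.Thompson.QuadApply
import Cfsg.Agent.S0016
import Mathlib.GroupTheory.SpecificGroups.Quaternion

/-!
# A TI Sylow subgroup of a `p`-solvable group with a small faithful character is normal

Library `CharCore`, part 21.
-/

set_option autoImplicit false
set_option linter.unusedSectionVars false

open scoped Pointwise

namespace Cfsg.Agent.CharCore

universe u

theorem subgroup_eq_of_card_eq_of_isCyclic {A : Type*} [Group A] [Finite A] [IsCyclic A] {n : ℕ}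
    {H K : Subgroup A} (hH : Nat.card H = n) (hK : Nat.card K = n) : H = K := by
  classical
  have := Fintype.ofFinite A
  let _ := IsCyclic.commGroup (α := A)
  have key : ∀ L : Subgroup A, Nat.card L = n →
      (L : Set A).toFinset = Finset.univ.filter fun a => a ^ n = 1 := by
    intro L hL
    refine Finset.eq_of_subset_of_card_le (fun a ha => ?_) ?_
    · rw [Set.mem_toFinset] at ha
      refine Finset.mem_filter.mpr ⟨Finset.mem_univ _, ?_⟩
      rw [← hL]
      exact congrArg Subtype.val (pow_card_eq_one' (G := L) (x := ⟨a, ha⟩))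
    · refine (IsCyclic.card_pow_eq_one_le (hL ▸ Nat.card_pos)).trans ?_
      rw [← hL, Set.toFinset_card, Nat.card_eq_fintype_card]
      rfl
  exact SetLike.coe_injective (Set.toFinset_inj.mp ((key H hH).trans (key K hK).symm))

theorem normal_of_ti_of_small_degree {G : Type u} [Group G] [Finite G] (p : ℕ) [hp : Fact p.Prime]
    (hsolv : Cfsg.IsPSolvable p G) (P : Sylow p G)
    (hTI : ∀ g : G, g ∉ Subgroup.normalizer ((P : Subgroup G) : Set G) →
      (P : Subgroup G) ⊓ (MulAut.conj g • (P : Subgroup G)) = ⊥)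
    (χ : G → ℂ) (hχ : Cfsg.IsCharacter G χ) (hfaith : ∀ g : G, χ g = χ 1 → g = 1)
    (hdeg : Cfsg.charDegree χ ^ 2 ≤ Nat.card ↥(P : Subgroup G)) : (P : Subgroup G).Normal := by
  classical
  set N := Subgroup.normalizer ((P : Subgroup G) : Set G) with hN
  have hN' : ∀ z ∈ (P : Subgroup G), ∀ g, g⁻¹ * z * g ∈ (P : Subgroup G) → z ≠ 1 → g ∈ N := by
    intro z hz g hg hz1
    by_contra h
    have hmem : z ∈ (P : Subgroup G) ⊓ (MulAut.conj g • (P : Subgroup G)) := by
      refine Subgroup.mem_inf.mpr ⟨hz, ?_⟩
      refine Subgroup.mem_pointwise_smul_iff_inv_smul_mem.mpr ?_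
      simpa [MulAut.smul_def, MulAut.conj_inv_apply] using hg
    rw [hTI g h, Subgroup.mem_bot] at hmem
    exact hz1 hmem
  by_cases hO : Cfsg.pCore p G = ⊥
  swap
  · obtain ⟨z, hz1⟩ := (Subgroup.ne_bot_iff_exists_ne_one.mp hO)
    have hOn : (Cfsg.pCore p G).Normal := inferInstance
    rw [← Subgroup.normalizer_eq_top_iff, eq_top_iff]
    intro g _
    exact hN' z (Thompson.pCore_le_sylow P z.2) g
      (Thompson.pCore_le_sylow P (by simpa using hOn.conj_mem z z.2 g⁻¹))
      (fun h => hz1 (Subtype.ext h))
  set M := Cfsg.pPrimeCore p G with hM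
  have hMn : M.Normal := inferInstance
  have hcopM : (Nat.card M).Coprime p := Thompson.card_pPrimeCore_coprime
  have hPp : IsPGroup p (P : Subgroup G) := P.isPGroup'
  obtain ⟨N₀, hN₀⟩ := IsPGroup.iff_card.mp hPp
  have hcopP : ∀ H : Subgroup G, H ≤ P → (Nat.card M).Coprime (Nat.card H) := fun H hH =>
    ((hN₀ ▸ hcopM.pow_right N₀ : (Nat.card M).Coprime (Nat.card (P : Subgroup G))))
      |>.coprime_dvd_right (Subgroup.card_dvd_of_le hH)
  have hMP : M ⊓ (P : Subgroup G) = ⊥ := (Subgroup.disjoint_of_coprime_natCard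
    (hcopP P le_rfl)).eq_bot
  have hnorm : ∀ H : Subgroup G, H ≤ Subgroup.normalizer (M : Set G) := fun H => by
    rw [Subgroup.normalizer_eq_top_iff.mpr hMn]; exact le_top
  -- all nontrivial elements of `P` have the same fixed points
  have hfix : ∀ z ∈ (P : Subgroup G), z ≠ 1 → M ⊓ Subgroup.centralizer ({z} : Set G) ≤
      Subgroup.centralizer ((P : Subgroup G) : Set G) := by
    intro z hz hz1 m hm
    obtain ⟨hmM, hmz⟩ := Subgroup.mem_inf.mp hm
    have hmN : m ∈ N := hN' z hz m (by
      rw [mul_assoc, ← Subgroup.mem_centralizer_singleton_iff.mp hmz, inv_mul_cancel_left]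
      exact hz) hz1
    refine Subgroup.mem_centralizer_iff.mpr fun y hy => ?_
    have h1 : m * y * m⁻¹ * y⁻¹ ∈ M ⊓ (P : Subgroup G) := by
      refine Subgroup.mem_inf.mpr ⟨?_, ?_⟩
      · rw [show m * y * m⁻¹ * y⁻¹ = m * (y * m⁻¹ * y⁻¹) by group]
        exact mul_mem hmM (hMn.conj_mem _ (inv_mem hmM) y)
      · exact mul_mem ((Subgroup.mem_normalizer_iff.mp hmN y).mp hy) (inv_mem hy)
    rw [hMP, Subgroup.mem_bot, mul_inv_eq_one, mul_inv_eq_iff_eq_mul] at h1
    exact h1.symm
  rcases eq_or_ne (P : Subgroup G) ⊥ with hP1 | hP1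
  · rw [hP1]; exact inferInstance
  have hnt : ¬ M ≤ Subgroup.centralizer ((P : Subgroup G) : Set G) := fun h => hP1 <| by
    rw [eq_bot_iff, ← hMP]
    exact le_inf ((Subgroup.le_centralizer_iff.mp h).trans
      (Thompson.centralizer_pPrimeCore_le hsolv hO)) le_rfl
  obtain ⟨d, hd⟩ := IsCharacter.exists_degree hχ
  have hdd : Cfsg.charDegree χ = d := by
    rw [Cfsg.charDegree, hd]; simp
  rw [hdd] at hdeg
  -- degree one
  by_cases hd1 : d ≤ 1
  · have hone : ∀ a b : G, a * b = b * a := by
      intro a b
      rcases Nat.le_one_iff_eq_zero_or_eq_one.mp hd1 with rfl | rfl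
      · obtain ⟨r, ρ, rfl⟩ := hχ
        have : Subsingleton (Fin r → ℂ) := by
          rw [Representation.char_one, Nat.cast_inj] at hd
          exact Module.finrank_zero_iff.mp hd
        exact hfaith (a * b) (congrArg (LinearMap.trace ℂ _) (Subsingleton.elim _ _)) |>.trans
          (hfaith (b * a) (congrArg (LinearMap.trace ℂ _) (Subsingleton.elim _ _))).symm
      · obtain ⟨φ, hφ⟩ := IsCharacter.exists_hom_of_degree_one hχ (by simpa using hd)
        have hinj : Function.Injective φ := (injective_iff_map_eq_one φ).mpr fun g hg =>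
          hfaith g (by simp [hφ, hg])
        exact hinj (by rw [map_mul, map_mul, mul_comm])
    exact ⟨fun x hx g => by rwa [hone g x, mul_inv_cancel_right]⟩
  exfalso
  -- abelian subgroups of `P` are cyclic
  have hab : ∀ A : Subgroup G, A ≤ P → IsMulCommutative A → IsCyclic A := by
    intro A hA _
    by_contra hc
    exact hnt (Coprime.le_of_centralizer_le A M _ hc (hnorm A) (hcopP A hA).symm
      fun e he he1 => hfix e (hA he) he1)
  have huniq : ∀ H K : Subgroup (P : Subgroup G), Nat.card H = p → Nat.card K = p → H = K := by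
    obtain ⟨z, hz, hzc⟩ : ∃ z : (P : Subgroup G), orderOf z = p ∧
        z ∈ Subgroup.center (P : Subgroup G) := by
      have : Nontrivial (P : Subgroup G) := (Subgroup.nontrivial_iff_ne_bot _).mpr hP1
      have := hPp.center_nontrivial
      obtain ⟨n, hn, hc⟩ := (hPp.to_subgroup (Subgroup.center _)).nontrivial_iff_card.mp this
      obtain ⟨z, hz⟩ := exists_prime_orderOf_dvd_card' (G := Subgroup.center (P : Subgroup G)) p
        (hc ▸ dvd_pow_self p hn.ne')
      exact ⟨z, (Subgroup.orderOf_coe z).trans hz, z.2⟩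
    have key : ∀ H : Subgroup (P : Subgroup G), Nat.card H = p → H = Subgroup.zpowers z := by
      intro H hH
      let A : Subgroup (P : Subgroup G) := H ⊔ Subgroup.zpowers z
      have hHc : IsCyclic H := isCyclic_of_prime_card hH
      obtain ⟨y, hy⟩ := hHc.exists_generator
      have hcl : A ≤ Subgroup.closure ({(y : (P : Subgroup G)), z} : Set (P : Subgroup G)) := by
        refine sup_le (fun w hw => ?_)
          (Subgroup.zpowers_le.mpr (Subgroup.subset_closure (Set.mem_insert_of_mem _ rfl)))
        obtain ⟨i, hi⟩ := Subgroup.mem_zpowers_iff.mp (hy ⟨w, hw⟩)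
        rw [show w = (y : (P : Subgroup G)) ^ i from (congrArg Subtype.val hi).symm]
        exact zpow_mem (Subgroup.subset_closure (Set.mem_insert _ _)) i
      have hcomm : IsMulCommutative A := by
        refine ⟨⟨fun u v => Subtype.ext ?_⟩⟩
        have h2 : ∀ u ∈ Subgroup.closure ({(y : (P : Subgroup G)), z} : Set (P : Subgroup G)),
            ∀ v ∈ Subgroup.closure ({(y : (P : Subgroup G)), z} : Set (P : Subgroup G)),
            u * v = v * u := by
          have := Subgroup.closure_le_centralizer_centralizer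
            ({(y : (P : Subgroup G)), z} : Set (P : Subgroup G))
          intro u hu v hv
          refine (Subgroup.mem_centralizer_iff.mp (this hu) v ?_).symm
          refine (Subgroup.closure_le _).mpr ?_ hv
          intro a ha
          refine Subgroup.mem_centralizer_iff.mpr fun b hb => ?_
          rcases ha with rfl | rfl <;> rcases hb with rfl | rfl
          · rfl
          · exact (Subgroup.mem_center_iff.mp hzc _).symm
          · exact Subgroup.mem_center_iff.mp hzc _
          · rfl
        exact h2 u (hcl u.2) v (hcl v.2)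
      have hAc : IsCyclic A := by
        let B : Subgroup G := A.map (P : Subgroup G).subtype
        have hBc : IsMulCommutative B := by
          refine ⟨⟨?_⟩⟩
          rintro ⟨_, u, hu, rfl⟩ ⟨_, v, hv, rfl⟩
          exact Subtype.ext (congrArg (fun w : A => ((w : (P : Subgroup G)) : G))
            (hcomm.1.comm ⟨u, hu⟩ ⟨v, hv⟩))
        have := hab B (Subgroup.map_subtype_le A) hBc
        exact (Subgroup.equivMapOfInjective A (P : Subgroup G).subtype
          (Subgroup.subtype_injective _)).isCyclic.mpr this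
      have hH' : Nat.card (H.subgroupOf A) = p := by
        rw [Nat.card_congr (Subgroup.subgroupOfEquivOfLe le_sup_left).toEquiv, hH]
      have hz' : Nat.card ((Subgroup.zpowers z).subgroupOf A) = p := by
        rw [Nat.card_congr (Subgroup.subgroupOfEquivOfLe le_sup_right).toEquiv,
          Nat.card_zpowers, hz]
      have heq : H.subgroupOf A = (Subgroup.zpowers z).subgroupOf A :=
        subgroup_eq_of_card_eq_of_isCyclic hH' hz'
      calc H = (H.subgroupOf A).map A.subtype :=
            (Subgroup.map_subgroupOf_eq_of_le (le_sup_left : H ≤ A)).symm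
        _ = _ := by rw [heq, Subgroup.map_subgroupOf_eq_of_le (le_sup_right : Subgroup.zpowers z ≤ A)]
    exact fun H K hH hK => (key H hH).trans (key K hK).symm
  -- a large cyclic subgroup
  obtain ⟨x, hx⟩ : ∃ x : (P : Subgroup G), Nat.card (P : Subgroup G) = orderOf x ∨
      (Nat.card (P : Subgroup G) = 2 * orderOf x ∧ 4 ≤ orderOf x) := by
    rcases Cfsg.Agent.S0016.result p hPp huniq with h | ⟨-, n, ⟨e⟩⟩
    · obtain ⟨x, hx⟩ := h.exists_ofOrder_eq_natCard
      exact ⟨x, Or.inl hx.symm⟩
    · have h0 : NeZero (2 ^ n) := ⟨pow_ne_zero _ two_ne_zero⟩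
      refine ⟨e.symm (QuaternionGroup.a 1), Or.inr ?_⟩
      rw [MulEquiv.orderOf_eq, QuaternionGroup.orderOf_a_one, Nat.card_congr e.toEquiv,
        Nat.card_eq_fintype_card, QuaternionGroup.card]
      refine ⟨by ring, ?_⟩
      by_contra hlt
      -- order four: the group is cyclic
      have h1 : 2 ^ n = 1 := by
        have := Nat.one_le_two_pow (n := n)
        omega
      have h4 : Nat.card (P : Subgroup G) = 2 * 2 := by
        rw [Nat.card_congr e.toEquiv, Nat.card_eq_fintype_card, QuaternionGroup.card, h1]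
      have hcomm : IsMulCommutative (P : Subgroup G) :=
        ⟨⟨(IsPGroup.commGroupOfCardEqPrimeSq (p := 2) (h4.trans (sq 2).symm)).mul_comm⟩⟩
      have hcy := hab P le_rfl hcomm
      have hd2 : Nat.card (P : Subgroup G) ≤ d + 1 := card_le_degree_succ M P (hnorm _)
        (hcopP P le_rfl) hcy (fun y hy hy1 => le_antisymm
          (le_inf inf_le_left (hfix y hy hy1))
          (inf_le_inf_left _ (Subgroup.centralizer_le (Set.singleton_subset_iff.mpr hy))))
        hnt hχ hfaith hd
      nlinarith
  set X := Subgroup.zpowers (x : G) with hX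
  have hXP : X ≤ P := Subgroup.zpowers_le.mpr x.2
  have hXc : Nat.card X = orderOf x := by rw [Nat.card_zpowers, Subgroup.orderOf_coe]
  have hX1 : 1 < orderOf x := by
    have hone : 1 < Nat.card (P : Subgroup G) :=
      Finite.one_lt_card_iff_nontrivial.mpr ((Subgroup.nontrivial_iff_ne_bot _).mpr hP1)
    omega
  have hxX : (x : G) ∈ X := Subgroup.mem_zpowers _
  have hx1 : (x : G) ≠ 1 := fun h => by
    rw [← Subgroup.orderOf_coe, h, orderOf_one] at hX1; omega
  have hkey : orderOf x ≤ d + 1 := hXc ▸ card_le_degree_succ M X (hnorm _) (hcopP X hXP)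
    (inferInstance) (fun y hy hy1 => le_antisymm
      (le_inf inf_le_left ((hfix y (hXP hy) hy1).trans (Subgroup.centralizer_le hXP)))
      (inf_le_inf_left _ (Subgroup.centralizer_le (Set.singleton_subset_iff.mpr hy))))
    (fun h => hnt fun m hm => hfix x x.2 hx1 (Subgroup.mem_inf.mpr ⟨hm,
      Subgroup.centralizer_le (Set.singleton_subset_iff.mpr hxX) (h hm)⟩))
    hχ hfaith hd
  rcases hx with h | ⟨h, h3⟩ <;> nlinarith

end Cfsg.Agent.CharCore
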