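import Cfsg.Agent.Lib.CharCore.Projective
import Cfsg.Agent.CharDeep.Ext.Inertia
import Cfsg.Agent.OddChar.Normal

/-!
# Character forms of the projective extension results

Library `CharCore`, part 16.
-/

set_option autoImplicit false
set_option linter.unusedSectionVars false

open Module

namespace Cfsg.Agent.CharCore

universe u

variable {G : Type u} [Group G] [Fintype G] (N : Subgroup G) [hN : N.Normal]

/-- The ramification index of an invariant irreducible character divides the index. -/
theorem ramification_dvd_index [Fintype N] {θ : N → ℂ} (hθ : Cfsg.IsIrrCharacter N θ)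
    (hinv : CharDeep.Ext.Inv N θ) {χ : G → ℂ} (hχ : Cfsg.IsIrrCharacter G χ) {e : ℕ}
    (he : Cfsg.classInner (fun n : N => χ n) θ = e) (he0 : e ≠ 0) : e ∣ N.index := by
  have hres := CharDeep.Ext.restrict_eq_smul N hinv hθ hχ
    (by rw [he]; exact Nat.cast_ne_zero.mpr he0)
  rw [he] at hres
  obtain ⟨k, π, hπ, rfl⟩ := hθ
  obtain ⟨l, ρ, hρ, rfl⟩ := hχ
  refine mult_dvd_index (π := π) (fun g n => ?_) ρ e fun n => congrFun hres n
  exact (congrArg π.character (Subtype.ext (MulAut.conjNormal_apply g n))).trans (hinv g n)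

/-- An irreducible character over `θ` has degree `[G:N]`-divisor times `θ(1)`. -/
theorem exists_degree_eq_mul [Fintype N] {θ : N → ℂ} (hθ : Cfsg.IsIrrCharacter N θ) {χ : G → ℂ}
    (hχ : Cfsg.IsIrrCharacter G χ) (hcon : Cfsg.classInner (fun n : N => χ n) θ ≠ 0) :
    ∃ f : ℕ, χ 1 = (f : ℂ) * θ 1 ∧ f ∣ N.index := by
  classical
  let T : Subgroup G :=
    { carrier := {g | OddChar.conjBy N g θ = θ}
      one_mem' := OddChar.conjBy_one N θ
      mul_mem' := fun {a b} ha hb => by
        show OddChar.conjBy N (a * b) θ = θ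
        rw [OddChar.conjBy_mul, ha, hb]
      inv_mem' := fun {a} ha => by
        show OddChar.conjBy N a⁻¹ θ = θ
        conv_lhs => rw [← show OddChar.conjBy N a θ = θ from ha]
        rw [← OddChar.conjBy_mul, mul_inv_cancel, OddChar.conjBy_one] }
  have hT : ∀ g : G, g ∈ T ↔ ∀ n : N, θ ⟨g * n * g⁻¹, hN.conj_mem (n : G) n.2 g⟩ = θ n :=
    fun g => ⟨fun h n => congrFun h n, fun h => funext h⟩
  have hNT : N ≤ T := fun g hg => (hT g).mpr fun n => by
    have := CharCore.IsCharacter.isClassFunction (IsIrrCharacter.isCharacter hθ) n ⟨g, hg⟩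
    exact (congrArg θ (Subtype.ext (by simp))).trans this
  obtain ⟨ψ, hψ, hind, hmult⟩ :=
    CharDeep.Ext.exists_inertia_induced N hθ T hT hNT hχ hcon
  let N' := N.subgroupOf T
  let e : N' ≃* N := Subgroup.subgroupOfEquivOfLe hNT
  have hθ' : Cfsg.IsIrrCharacter N' (fun x => θ (e x)) :=
    isIrrCharacter_comp_surjective hθ e.toMonoidHom e.surjective
  obtain ⟨k, hk⟩ := IsCharacter.exists_classInner_irr_eq_natCast
    (isCharacter_restrict (IsIrrCharacter.isCharacter hψ) N') ⟨_, hθ'⟩
  have hk' : Cfsg.classInner (fun x : N' => ψ x) (fun x => θ (e x)) =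
      Cfsg.classInner (fun n : N => χ n) θ := by
    rw [← hmult]
    unfold Cfsg.classInner
    rw [Nat.card_congr e.toEquiv]
    congr 1
    exact Fintype.sum_equiv e.toEquiv _ _ fun x => rfl
  have hk0 : k ≠ 0 := fun h0 => by
    have h : Cfsg.classInner (fun x : N' => ψ x) (fun x => θ (e x)) = (k : ℂ) := hk
    rw [hk', h0, Nat.cast_zero] at h
    exact hcon h
  have hinv : CharDeep.Ext.Inv N' (fun x => θ (e x)) := fun g n => by
    exact (congrArg θ (Subtype.ext rfl)).trans ((hT g).mp g.2 (e n))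
  have hdvd := ramification_dvd_index N' hθ' hinv hψ hk hk0
  have hψ1 := congrFun (CharDeep.Ext.restrict_eq_smul N' hinv hθ' hψ
    (by rw [hk', ]; exact hcon)) 1
  refine ⟨T.index * k, ?_, ?_⟩
  · rw [← hind, CharInd.indFun_apply_one]
    have h : ψ 1 = (k : ℂ) * θ 1 := by
      have h := hψ1
      rw [show Cfsg.classInner (fun x : N' => ψ x) (fun x => θ (e x)) = (k : ℂ) from hk] at h
      simpa [map_one] using h
    rw [h]
    push_cast
    ring
  · rw [← Subgroup.relIndex_mul_index hNT, mul_comm]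
    exact Nat.mul_dvd_mul_right hdvd _

/-- Extension from the preimages of Sylow subgroups. -/
theorem exists_extension_of_sylow {θ : N → ℂ} (hθ : Cfsg.IsIrrCharacter N θ)
    (hinv : CharDeep.Ext.Inv N θ)
    (hsyl : ∀ p : ℕ, p.Prime → ∃ (P : Subgroup G) (hNP : N ≤ P) (η : P → ℂ),
      Nat.Coprime P.index p ∧ Cfsg.IsCharacter P η ∧ ∀ n : N, η ⟨(n : G), hNP n.2⟩ = θ n) :
    ∃ χ : G → ℂ, Cfsg.IsIrrCharacter G χ ∧ ∀ n : N, χ n = θ n := by
  classical
  obtain ⟨k, π, hπ, rfl⟩ := hθ
  have hinv' : ∀ (g : G) (n : N), π.character (MulAut.conjNormal g n) = π.character n :=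
    fun g n => (congrArg π.character (Subtype.ext (MulAut.conjNormal_apply g n))).trans (hinv g n)
  obtain ⟨ρ, hρ⟩ := exists_extension_of_multiples (π := π) hinv' fun p hp => by
    obtain ⟨P, hNP, η, hcop, hη, hres⟩ := hsyl p hp
    obtain ⟨l, σ, hσ⟩ := CharInd.isCharacter_indFun P hη
    refine ⟨P.index, l, σ, hcop, fun n => ?_⟩
    rw [hσ, CharInd.indFun_apply]
    have hterm : ∀ x : G, Cfsg.extendByZero P η (x⁻¹ * (n : G) * x) = π.character n := by
      intro x
      have hm : x⁻¹ * (n : G) * x ∈ N := by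
        have := hN.conj_mem (n : G) n.2 x⁻¹
        rwa [inv_inv] at this
      rw [CharInd.extendByZero_mem η (hNP hm)]
      rw [hres ⟨_, hm⟩, ← hinv x⁻¹ n]
      exact congrArg π.character (Subtype.ext (by simp))
    simp only [hterm, Finset.sum_const, Finset.card_univ, nsmul_eq_mul]
    rw [Fintype.card_eq_nat_card, ← P.card_mul_index, Nat.cast_mul, mul_assoc,
      inv_mul_cancel_left₀ (Nat.cast_ne_zero.mpr Nat.card_pos.ne')]
  have hirr : ρ.IsIrreducible := by
    have hall : ∀ x : Subrepresentation π, x = ⊥ ∨ x = ⊤ := IsSimpleOrder.eq_bot_or_eq_top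
    refine { exists_pair_ne := ⟨⊥, ⊤, fun h => ?_⟩, eq_bot_or_eq_top := fun U => ?_ }
    · exact (bot_ne_top : (⊥ : Subrepresentation π) ≠ ⊤)
        (Subrepresentation.toSubmodule_injective (congrArg Subrepresentation.toSubmodule h :))
    · rcases hall ⟨U.toSubmodule, fun n v hv => hρ n ▸ U.apply_mem_toSubmodule (n : G) hv⟩ with h | h
      · exact Or.inl (Subrepresentation.toSubmodule_injective
          (congrArg Subrepresentation.toSubmodule h :))
      · exact Or.inr (Subrepresentation.toSubmodule_injective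
          (congrArg Subrepresentation.toSubmodule h :))
  refine ⟨ρ.character, isIrrCharacter_character ρ, fun n => ?_⟩
  show LinearMap.trace ℂ _ (ρ n) = _
  rw [hρ n]
  rfl

end Cfsg.Agent.CharCore
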