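import Cfsg.Agent.Lib.CharCore.Basic
import Cfsg.Agent.Lib.CharInd.Basic

/-!
# Induction from the normaliser of a TI subset

Library `CharCore`, part 9.
-/

set_option autoImplicit false
set_option linter.unusedSectionVars false

open scoped ComplexConjugate

namespace Cfsg.Agent.CharCore

universe u

variable {G : Type u} [Group G] [Fintype G]

theorem indFun_eq_on_ti (T : Set G)
    (hTI : ∀ g : G, g ∉ Subgroup.normalizer T → ∀ t ∈ T, g * t * g⁻¹ ∈ T → t = 1)
    (ψ : Subgroup.normalizer T → ℂ) (hψ : Cfsg.IsClassFunction (Subgroup.normalizer T) ψ)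
    (hψT : ∀ x : Subgroup.normalizer T, (x : G) ∉ T → ψ x = 0)
    (t : Subgroup.normalizer T) (htT : (t : G) ∈ T) (ht1 : t ≠ 1) :
    Cfsg.indFun (Subgroup.normalizer T) ψ t = ψ t := by
  classical
  have key : ∀ x : G, Cfsg.extendByZero (Subgroup.normalizer T) ψ (x⁻¹ * (t : G) * x) =
      if x ∈ Subgroup.normalizer T then ψ t else 0 := by
    intro x
    split_ifs with hx
    · have he : x⁻¹ * (t : G) * x =
          (((⟨x, hx⟩ : Subgroup.normalizer T)⁻¹ * t * ⟨x, hx⟩ : Subgroup.normalizer T) : G) := rfl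
      rw [he, CharInd.extendByZero_coe]
      have := hψ t (⟨x, hx⟩ : Subgroup.normalizer T)⁻¹
      rwa [inv_inv] at this
    · by_cases hm : x⁻¹ * (t : G) * x ∈ Subgroup.normalizer T
      · rw [CharInd.extendByZero_mem ψ hm]
        refine hψT _ fun hT => ?_
        have hx' : x⁻¹ ∉ Subgroup.normalizer T := fun h => hx (inv_mem_iff.mp h)
        exact ht1 (Subtype.ext (hTI x⁻¹ hx' (t : G) htT (by rwa [inv_inv])))
      · exact CharInd.extendByZero_notMem ψ hm
  rw [CharInd.indFun_apply]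
  simp only [key, ← Finset.sum_filter, Finset.sum_const, nsmul_eq_mul]
  have hc : (Finset.univ.filter (fun x => x ∈ Subgroup.normalizer T)).card =
      Nat.card (Subgroup.normalizer T) := by
    rw [Nat.card_eq_fintype_card, Fintype.card_subtype]
  rw [hc, inv_mul_cancel_left₀ (Nat.cast_ne_zero.mpr Nat.card_pos.ne')]

theorem classInner_indFun_ti (T : Set G)
    (hTI : ∀ g : G, g ∉ Subgroup.normalizer T → ∀ t ∈ T, g * t * g⁻¹ ∈ T → t = 1)
    [Fintype (Subgroup.normalizer T)]
    (ψ θ : Subgroup.normalizer T → ℂ) (hθ : Cfsg.IsClassFunction (Subgroup.normalizer T) θ)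
    (hψT : ∀ x : Subgroup.normalizer T, (x : G) ∉ T → ψ x = 0)
    (hθT : ∀ x : Subgroup.normalizer T, (x : G) ∉ T → θ x = 0) (hψ1 : ψ 1 = 0) :
    Cfsg.classInner (Cfsg.indFun (Subgroup.normalizer T) ψ)
      (Cfsg.indFun (Subgroup.normalizer T) θ) = Cfsg.classInner ψ θ := by
  rw [CharInd.classInner_indFun_left _ _ (CharInd.isClassFunction_indFun _ θ)]
  unfold Cfsg.classInner
  congr 1
  refine Finset.sum_congr rfl fun x _ => ?_
  by_cases hx : (x : G) ∈ T
  · by_cases hx1 : x = 1
    · rw [hx1, hψ1, zero_mul, zero_mul]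
    · simp only
      rw [indFun_eq_on_ti T hTI θ hθ hθT x hx hx1]
  · rw [hψT x hx, zero_mul, zero_mul]

end Cfsg.Agent.CharCore
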