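import Cfsg.Agent.Lib.CharCore.InvariantOver
import Mathlib.GroupTheory.SchurZassenhaus

/-!
# Central extensions of coprime layers

An extension `E` with central `Z` splits off the part of `Z` prime to `[E : Z]`.

Library `CharCore`, part 18.
-/

set_option autoImplicit false
set_option linter.unusedSectionVars false

open scoped ComplexConjugate

namespace Cfsg.Agent.CharCore

universe u

/-- The part of `k` prime to `a`. -/
theorem exists_coprime_split {a k : ℕ} (_ : a ≠ 0) (hk : k ≠ 0) :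
    ∃ g e : ℕ, k = g * e ∧ g ∣ a ^ k ∧ e.Coprime a := by
  refine ⟨k.gcd (a ^ k), k / k.gcd (a ^ k), (Nat.mul_div_cancel' (Nat.gcd_dvd_left _ _)).symm,
    Nat.gcd_dvd_right _ _, Nat.coprime_of_dvd fun p hp hpe hpa => ?_⟩
  have hmul : k.gcd (a ^ k) * p ∣ k := by
    obtain ⟨c, hc⟩ := hpe
    exact ⟨c, by rw [mul_assoc, ← hc, Nat.mul_div_cancel' (Nat.gcd_dvd_left _ _)]⟩
  have hall : ∀ i ≤ k, p ^ i ∣ k.gcd (a ^ k) := by
    intro i
    induction i with
    | zero => exact fun _ => by rw [pow_zero]; exact one_dvd _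
    | succ i ih =>
      intro hi
      refine Nat.dvd_gcd ?_ ((pow_dvd_pow_of_dvd hpa _).trans (pow_dvd_pow a hi))
      exact (pow_succ p i ▸ Nat.mul_dvd_mul_right (ih (Nat.le_of_succ_le hi)) p).trans hmul
  have h := Nat.le_of_dvd (Nat.pos_of_ne_zero hk) ((hall k le_rfl).trans (Nat.gcd_dvd_left _ _))
  exact absurd h (Nat.not_le.mpr (Nat.lt_pow_self hp.one_lt))

/-- Splitting of a central subgroup. -/
theorem exists_central_split {Q : Type u} [Group Q] [Finite Q] (E Z : Subgroup Q) [hE : E.Normal]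
    (hZE : Z ≤ E) (hZc : Z ≤ Subgroup.center Q) :
    ∃ E1 Zb : Subgroup Q, E1.Normal ∧ Zb ≤ Z ∧ E1 ≤ E ∧ (Nat.card Zb).Coprime (Z.relIndex E) ∧
      (∀ b : ℕ, b.Coprime (Z.relIndex E) → b.Coprime (Nat.card E1)) ∧
      Disjoint E1 Zb ∧ (∀ x ∈ E, ∃ e ∈ E1, ∃ z ∈ Zb, x = e * z) ∧
      (Nat.card Zb).Coprime (Nat.card E1) ∧ E1.index = E.index * Nat.card Zb := by
  classical
  set a := Z.relIndex E with hadef
  have ha : a ≠ 0 := Subgroup.index_ne_zero_of_finite
  obtain ⟨g, e, hk, hg, he⟩ := exists_coprime_split ha (Nat.card_pos (α := Z)).ne'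
  have hcomm : ∀ z ∈ Z, ∀ x : Q, Commute z x := fun z hz x =>
    (Subgroup.mem_center_iff.mp (hZc hz) x).symm
  let Zb : Subgroup Q :=
    { carrier := {z | z ∈ Z ∧ z ^ e = 1}
      one_mem' := ⟨one_mem _, one_pow _⟩
      mul_mem' := fun {x y} hx hy =>
        ⟨mul_mem hx.1 hy.1, by rw [(hcomm x hx.1 y).mul_pow, hx.2, hy.2, one_mul]⟩
      inv_mem' := fun {x} hx => ⟨inv_mem hx.1, by rw [inv_pow, hx.2, inv_one]⟩ }
  have hbZ : Zb ≤ Z := fun z hz => hz.1
  have hZbE : Zb ≤ E := hbZ.trans hZE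
  have hZba : (Nat.card Zb).Coprime a := Nat.coprime_of_dvd fun p hp hpb hpa => by
    have := Fact.mk hp
    obtain ⟨x, hx⟩ := exists_prime_orderOf_dvd_card' p hpb
    have : p ∣ e := hx ▸ orderOf_dvd_of_pow_eq_one (Subtype.ext (by simpa using x.2.2))
    exact hp.not_dvd_one (he.gcd_eq_one ▸ Nat.dvd_gcd this hpa)
  let P : Z →* Q :=
    { toFun := fun z => (z : Q) ^ e
      map_one' := one_pow _
      map_mul' := fun x y => by rw [Subgroup.coe_mul, (hcomm x x.2 y).mul_pow] }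
  have hPker : P.ker = Zb.subgroupOf Z := by
    ext z
    exact ⟨fun h => ⟨z.2, h⟩, fun h => h.2⟩
  have hrel : ∀ b : ℕ, b.Coprime a → b.Coprime (Zb.relIndex Z) := fun b hb =>
    Nat.coprime_of_dvd fun p hp hpb hpi => by
      have := Fact.mk hp
      rw [Subgroup.relIndex, ← hPker, Subgroup.index_ker] at hpi
      obtain ⟨⟨y, hy⟩, hy'⟩ := exists_prime_orderOf_dvd_card' p hpi
      obtain ⟨z, rfl⟩ := hy
      have h1 : P z ^ g = 1 := by
        show ((z : Q) ^ e) ^ g = 1
        rw [← pow_mul, mul_comm, ← hk, ← Subgroup.coe_pow, pow_card_eq_one', Subgroup.coe_one]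
      have : p ∣ g := hy' ▸ orderOf_dvd_of_pow_eq_one (Subtype.ext h1)
      exact hp.not_dvd_one (hb.gcd_eq_one ▸ Nat.dvd_gcd hpb (hp.dvd_of_dvd_pow (this.trans hg)))
  have hsplit : Zb.relIndex Z * a = Zb.relIndex E := Subgroup.relIndex_mul_relIndex _ _ _ hbZ hZE
  have hk1 : ∀ b : ℕ, b.Coprime a → b.Coprime (Zb.relIndex E) := fun b hb =>
    hsplit ▸ Nat.Coprime.mul_right (hrel b hb) hb
  have : Zb.Normal := ⟨fun z hz x => by
    rw [((hcomm z hz.1 x).symm).eq, mul_inv_cancel_right]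
    exact hz⟩
  set ZE := Zb.subgroupOf E
  have hcardZE : Nat.card ZE = Nat.card Zb :=
    Nat.card_congr (Subgroup.subgroupOfEquivOfLe hZbE).toEquiv
  obtain ⟨H, hH⟩ := Subgroup.exists_right_complement'_of_coprime (N := ZE)
    (hcardZE ▸ hk1 _ hZba)
  let E1 := H.map E.subtype
  have hcard : Nat.card E1 = Nat.card H := Subgroup.card_map_of_injective E.subtype_injective
  have hidx : Zb.relIndex E = Nat.card H := hH.symm.index_eq_card
  have hcop1 : (Nat.card Zb).Coprime (Nat.card E1) := by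
    rw [hcard, ← hidx]; exact hk1 _ hZba
  have hdec : ∀ x ∈ E, ∃ u ∈ E1, ∃ z ∈ Zb, x = u * z := by
    intro x hx
    have hmem : (⟨x, hx⟩ : E) ∈ (H ⊔ ZE) := by rw [hH.symm.sup_eq_top]; exact Subgroup.mem_top _
    obtain ⟨u, hu, z, hz, huz⟩ := Subgroup.mem_sup_of_normal_right.mp hmem
    exact ⟨u, Subgroup.mem_map_of_mem _ hu, z, hz, (congrArg Subtype.val huz).symm⟩
  have hchar : ∀ x : Q, x ∈ E1 ↔ x ∈ E ∧ x ^ Nat.card E1 = 1 := by
    intro x
    constructor
    · intro hx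
      refine ⟨Subgroup.map_subtype_le H hx, ?_⟩
      exact congrArg Subtype.val (pow_card_eq_one' (G := E1) (x := ⟨x, hx⟩))
    · rintro ⟨hx, hx1⟩
      obtain ⟨u, hu, z, hz, rfl⟩ := hdec x hx
      have hu1 : u ^ Nat.card E1 = 1 :=
        congrArg Subtype.val (pow_card_eq_one' (G := E1) (x := ⟨u, hu⟩))
      rw [((hcomm z hz.1 u).symm).mul_pow, hu1, one_mul] at hx1
      have hz1 : z = 1 := by
        have h1 : z ^ Nat.card Zb = 1 :=
          congrArg Subtype.val (pow_card_eq_one' (G := Zb) (x := ⟨z, hz⟩))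
        have h2 := pow_gcd_eq_one.mpr ⟨h1, hx1⟩
        rwa [hcop1.gcd_eq_one, pow_one] at h2
      rw [hz1, mul_one]
      exact hu
  refine ⟨E1, Zb, ⟨fun x hx y => ?_⟩, hbZ, Subgroup.map_subtype_le H, hZba, fun b hb => ?_, ?_,
    hdec, hcop1, ?_⟩
  · obtain ⟨h1, h2⟩ := (hchar x).mp hx
    exact (hchar _).mpr ⟨hE.conj_mem x h1 y, by rw [conj_pow, h2, mul_one, mul_inv_cancel]⟩
  · rw [hcard, ← hidx]; exact hk1 b hb
  · rw [disjoint_iff, eq_bot_iff]
    rintro x ⟨hx1, hx2⟩
    have h1 : x ^ Nat.card Zb = 1 :=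
      congrArg Subtype.val (pow_card_eq_one' (G := Zb) (x := ⟨x, hx2⟩))
    have h2 := pow_gcd_eq_one.mpr ⟨h1, ((hchar x).mp hx1).2⟩
    rw [hcop1.gcd_eq_one, pow_one] at h2
    exact Subgroup.mem_bot.mpr h2
  · have hE1 : H.index = Nat.card Zb := by rw [hH.index_eq_card, hcardZE]
    rw [Subgroup.index_map_of_injective H E.subtype_injective,
      Subgroup.range_subtype, hE1, mul_comm]

/-- An invariant irreducible character of a central extension with given central character. -/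
theorem exists_inv_central {Q : Type u} [Group Q] [Finite Q] (E Z : Subgroup Q) [E.Normal]
    (hZE : Z ≤ E) (hZc : Z ≤ Subgroup.center Q) (hcop : E.index.Coprime (Z.relIndex E))
    (hsol : Group.IsSolvable (Q ⧸ E) ∨ Group.IsSolvable E) (l : Z →* ℂˣ) :
    ∃ β : E → ℂ, Cfsg.IsIrrCharacter E β ∧
      (∀ (x : E) (z : Z), β (x * Subgroup.inclusion hZE z) = β x * l z) ∧
      ∀ (y : Q) (x x' : E), (x' : Q) = y * x * y⁻¹ → β x' = β x := by
  classical
  obtain ⟨E1, Zb, hE1n, hbZ, h1E, hba, hb1, hdisj, hdec, hcop1, hidx⟩ :=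
    exists_central_split E Z hZE hZc
  have hcop' : (Nat.card E1).Coprime E1.index := by
    rw [hidx]
    exact Nat.Coprime.mul_right (hb1 _ hcop).symm hcop1.symm
  obtain ⟨A, hA⟩ := Subgroup.exists_right_complement'_of_coprime (N := E1) hcop'
  have hAcard : (Nat.card E1).Coprime (Nat.card A) := by rwa [← hA.symm.index_eq_card]
  have := Fintype.ofFinite E1
  have := Fintype.ofFinite E
  let φ : A →* MulAut E1 := conjAut E1 A fun s _ g hg => hE1n.conj_mem g hg s
  let N1 : Subgroup E1 := Z.subgroupOf E1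
  have hN1c : ∀ (n : N1) (x : Q), Commute ((n : E1) : Q) x := fun n x =>
    (Subgroup.mem_center_iff.mp (hZc n.2) x).symm
  have : N1.Normal := ⟨fun n hn x => by
    have h : x * n = n * x := Subtype.ext (hN1c ⟨n, hn⟩ (x : Q)).symm.eq
    rw [h, mul_inv_cancel_right]; exact hn⟩
  have := Fintype.ofFinite N1
  let l1 : N1 →* ℂˣ := l.comp
    { toFun := fun n => ⟨((n : E1) : Q), n.2⟩, map_one' := rfl, map_mul' := fun _ _ => rfl }
  let θ : Cfsg.IrrCharacter N1 := ⟨_, isIrrCharacter_hom l1⟩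
  have hθ : ∀ (a : A) (x y : N1), (y : E1) = φ a x → (θ : N1 → ℂ) y = (θ : N1 → ℂ) x := by
    intro a x y hy
    have h : y = x := Subtype.ext (Subtype.ext (by
      rw [hy, coe_conjAut, (hN1c x (a : Q)).symm.eq, mul_inv_cancel_right]))
    rw [h]
  have hN1inv : ∀ a, ∀ x ∈ N1, φ a x ∈ N1 := by
    intro a x hx
    have : φ a x = x := Subtype.ext (by
      rw [coe_conjAut, (hN1c ⟨x, hx⟩ (a : Q)).symm.eq, mul_inv_cancel_right])
    rwa [this]
  obtain ⟨ψ, hψinv, hψ⟩ : ∃ ψ : Cfsg.IrrCharacter E1, IsInvFun φ (ψ : E1 → ℂ) ∧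
      Cfsg.classInner (fun x : N1 => (ψ : E1 → ℂ) x) θ ≠ 0 := by
    rcases hsol with h | h
    · have : Group.IsSolvable A := by
        let f : A →* Q ⧸ E := (QuotientGroup.mk' E).comp A.subtype
        have hc : ∀ x y : f.ker, x * y = y * x := by
          rintro ⟨x, hx⟩ ⟨y, hy⟩
          have hxE : (x : Q) ∈ E := (QuotientGroup.eq_one_iff _).mp hx
          have hyE : (y : Q) ∈ E := (QuotientGroup.eq_one_iff _).mp hy
          obtain ⟨u, hu, z, hz, hxu⟩ := hdec _ hxE
          obtain ⟨u', hu', z', hz', hyu⟩ := hdec _ hyE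
          have hz0 : ∀ w, Commute z w := fun w => (Subgroup.mem_center_iff.mp (hZc (hbZ hz)) w).symm
          have hz0' : ∀ w, Commute z' w := fun w =>
            (Subgroup.mem_center_iff.mp (hZc (hbZ hz')) w).symm
          have h1 : (x : Q) * y * (x : Q)⁻¹ * (y : Q)⁻¹ = u * u' * u⁻¹ * u'⁻¹ := by
            rw [hxu, hyu, mul_inv_rev, mul_inv_rev]
            calc u * z * (u' * z') * (z⁻¹ * u⁻¹) * (z'⁻¹ * u'⁻¹)
                = u * (z * (u' * z')) * z⁻¹ * (u⁻¹ * z'⁻¹) * u'⁻¹ := by group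
              _ = u * (u' * z' * z) * z⁻¹ * (z'⁻¹ * u⁻¹) * u'⁻¹ := by
                  rw [(hz0 (u' * z')).eq, ((hz0' u).inv_inv).symm.eq]
              _ = u * u' * u⁻¹ * u'⁻¹ := by group
          have h2 : (x : Q) * y * (x : Q)⁻¹ * (y : Q)⁻¹ ∈ E1 ⊓ A := by
            refine Subgroup.mem_inf.mpr ⟨?_, A.mul_mem (A.mul_mem (A.mul_mem x.2 y.2) (A.inv_mem x.2))
              (A.inv_mem y.2)⟩
            rw [h1]
            exact E1.mul_mem (E1.mul_mem (E1.mul_mem hu hu') (E1.inv_mem hu)) (E1.inv_mem hu')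
          rw [hA.disjoint.eq_bot, Subgroup.mem_bot, mul_inv_eq_one, mul_inv_eq_iff_eq_mul] at h2
          exact Subtype.ext (Subtype.ext h2)
        have := Group.isSolvable_of_comm hc
        exact Group.isSolvable_of_ker_le_range f.ker.subtype f (by rw [Subgroup.range_subtype])
      exact exists_inv_over _ A E1 φ N1 rfl hAcard hN1inv θ hθ
    · have : Group.IsSolvable E1 :=
        Group.isSolvable_of_isSolvable_injective (Subgroup.inclusion_injective h1E)
      exact exists_inv_over_of_solvable_quotient _ A E1 φ N1 rfl hN1inv inferInstance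
        (hAcard.coprime_dvd_left N1.index_dvd_card) θ hθ
  -- the value on central elements
  have hψN : ∀ (x : E1) (n : N1), (ψ : E1 → ℂ) (x * n) = (ψ : E1 → ℂ) x * l1 n := by
    obtain ⟨k, ρ, hρ, hρψ⟩ := ψ.2
    have hsc : ∀ n : N1, ∃ c : ℂ, ρ (n : E1) = c • 1 := fun n =>
      CharClifford.exists_scalar_of_commute ρ (ρ n) fun g => by
        show ρ n * ρ g = ρ g * ρ n
        rw [← map_mul, ← map_mul, show (n : E1) * g = g * n from Subtype.ext (hN1c n (g : Q)).eq]
    choose c hc using hsc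
    have hval : ∀ (x : E1) (n : N1), (ψ : E1 → ℂ) (x * n) = c n * (ψ : E1 → ℂ) x := fun x n => by
      rw [← hρψ]
      simp only [Representation.character, map_mul, hc, mul_smul_comm, mul_one, map_smul,
        smul_eq_mul]
    have hres : (fun n : N1 => (ψ : E1 → ℂ) n) = (ψ : E1 → ℂ) 1 • c := funext fun n => by
      have := hval 1 n
      rw [one_mul] at this
      rw [this, Pi.smul_apply, smul_eq_mul, mul_comm]
    let ch : N1 →* ℂˣ :=
      { toFun := fun n => Units.mk0 (c n) fun h0 => by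
          have h := hval (n : E1)⁻¹ n
          rw [inv_mul_cancel, h0, zero_mul] at h
          exact irr_apply_one_ne_zero ψ h
        map_one' := Units.ext (by
          have h := hval 1 1
          rw [Subgroup.coe_one, mul_one] at h
          exact mul_right_cancel₀ (irr_apply_one_ne_zero ψ) ((h.symm.trans (one_mul _).symm :)))
        map_mul' := fun m n => Units.ext (by
          show c (m * n) = c m * c n
          have h := hval 1 (m * n)
          rw [Subgroup.coe_mul, ← mul_assoc, hval, hval, ← mul_assoc] at h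
          exact (mul_right_cancel₀ (irr_apply_one_ne_zero ψ) h).symm.trans (mul_comm _ _)) }
    have hch : (fun n : N1 => (ch n : ℂ)) = (θ : N1 → ℂ) := by
      by_contra hne
      apply hψ
      rw [hres, classInner_smul_left]
      have := classInner_irr_of_ne (χ := ⟨_, isIrrCharacter_hom ch⟩) (ψ := θ)
        fun h => hne (congrArg Subtype.val h)
      exact mul_eq_zero_of_right _ this
    intro x n
    rw [hval, mul_comm]
    congr 1
    exact congrFun hch n
  -- the two projections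
  let mulHom : E1 × Zb →* E :=
    { toFun := fun p => ⟨(p.1 : Q) * p.2, mul_mem (h1E p.1.2) (hZE (hbZ p.2.2))⟩
      map_one' := Subtype.ext (one_mul _)
      map_mul' := fun p q => Subtype.ext (by
        simp only [Prod.fst_mul, Prod.snd_mul, Subgroup.coe_mul]
        exact Commute.mul_mul_mul_comm (Subgroup.mem_center_iff.mp (hZc (hbZ p.2.2)) (q.1 : Q)) _ _) }
  have hbij : Function.Bijective mulHom := by
    refine ⟨(injective_iff_map_eq_one _).mpr fun p hp => ?_, fun x => ?_⟩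
    · have h : (p.1 : Q) * p.2 = 1 := congrArg Subtype.val hp
      have hm : (p.1 : Q) ∈ E1 ⊓ Zb :=
        Subgroup.mem_inf.mpr ⟨p.1.2, eq_inv_of_mul_eq_one_left h ▸ Zb.inv_mem p.2.2⟩
      rw [hdisj.eq_bot, Subgroup.mem_bot] at hm
      rw [hm, one_mul] at h
      exact Prod.ext (Subtype.ext hm) (Subtype.ext h)
    · obtain ⟨u, hu, z, hz, h⟩ := hdec x x.2
      exact ⟨(⟨u, hu⟩, ⟨z, hz⟩), Subtype.ext h.symm⟩
  let e := MulEquiv.ofBijective mulHom hbij
  let p1 : E →* E1 := (MonoidHom.fst E1 Zb).comp e.symm.toMonoidHom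
  let p2 : E →* Zb := (MonoidHom.snd E1 Zb).comp e.symm.toMonoidHom
  have hp : ∀ x : E, (p1 x : Q) * p2 x = x := fun x =>
    congrArg Subtype.val (e.apply_symm_apply x)
  let l2 : E →* ℂˣ := (l.comp (Subgroup.inclusion hbZ)).comp p2
  refine ⟨_, isIrrCharacter_hom_mul l2
    (isIrrCharacter_comp_surjective ψ.2 p1
      (fun u => ⟨e (u, 1), congrArg Prod.fst (e.symm_apply_apply (u, 1))⟩)), ?_, ?_⟩
  · intro x z
    set z' : E := Subgroup.inclusion hZE z
    have hm : (p1 z' : Q) ∈ Z := by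
      rw [show (p1 z' : Q) = (z : Q) * (p2 z' : Q)⁻¹ from eq_mul_inv_of_mul_eq (hp z')]
      exact mul_mem z.2 (inv_mem (hbZ (p2 z').2))
    show (l2 (x * z') : ℂ) * (ψ : E1 → ℂ) (p1 (x * z')) = (l2 x : ℂ) * (ψ : E1 → ℂ) (p1 x) * l z
    have hl : (l2 z' : ℂ) * l1 ⟨p1 z', hm⟩ = l z := by
      rw [← Units.val_mul, mul_comm]
      refine congrArg Units.val ((map_mul l _ _).symm.trans (congrArg l (Subtype.ext ?_)))
      exact hp z'
    rw [map_mul, map_mul, show p1 z' = ((⟨p1 z', hm⟩ : N1) : E1) from rfl, hψN, ← hl,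
      Units.val_mul]
    ring
  · intro y x x' hx
    have hy : ∃ a : A, ∃ u ∈ E1, y = (a : Q) * u := by
      have hmem : y ∈ A ⊔ E1 := by rw [hA.symm.sup_eq_top]; exact Subgroup.mem_top _
      obtain ⟨a, ha, u, hu, rfl⟩ := Subgroup.mem_sup_of_normal_right.mp hmem
      exact ⟨⟨a, ha⟩, u, hu, rfl⟩
    obtain ⟨a, u, hu, rfl⟩ := hy
    set w : E1 := ⟨_, hE1n.conj_mem (p1 x : Q) (p1 x).2 ((a : Q) * u)⟩ with hw
    have hpx : e.symm x' = (w, p2 x) := by
      rw [MulEquiv.symm_apply_eq]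
      refine Subtype.ext ?_
      show (x' : Q) = (w : Q) * p2 x
      rw [hx, ← hp x, hw]
      have hc := Subgroup.mem_center_iff.mp (hZc (hbZ (p2 x).2)) ((a : Q) * u)⁻¹
      calc (a : Q) * u * ((p1 x : Q) * p2 x) * ((a : Q) * u)⁻¹
          = (a : Q) * u * (p1 x : Q) * ((p2 x : Q) * ((a : Q) * u)⁻¹) := by group
        _ = (a : Q) * u * (p1 x : Q) * (((a : Q) * u)⁻¹ * (p2 x : Q)) := by rw [hc]
        _ = _ := by simp only [mul_assoc]
    show (l2 x' : ℂ) * (ψ : E1 → ℂ) (p1 x') = (l2 x : ℂ) * (ψ : E1 → ℂ) (p1 x)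
    rw [show p1 x' = w from congrArg Prod.fst hpx,
      show l2 x' = l2 x from congrArg (l.comp (Subgroup.inclusion hbZ))
        (show (e.symm x').2 = p2 x by rw [hpx])]
    congr 1
    have hwc : w = φ a (⟨u, hu⟩ * p1 x * ⟨u, hu⟩⁻¹) := Subtype.ext (by
      rw [hw, coe_conjAut]
      simp [mul_assoc])
    rw [hwc, hψinv]
    exact irr_isClassFunction ψ _ _

end Cfsg.Agent.CharCore
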