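import Cfsg.Agent.BlkChar.CyclicAction
import Cfsg.Agent.Lib.CharClifford.Eigen

/-!
# Degrees under a fixed-point-regular cyclic coprime action

If every nontrivial element of a cyclic `X` has the same fixed points on `M` (coprime orders) and
`X` acts nontrivially, then faithful characters of `M X` have degree at least `#X - 1`.

Library `CharCore`, part 20.
-/

set_option autoImplicit false
set_option linter.unusedSectionVars false

open scoped ComplexConjugate

namespace Cfsg.Agent.CharCore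

open BlkChar (fnAt mult)

universe u

/-- The irreducible step. -/
theorem card_le_degree_succ_aux {Γ : Type u} [Group Γ] [Fintype Γ] (M X : Subgroup Γ) [M.Normal]
    [Fintype M] (hcop : (Nat.card M).Coprime (Nat.card X)) (htop : M ⊔ X = ⊤) (hcyc : IsCyclic X)
    (hfix : ∀ y ∈ X, y ≠ 1 →
      M ⊓ Subgroup.centralizer ({y} : Set Γ) = M ⊓ Subgroup.centralizer (X : Set Γ))
    (ψ : Cfsg.IrrCharacter Γ) {m x : Γ} (_ : m ∈ M) (hx : x ∈ X)
    (hne : (ψ : Γ → ℂ) (m * x * m⁻¹ * x⁻¹) ≠ (ψ : Γ → ℂ) 1) {d : ℕ}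
    (hd : (ψ : Γ → ℂ) 1 = d) : Nat.card X ≤ d + 1 := by
  classical
  have := Fintype.ofFinite X
  let : CommGroup X := IsCyclic.commGroup
  set C : Subgroup Γ := M ⊓ Subgroup.centralizer (X : Set Γ) with hC
  have := Fintype.ofFinite C
  have hCS : ∀ c ∈ C, ∀ y ∈ X, c * y = y * c := fun c hc y hy =>
    (Subgroup.mem_centralizer_iff.mp (Subgroup.mem_inf.mp hc).2 y hy).symm
  have hSab : ∀ a ∈ X, ∀ b ∈ X, a * b = b * a := fun a ha b hb =>
    congrArg Subtype.val (mul_comm (⟨a, ha⟩ : X) ⟨b, hb⟩)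
  have hψc := irr_isCharacter ψ
  have hcl := irr_isClassFunction ψ
  -- the multiplicities
  choose a ha using fun β : Cfsg.IrrCharacter C => IsCharacter.exists_sum
    (BlkChar.isCharacter_mult X C hCS hSab hψc (irr_isCharacter β))
  have hl1 : ∀ l : Cfsg.IrrCharacter X, (l : X → ℂ) 1 = 1 := fun l => by
    obtain ⟨r, ρ, hρ, hρl⟩ := l.2
    rw [← hρl, Representation.char_one]
    have := Representation.IsIrreducible.finrank_eq_one_of_isMulCommutative ρ
    rw [this, Nat.cast_one]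
  have hm1 : ∀ β : Cfsg.IrrCharacter C,
      mult X C (ψ : Γ → ℂ) (β : C → ℂ) 1 = ((∑ l, a β l : ℕ) : ℂ) := fun β => by
    rw [ha β, Finset.sum_apply, Nat.cast_sum]
    exact Finset.sum_congr rfl fun l _ => by rw [Pi.smul_apply, smul_eq_mul, hl1, mul_one]
  set S : ℕ := ∑ β, ∑ l, a β l with hS
  set T : ℕ := ∑ β, (∑ l, a β l) * (∑ l, a β l) with hT
  set Q : ℕ := ∑ β, ∑ l, a β l * a β l with hQ
  set n := Nat.card X with hn
  -- the squares along `X`
  let f : Γ → ℂ := CharDeep.Ext.avg M fun g => (ψ : Γ → ℂ) g * conj ((ψ : Γ → ℂ) g)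
  have hsq : ∀ y : X, ∑ β : Cfsg.IrrCharacter C,
      mult X C (ψ : Γ → ℂ) β y * conj (mult X C (ψ : Γ → ℂ) β y) =
      Cfsg.classInner (fnAt C (ψ : Γ → ℂ) y) (fnAt C (ψ : Γ → ℂ) y) := fun y => by
    have hc : Cfsg.IsClassFunction C (fnAt C (ψ : Γ → ℂ) y) := fun g h => by
      show (ψ : Γ → ℂ) ((h : Γ) * g * (h : Γ)⁻¹ * y) = (ψ : Γ → ℂ) ((g : Γ) * y)
      have e : (h : Γ) * g * (h : Γ)⁻¹ * y = (h : Γ) * ((g : Γ) * y) * (h : Γ)⁻¹ := by
        have h1 : (h : Γ)⁻¹ * y = y * (h : Γ)⁻¹ :=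
          (Commute.inv_left (show Commute (h : Γ) y from hCS h h.2 y y.2)).eq
        simp only [mul_assoc, h1]
      rw [e]
      exact hcl _ _
    exact (classInner_eq_sum hc hc).symm
  have hy : ∀ y : X, y ≠ 1 →
      Cfsg.classInner (fnAt C (ψ : Γ → ℂ) y) (fnAt C (ψ : Γ → ℂ) y) = f y := fun y hy1 =>
    BlkChar.classInner_fnAt M C (y : Γ) (hfix y y.2 fun h => hy1 (Subtype.ext h)).symm
      (hcop.coprime_dvd_right (X.orderOf_dvd_natCard y.2)) hcl hcl
  -- the total of `f` along `X`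
  have hbij : Function.Bijective (fun p : M × X => (p.1 : Γ) * p.2) := by
    refine ⟨fun p q h => ?_, fun g => ?_⟩
    · have hd := Subgroup.disjoint_of_coprime_natCard hcop
      exact (Subgroup.mul_injective_of_disjoint hd) h
    · have hg : g ∈ M ⊔ X := htop ▸ Subgroup.mem_top g
      obtain ⟨u, hu, v, hv, rfl⟩ := Subgroup.mem_sup_of_normal_left.mp hg
      exact ⟨(⟨u, hu⟩, ⟨v, hv⟩), rfl⟩
  have hsum : ∑ y : X, f y = (n : ℂ) := by
    have hM : (Nat.card M : ℂ) ≠ 0 := Nat.cast_ne_zero.mpr Nat.card_pos.ne'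
    have hcard : (Nat.card Γ : ℂ) = (Nat.card M : ℂ) * n := by
      rw [← Nat.card_congr (Equiv.ofBijective _ hbij), Nat.card_prod, Nat.cast_mul]
    have h1 := classInner_irr_self ψ
    rw [classInner_def] at h1
    simp only [f, CharDeep.Ext.avg_apply, ← Finset.mul_sum]
    rw [Finset.sum_comm,
      ← Fintype.sum_prod_type (f := fun p : M × X =>
        (ψ : Γ → ℂ) ((p.1 : Γ) * p.2) * conj ((ψ : Γ → ℂ) ((p.1 : Γ) * p.2)))]
    have h2 : ∑ p : M × X, (ψ : Γ → ℂ) ((p.1 : Γ) * p.2) *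
        conj ((ψ : Γ → ℂ) ((p.1 : Γ) * p.2)) = ∑ g : Γ, (ψ : Γ → ℂ) g * conj ((ψ : Γ → ℂ) g) :=
      Fintype.sum_equiv (Equiv.ofBijective _ hbij) _ _ fun p => rfl
    rw [h2]
    have hΓ : (Nat.card Γ : ℂ) ≠ 0 := Nat.cast_ne_zero.mpr Nat.card_pos.ne'
    rw [inv_mul_eq_one₀ hΓ] at h1
    rw [← h1, hcard, inv_mul_cancel_left₀ hM]
  obtain ⟨e, he⟩ : ∃ e : ℕ, f 1 = e := by
    show ∃ e : ℕ, CharDeep.Ext.avg M _ 1 = (e : ℂ)
    rw [CharDeep.Ext.avg_one]
    obtain ⟨e, he⟩ := IsCharacter.exists_classInner_eq_natCast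
      (isCharacter_restrict hψc M) (isCharacter_restrict hψc M)
    exact ⟨e, Eq.trans (by simp [classInner_def]) he⟩
  have he1 : e ≠ 0 := by
    intro h0
    obtain ⟨b, hb⟩ := IsCharacter.exists_sum (isCharacter_restrict hψc M)
    have h1 : Cfsg.classInner (fun k : M => (ψ : Γ → ℂ) k) (fun k : M => (ψ : Γ → ℂ) k) = 0 := by
      have h2 : CharDeep.Ext.avg M (fun g => (ψ : Γ → ℂ) g * conj ((ψ : Γ → ℂ) g)) 1 = 0 := by
        rw [show CharDeep.Ext.avg M _ 1 = (e : ℂ) from he, h0, Nat.cast_zero]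
      rw [CharDeep.Ext.avg_one] at h2
      refine Eq.trans ?_ h2
      simp [classInner_def]
    rw [hb, classInner_sum_sum] at h1
    simp only [Complex.conj_natCast, ← Nat.cast_mul, ← Nat.cast_sum, Nat.cast_eq_zero,
      Finset.sum_eq_zero_iff, mul_self_eq_zero] at h1
    apply irr_apply_one_ne_zero ψ
    have h2 := congrFun hb 1
    rw [Finset.sum_apply] at h2
    simpa [h1] using h2
  have hkey : n * Q + e = T + n := by
    have hC1 : ((T : ℕ) : ℂ) = ∑ β : Cfsg.IrrCharacter C,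
        mult X C (ψ : Γ → ℂ) β (1 : X) * conj (mult X C (ψ : Γ → ℂ) β (1 : X)) := by
      simp only [hm1, Complex.conj_natCast, ← Nat.cast_mul, ← Nat.cast_sum, hT]
    have hL : ((n * Q : ℕ) : ℂ) = ∑ β : Cfsg.IrrCharacter C, ∑ y : X,
        mult X C (ψ : Γ → ℂ) β y * conj (mult X C (ψ : Γ → ℂ) β y) := by
      rw [hQ, Nat.cast_mul, Nat.cast_sum, Finset.mul_sum]
      refine Finset.sum_congr rfl fun β _ => ?_
      have h1 := classInner_sum_sum (fun l => (a β l : ℂ)) (fun l => (a β l : ℂ))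
      rw [← ha β] at h1
      simp only [Complex.conj_natCast, ← Nat.cast_mul, ← Nat.cast_sum] at h1
      rw [← h1, classInner_def, hn, ← mul_assoc, mul_inv_cancel₀, one_mul]
      exact Nat.cast_ne_zero.mpr Nat.card_pos.ne'
    have hfin : ((n * Q : ℕ) : ℂ) + e = (T : ℂ) + n := by
      rw [hL, Finset.sum_comm, ← hsum, hC1, ← he,
        ← Finset.add_sum_erase _ _ (Finset.mem_univ (1 : X)),
        ← Finset.add_sum_erase Finset.univ (fun y : X => f y) (Finset.mem_univ (1 : X)),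
        Finset.sum_congr rfl (g := fun y : X => f y) fun y hy' =>
          (hsq y).trans (hy y (Finset.mem_erase.mp hy').1)]
      simp only [OneMemClass.coe_one]
      ring
    exact_mod_cast hfin
  choose g hg using fun β : Cfsg.IrrCharacter C => IsCharacter.exists_degree (irr_isCharacter β)
  have hψX : ∀ y : X, (ψ : Γ → ℂ) y =
      ∑ β : Cfsg.IrrCharacter C, mult X C (ψ : Γ → ℂ) β y * g β := fun y => by
    have hc : Cfsg.IsClassFunction C (fnAt C (ψ : Γ → ℂ) y) := fun u h => by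
      show (ψ : Γ → ℂ) ((h : Γ) * u * (h : Γ)⁻¹ * y) = (ψ : Γ → ℂ) ((u : Γ) * y)
      have e : (h : Γ) * u * (h : Γ)⁻¹ * y = (h : Γ) * ((u : Γ) * y) * (h : Γ)⁻¹ := by
        have h1 : (h : Γ)⁻¹ * y = y * (h : Γ)⁻¹ :=
          (Commute.inv_left (show Commute (h : Γ) y from hCS h h.2 y y.2)).eq
        simp only [mul_assoc, h1]
      rw [e]
      exact hcl _ _
    have h := congrFun (eq_sum_classInner hc) 1
    rw [Finset.sum_apply] at h
    refine Eq.trans ?_ (h.trans (Finset.sum_congr rfl fun β _ => ?_))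
    · show _ = (ψ : Γ → ℂ) (((1 : C) : Γ) * y)
      rw [OneMemClass.coe_one, one_mul]
    · rw [Pi.smul_apply, smul_eq_mul, hg β]
      rfl
  have hg1 : ∀ β, 1 ≤ g β := fun β => Nat.one_le_iff_ne_zero.mpr fun h0 => by
    have := hg β
    rw [h0, Nat.cast_zero] at this
    exact irr_apply_one_ne_zero β this
  have hSd : S ≤ d := by
    have h := hψX 1
    rw [OneMemClass.coe_one, hd] at h
    simp only [hm1, ← Nat.cast_mul, ← Nat.cast_sum, Nat.cast_inj] at h
    rw [h, hS]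
    exact Finset.sum_le_sum fun β _ => Nat.le_mul_of_pos_right _ (hg1 β)
  have hTS : T ≤ S * S := by
    rw [hT, hS, Finset.sum_mul]
    exact Finset.sum_le_sum fun β hβ => Nat.mul_le_mul le_rfl
      (Finset.single_le_sum (f := fun β => ∑ l, a β l) (fun _ _ => Nat.zero_le _) hβ)
  have hQS : S ≤ Q := by
    rw [hQ, hS]
    exact Finset.sum_le_sum fun β _ => Finset.sum_le_sum fun l _ => Nat.le_mul_self _
  by_contra hlt
  push Not at hlt
  have hS1 : S ≤ 1 := by nlinarith [Nat.one_le_iff_ne_zero.mpr he1]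
  -- then `X` consists of scalars
  obtain ⟨k, ρ, hρ, hρψ⟩ := ψ.2
  have hρ1 : ((Module.finrank ℂ (Fin k → ℂ) : ℕ) : ℂ) = d := by
    rw [← hd, ← hρψ, Representation.char_one]
  have hnorm : ∀ y : X, ‖ρ.character (y : Γ)‖ = (Module.finrank ℂ (Fin k → ℂ) : ℝ) := fun y => by
    have hd' : ((d : ℕ) : ℂ) = ∑ β : Cfsg.IrrCharacter C, ((∑ l, a β l : ℕ) : ℂ) * g β := by
      rw [← hd, ← OneMemClass.coe_one X, hψX]
      exact Finset.sum_congr rfl fun β _ => by rw [hm1]
    have hdd : (d : ℂ) ≠ 0 := hd ▸ irr_apply_one_ne_zero ψ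
    obtain ⟨β₀, hβ₀⟩ : ∃ β₀, (∑ l, a β₀ l) ≠ 0 := by
      by_contra hall
      push Not at hall
      exact hdd (by rw [hd']; simp [hall])
    have hβ : ∀ β, β ≠ β₀ → ∀ l, a β l = 0 := fun β hne' l => by
      have h2 : (∑ l, a β₀ l) + ∑ l, a β l ≤ S := by
        rw [hS, ← Finset.sum_pair hne'.symm (f := fun β => ∑ l, a β l)]
        exact Finset.sum_le_univ_sum_of_nonneg fun _ => Nat.zero_le _
      have : ∑ l, a β l = 0 := by omega
      exact Finset.sum_eq_zero_iff.mp this l (Finset.mem_univ _)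
    obtain ⟨l₀, hl₀⟩ : ∃ l₀, a β₀ l₀ ≠ 0 := by
      by_contra hall
      push Not at hall
      exact hβ₀ (Finset.sum_eq_zero fun l _ => hall l)
    have hle : ∑ l, a β₀ l ≤ S :=
      Finset.single_le_sum (f := fun β => ∑ l, a β l) (fun _ _ => Nat.zero_le _) (Finset.mem_univ β₀)
    have hl : ∀ l, l ≠ l₀ → a β₀ l = 0 := fun l hne' => by
      have h2 : a β₀ l₀ + a β₀ l ≤ ∑ l, a β₀ l := by
        rw [← Finset.sum_pair hne'.symm (f := fun l => a β₀ l)]
        exact Finset.sum_le_univ_sum_of_nonneg fun _ => Nat.zero_le _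
      omega
    have ha1 : a β₀ l₀ = 1 := by
      have : a β₀ l₀ ≤ ∑ l, a β₀ l :=
        Finset.single_le_sum (fun _ _ => Nat.zero_le _) (Finset.mem_univ l₀)
      omega
    have hv : ∀ z : X, (ψ : Γ → ℂ) z = (l₀ : X → ℂ) z * g β₀ := fun z => by
      rw [hψX, Finset.sum_eq_single β₀ (fun β _ hne' => by
        rw [ha β, Finset.sum_apply]; simp [hβ β hne']) (fun h => absurd (Finset.mem_univ _) h),
        ha β₀, Finset.sum_apply, Finset.sum_eq_single l₀ (fun l _ hne' => by simp [hl l hne'])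
        (fun h => absurd (Finset.mem_univ _) h)]
      simp [ha1]
    obtain ⟨φ, hφ⟩ := IsCharacter.exists_hom_of_degree_one (irr_isCharacter l₀) (hl1 l₀)
    have h1 := hv 1
    rw [OneMemClass.coe_one, hd, hl1, one_mul] at h1
    rw [hρψ, hv, hφ, norm_mul, norm_hom_apply, one_mul, ← h1, ← hρ1]
    exact Complex.norm_natCast _
  obtain ⟨c, hc⟩ := CharClifford.exists_scalar_of_norm_character_eq (ρ := ρ) x (hnorm ⟨x, hx⟩)
  apply hne
  rw [← hρψ, (character_eq_finrank_iff ρ _).mpr, Representation.char_one]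
  have h1 : ρ m * ρ x = ρ x * ρ m := by rw [hc]; simp
  rw [map_mul, map_mul, map_mul, h1, mul_assoc (ρ x), ← map_mul ρ m, mul_inv_cancel, map_one,
    mul_one, ← map_mul, mul_inv_cancel, map_one]
  rfl

/-- A cyclic group acting coprimely and nontrivially, all nontrivial elements with the same fixed
points, has order at most one more than the degree of a faithful character. -/
theorem card_le_degree_succ {G : Type u} [Group G] [Finite G] (M X : Subgroup G)
    (hnorm : X ≤ Subgroup.normalizer (M : Set G))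
    (hcop : (Nat.card M).Coprime (Nat.card X)) (hcyc : IsCyclic X)
    (hfix : ∀ y ∈ X, y ≠ 1 →
      M ⊓ Subgroup.centralizer ({y} : Set G) = M ⊓ Subgroup.centralizer (X : Set G))
    (hnt : ¬ M ≤ Subgroup.centralizer (X : Set G))
    {χ : G → ℂ} (hχ : Cfsg.IsCharacter G χ) (hfaith : ∀ g, χ g = χ 1 → g = 1) {d : ℕ}
    (hd : χ 1 = d) : Nat.card X ≤ d + 1 := by
  classical
  have := Fintype.ofFinite G
  set H : Subgroup G := M ⊔ X with hH
  have := Fintype.ofFinite H
  have hMH : M ≤ H := le_sup_left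
  have hXH : X ≤ H := le_sup_right
  have : (M.subgroupOf H).Normal := by
    rw [Subgroup.normal_subgroupOf_iff_le_normalizer hMH]
    exact sup_le Subgroup.le_normalizer hnorm
  have := Fintype.ofFinite (M.subgroupOf H)
  obtain ⟨m, hm, hm'⟩ := SetLike.not_le_iff_exists.mp hnt
  obtain ⟨x, hx, hmx⟩ : ∃ x ∈ X, x * m ≠ m * x := by
    by_contra h
    push Not at h
    exact hm' (Subgroup.mem_centralizer_iff.mpr h)
  set c : H := ⟨m * x * m⁻¹ * x⁻¹, mul_mem (mul_mem (mul_mem (hMH hm) (hXH hx))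
    (inv_mem (hMH hm))) (inv_mem (hXH hx))⟩ with hc
  have hres := isCharacter_restrict hχ H
  obtain ⟨a, ha⟩ := IsCharacter.exists_sum hres
  obtain ⟨ψ, hψa, hψ⟩ : ∃ ψ : Cfsg.IrrCharacter H, a ψ ≠ 0 ∧ (ψ : H → ℂ) c ≠ (ψ : H → ℂ) 1 := by
    by_contra h
    push Not at h
    have h1 : χ c = χ 1 := by
      have e1 := congrFun ha c
      have e2 := congrFun ha 1
      simp only [Finset.sum_apply, Pi.smul_apply, smul_eq_mul] at e1 e2
      rw [e1, ← Subgroup.coe_one H, e2]
      refine Finset.sum_congr rfl fun ψ _ => ?_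
      rcases eq_or_ne (a ψ) 0 with h0 | h0
      · simp [h0]
      · rw [h ψ h0]
    exact hmx (mul_inv_eq_iff_eq_mul.mp (mul_inv_eq_one.mp (hfaith _ h1))).symm
  choose g hg using fun γ : Cfsg.IrrCharacter H => IsCharacter.exists_degree (irr_isCharacter γ)
  have hgd : g ψ ≤ d := by
    have e := congrFun ha 1
    simp only [Finset.sum_apply, Pi.smul_apply, smul_eq_mul, hg, Subgroup.coe_one, hd] at e
    have e' : d = ∑ γ, a γ * g γ := by exact_mod_cast e
    rw [e']
    exact (Nat.le_mul_of_pos_left _ (Nat.pos_of_ne_zero hψa)).trans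
      (Finset.single_le_sum (f := fun γ => a γ * g γ) (fun _ _ => Nat.zero_le _) (Finset.mem_univ ψ))
  let eX : X.subgroupOf H ≃* X := Subgroup.subgroupOfEquivOfLe hXH
  have hcentr : ∀ y : H, y ∈ X.subgroupOf H → y ≠ 1 →
      M.subgroupOf H ⊓ Subgroup.centralizer ({y} : Set H) =
      M.subgroupOf H ⊓ Subgroup.centralizer ((X.subgroupOf H : Subgroup H) : Set H) := by
    intro y hy hy1
    refine le_antisymm (fun z hz => ?_) (inf_le_inf_left _ (Subgroup.centralizer_le
      (Set.singleton_subset_iff.mpr hy)))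
    obtain ⟨hzM, hzy⟩ := Subgroup.mem_inf.mp hz
    have h1 : (z : G) ∈ M ⊓ Subgroup.centralizer ({(y : G)} : Set G) := Subgroup.mem_inf.mpr
      ⟨hzM, Subgroup.mem_centralizer_singleton_iff.mpr
        (congrArg Subtype.val (Subgroup.mem_centralizer_singleton_iff.mp hzy))⟩
    rw [hfix y hy fun h => hy1 (Subtype.ext h)] at h1
    exact Subgroup.mem_inf.mpr ⟨hzM, Subgroup.mem_centralizer_iff.mpr fun w hw =>
      Subtype.ext (Subgroup.mem_centralizer_iff.mp (Subgroup.mem_inf.mp h1).2 w hw)⟩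
  have key := card_le_degree_succ_aux (M.subgroupOf H) (X.subgroupOf H)
    (by rw [Nat.card_congr (Subgroup.subgroupOfEquivOfLe hMH).toEquiv, Nat.card_congr eX.toEquiv]
        exact hcop)
    (by rw [← Subgroup.subgroupOf_sup hMH hXH, ← hH, Subgroup.subgroupOf_self])
    (eX.isCyclic.mpr hcyc) hcentr ψ (m := ⟨m, hMH hm⟩) (x := ⟨x, hXH hx⟩) hm hx hψ (hg ψ)
  rw [Nat.card_congr eX.toEquiv] at key
  omega

end Cfsg.Agent.CharCore
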