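import Cfsg.Agent.Lib.CharCore.Basic

/-!
# Representations with equal characters are equivalent

Library `CharCore`, part 8.
-/

set_option autoImplicit false
set_option linter.unusedSectionVars false

open Module

namespace Cfsg.Agent.CharCore

universe u v w

variable {G : Type u} [Group G]

/-- The average `⟨χ_σ, χ_ρ⟩` is the dimension of the space of intertwining maps. -/
theorem classInner_eq_finrank_intertwiningMap [Fintype G] {V : Type v} [AddCommGroup V]
    [Module ℂ V] [FiniteDimensional ℂ V] {W : Type w} [AddCommGroup W] [Module ℂ W]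
    [FiniteDimensional ℂ W] (ρ : Representation ℂ G V) (σ : Representation ℂ G W) :
    Cfsg.classInner σ.character ρ.character =
      (finrank ℂ (Representation.IntertwiningMap ρ σ) : ℂ) := by
  have := (invertibleCard (G := G)).some
  rw [classInner_eq_inv _ (isCharacter_character ρ)]
  exact Representation.card_inv_mul_sum_char_mul_char_eq_finrank ρ σ

variable [Finite G]

/-- If the character of `ρ` is a summand of the character of `σ`, then `ρ` embeds in `σ`. -/
theorem exists_injective_intertwining {V : Type v} [AddCommGroup V] [Module ℂ V]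
    [FiniteDimensional ℂ V] (ρ : Representation ℂ G V) :
    ∀ (W : Type w) [AddCommGroup W] [Module ℂ W] [FiniteDimensional ℂ W]
      (σ : Representation ℂ G W) (ψ : G → ℂ), Cfsg.IsCharacter G ψ →
      σ.character = ρ.character + ψ →
      ∃ f : Representation.IntertwiningMap ρ σ, Function.Injective f := by
  refine rep_induction (motive := fun V _ _ ρ => ∀ (W : Type w) [AddCommGroup W] [Module ℂ W]
      [FiniteDimensional ℂ W] (σ : Representation ℂ G W) (ψ : G → ℂ), Cfsg.IsCharacter G ψ →
      σ.character = ρ.character + ψ →
      ∃ f : Representation.IntertwiningMap ρ σ, Function.Injective f) ?_ ?_ ?_ V ρ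
  · intro V _ _ _ ρ hV W _ _ _ σ ψ _ _
    exact ⟨0, fun a b _ => Subsingleton.elim a b⟩
  · intro V _ _ _ ρ hρ W _ _ _ σ ψ hψ he
    have := Fintype.ofFinite G
    obtain ⟨k, hk⟩ := IsCharacter.exists_classInner_eq_natCast hψ (isCharacter_character ρ)
    have hd := classInner_eq_finrank_intertwiningMap ρ σ
    rw [he, classInner_add_left, hk, (isIrreducible_iff ρ).mp hρ] at hd
    have hd' : 1 + k = finrank ℂ (Representation.IntertwiningMap ρ σ) := by exact_mod_cast hd
    have : Nontrivial (Representation.IntertwiningMap ρ σ) :=
      Module.nontrivial_of_finrank_pos (R := ℂ) (by omega)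
    obtain ⟨f, hf⟩ := exists_ne (0 : Representation.IntertwiningMap ρ σ)
    exact ⟨f, (Representation.IsIrreducible.injective_or_eq_zero f).resolve_right hf⟩
  · intro V _ _ _ ρ S T hST _ _ hS hT W _ _ _ σ ψ hψ he
    rw [character_eq_add_of_isCompl ρ S T hST, add_assoc] at he
    obtain ⟨f, hf⟩ := hS W σ _ (isCharacter_add (isCharacter_character _) hψ) he
    obtain ⟨R', hR⟩ := exists_isCompl_subrep σ f.range
    have hRc := isCompl_toSubmodule hR
    let e : S.toRepresentation.Equiv f.range.toRepresentation :=
      Representation.Equiv.mk (LinearEquiv.ofInjective f.toLinearMap hf) fun g =>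
        LinearMap.ext fun v => Subtype.ext (Representation.IntertwiningMap.isIntertwining _ _ f g v)
    have hchar := character_eq_add_of_isCompl σ _ R' hRc
    rw [← Representation.char_iso e, he] at hchar
    obtain ⟨g, hg⟩ := hT R'.toSubmodule R'.toRepresentation ψ hψ (add_left_cancel hchar).symm
    let d := Submodule.prodEquivOfIsCompl S.toSubmodule T.toSubmodule hST
    let h : V →ₗ[ℂ] W :=
      (f.toLinearMap.coprod (R'.toSubmodule.subtype ∘ₗ g.toLinearMap)) ∘ₗ d.symm.toLinearMap
    have hh : ∀ a b, h (d (a, b)) = f a + (g b : W) := fun a b => by simp [h]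
    refine ⟨⟨h, fun x => LinearMap.ext fun v => ?_⟩, ?_⟩
    · obtain ⟨⟨a, b⟩, rfl⟩ := d.surjective v
      have h1 : ρ x (d (a, b)) = d (S.toRepresentation x a, T.toRepresentation x b) := by
        simp [d, Subrepresentation.toRepresentation]
      simp only [LinearMap.comp_apply]
      rw [h1, hh, hh, map_add, Representation.IntertwiningMap.isIntertwining _ _ f,
        Representation.IntertwiningMap.isIntertwining _ _ g]
      rfl
    · show Function.Injective h
      rw [← LinearMap.ker_eq_bot, LinearMap.ker_eq_bot']
      intro v hv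
      obtain ⟨⟨a, b⟩, rfl⟩ := d.surjective v
      rw [hh] at hv
      have h1 : f a ∈ f.range.toSubmodule := ⟨a, rfl⟩
      have h2 : f a ∈ R'.toSubmodule := by
        rw [eq_neg_of_add_eq_zero_left hv]
        exact neg_mem (g b).2
      have h3 : f a = 0 := Submodule.disjoint_def.mp hRc.disjoint _ h1 h2
      have ha : a = 0 := hf (h3.trans (map_zero f).symm)
      rw [h3, zero_add] at hv
      have hb : b = 0 := hg ((Subtype.ext hv : g b = 0).trans (map_zero g).symm)
      simp [ha, hb]

/-- Representations with equal characters are equivalent. -/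
theorem nonempty_equiv_of_character_eq {V : Type v} [AddCommGroup V] [Module ℂ V]
    [FiniteDimensional ℂ V] {W : Type w} [AddCommGroup W] [Module ℂ W] [FiniteDimensional ℂ W]
    (ρ : Representation ℂ G V) (σ : Representation ℂ G W) (h : ρ.character = σ.character) :
    Nonempty (ρ.Equiv σ) := by
  obtain ⟨f, hf⟩ := exists_injective_intertwining ρ W σ 0 isCharacter_zero (by rw [h, add_zero])
  have hdim : finrank ℂ V = finrank ℂ W := by
    have h1 := congrFun h 1
    simp only [Representation.char_one] at h1
    exact_mod_cast h1
  exact ⟨Representation.IntertwiningMap.ofBijective f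
    ⟨hf, (LinearMap.injective_iff_surjective_of_finrank_eq_finrank hdim (f := f.toLinearMap)).mp hf⟩⟩

end Cfsg.Agent.CharCore
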