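import Cfsg.Agent.Lib.CharCore.Equiv
import Cfsg.Agent.Lib.CharClifford.Central
import Cfsg.Agent.Lib.CharInd.Char
import Mathlib.Algebra.Group.Subgroup.ZPowers.Basic
import Mathlib.RingTheory.Int.Basic
import Mathlib.GroupTheory.OrderOfElement

/-!
# Projective extensions of an invariant irreducible representation of a normal subgroup

For `N` normal in `G` and an irreducible `π` of `N` with invariant character we choose `T g` with
`T g * π n = π (g n g⁻¹) * T g`.  If `ρ` is a representation of `G` then `G` acts projectively on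
the multiplicity space `Hom_N(π, ρ)`.

Consequences: the ramification index divides the index of `N`; `π` extends to `G` if it extends
to a preimage of each Sylow subgroup of `G ⧸ N`.

Library `CharCore`, part 15.
-/

set_option autoImplicit false
set_option linter.unusedSectionVars false

open Module

namespace Cfsg.Agent.CharCore

universe u v w

variable {G : Type u} [Group G] {N : Subgroup G} [N.Normal]
variable {V : Type v} [AddCommGroup V] [Module ℂ V] [FiniteDimensional ℂ V]

/-- `T g` intertwines `π` with its conjugate by `g`. -/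
def IsProjExt (π : Representation ℂ N V) (T : G → (Module.End ℂ V)ˣ) : Prop :=
  ∀ (g : G) (n : N),
    (T g : Module.End ℂ V) * π n = π (MulAut.conjNormal g n) * (T g : Module.End ℂ V)

section Basic

variable {π : Representation ℂ N V}

theorem IsProjExt.apply {T : G → (Module.End ℂ V)ˣ} (hT : IsProjExt π T) (g : G) (n : N) (v : V) :
    (T g : Module.End ℂ V) (π n v) = π (MulAut.conjNormal g n) ((T g : Module.End ℂ V) v) :=
  LinearMap.congr_fun (hT g n) v

theorem IsProjExt.inv_apply {T : G → (Module.End ℂ V)ˣ} (hT : IsProjExt π T) (g : G) (n : N)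
    (v : V) : ((T g)⁻¹ : (Module.End ℂ V)ˣ).val (π n v) =
      π ((MulAut.conjNormal g : MulAut N).symm n) (((T g)⁻¹ : (Module.End ℂ V)ˣ).val v) := by
  have h := hT.apply g ((MulAut.conjNormal g : MulAut N).symm n)
    (((T g)⁻¹ : (Module.End ℂ V)ˣ).val v)
  rw [MulEquiv.apply_symm_apply] at h
  have h2 := congrArg ((T g)⁻¹ : (Module.End ℂ V)ˣ).val h
  rw [← Module.End.mul_apply, Units.inv_mul, Module.End.one_apply] at h2
  have h3 : (T g : Module.End ℂ V) (((T g)⁻¹ : (Module.End ℂ V)ˣ).val v) = v := by
    rw [← Module.End.mul_apply, Units.mul_inv, Module.End.one_apply]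
  rw [h3] at h2
  exact h2.symm

variable [π.IsIrreducible]

theorem IsProjExt.exists_smul {T : G → (Module.End ℂ V)ˣ} (hT : IsProjExt π T) (g : G)
    (S : (Module.End ℂ V)ˣ)
    (hS : ∀ n, (S : Module.End ℂ V) * π n = π (MulAut.conjNormal g n) * (S : Module.End ℂ V)) :
    ∃ c : ℂˣ, (S : Module.End ℂ V) = (c : ℂ) • (T g : Module.End ℂ V) := by
  obtain ⟨c, hc⟩ := CharClifford.exists_scalar_of_commute π
    (((T g)⁻¹ * S : (Module.End ℂ V)ˣ) : Module.End ℂ V) fun n => by
      show _ * _ = _ * _
      refine LinearMap.ext fun v => ?_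
      simp only [Units.val_mul, Module.End.mul_apply]
      rw [show (S : Module.End ℂ V) (π n v) = π (MulAut.conjNormal g n) ((S : Module.End ℂ V) v)
        from LinearMap.congr_fun (hS n) v, hT.inv_apply, MulEquiv.symm_apply_apply]
  have hS' : (S : Module.End ℂ V) = c • (T g : Module.End ℂ V) := by
    have h := congrArg ((T g : Module.End ℂ V) * ·) hc
    simp only [Units.val_mul, ← mul_assoc, Units.mul_inv, one_mul, mul_smul_comm, mul_one] at h
    exact h
  have hc0 : c ≠ 0 := by
    intro h0
    have hne : Nontrivial V := Module.nontrivial_of_finrank_pos (finrank_pos_of_irreducible π)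
    exact S.ne_zero (by rw [hS', h0, zero_smul])
  exact ⟨Units.mk0 c hc0, hS'⟩

theorem IsProjExt.exists_cocycle {T : G → (Module.End ℂ V)ˣ} (hT : IsProjExt π T) :
    ∃ α : G → G → ℂˣ, ∀ g h, (T g : Module.End ℂ V) * (T h : Module.End ℂ V) =
      (α g h : ℂ) • (T (g * h) : Module.End ℂ V) := by
  have h : ∀ g h, ∃ c : ℂˣ, ((T g * T h : (Module.End ℂ V)ˣ) : Module.End ℂ V) =
      (c : ℂ) • (T (g * h) : Module.End ℂ V) := fun g h => hT.exists_smul _ _ fun n => by
    rw [Units.val_mul, mul_assoc, hT h n, ← mul_assoc, hT g, mul_assoc, map_mul, MulAut.mul_apply]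
  choose α hα using h
  exact ⟨α, fun g h => by rw [← hα g h, Units.val_mul]⟩

variable (π)

theorem exists_projExt [Finite N]
    (hinv : ∀ (g : G) (n : N), π.character (MulAut.conjNormal g n) = π.character n) :
    ∃ T : G → (Module.End ℂ V)ˣ, IsProjExt π T := by
  have h : ∀ g : G, ∃ S : (Module.End ℂ V)ˣ, ∀ n,
      (S : Module.End ℂ V) * π n = π (MulAut.conjNormal g n) * (S : Module.End ℂ V) := by
    intro g
    let σ : Representation ℂ N V := π.comp (MulAut.conjNormal g : MulAut N).toMonoidHom
    obtain ⟨φ⟩ := nonempty_equiv_of_character_eq π σ (funext fun n => (hinv g n).symm)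
    refine ⟨⟨φ.toLinearEquiv.toLinearMap, φ.toLinearEquiv.symm.toLinearMap,
      LinearMap.ext fun v => φ.toLinearEquiv.apply_symm_apply v,
      LinearMap.ext fun v => φ.toLinearEquiv.symm_apply_apply v⟩, fun n => ?_⟩
    exact LinearMap.ext fun v => Representation.IntertwiningMap.isIntertwining _ _
      φ.toIntertwiningMap n v
  choose T hT using h
  exact ⟨T, fun g n => hT g n⟩

theorem exists_projExt_det [Finite N]
    (hinv : ∀ (g : G) (n : N), π.character (MulAut.conjNormal g n) = π.character n) :
    ∃ T : G → (Module.End ℂ V)ˣ, IsProjExt π T ∧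
      ∀ g, LinearMap.det (T g : Module.End ℂ V) = 1 := by
  obtain ⟨T, hT⟩ := exists_projExt π hinv
  have hd := finrank_pos_of_irreducible π
  have hr : ∀ g, ∃ t : ℂˣ, (t : ℂ) ^ finrank ℂ V * LinearMap.det (T g : Module.End ℂ V) = 1 := by
    intro g
    have hu : IsUnit (LinearMap.det (T g : Module.End ℂ V)) := (T g).isUnit.map LinearMap.det
    obtain ⟨t, ht⟩ := IsAlgClosed.exists_pow_nat_eq (LinearMap.det (T g : Module.End ℂ V))⁻¹ hd
    have ht0 : t ≠ 0 := fun h0 => by
      rw [h0, zero_pow hd.ne'] at ht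
      exact hu.ne_zero (inv_eq_zero.mp ht.symm)
    exact ⟨Units.mk0 t ht0, by rw [Units.val_mk0, ht, inv_mul_cancel₀ hu.ne_zero]⟩
  choose t ht using hr
  refine ⟨fun g => t g • T g, fun g n => ?_, fun g => ?_⟩
  · rw [Units.val_smul, smul_mul_assoc, mul_smul_comm, hT g n]
  · rw [Units.val_smul, Units.smul_def, LinearMap.det_smul]
    exact ht g

theorem exists_projExt_coset [Finite N]
    (hinv : ∀ (g : G) (n : N), π.character (MulAut.conjNormal g n) = π.character n) :
    ∃ T : G → (Module.End ℂ V)ˣ, IsProjExt π T ∧ T 1 = 1 ∧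
      ∀ (g : G) (n : N), (T (g * n) : Module.End ℂ V) = (T g : Module.End ℂ V) * π n := by
  obtain ⟨S, hS⟩ := exists_projExt π hinv
  let r : G → G := fun g => (QuotientGroup.mk g : G ⧸ N).out
  have hr : ∀ g, (r g)⁻¹ * g ∈ N := fun g => QuotientGroup.eq.mp (QuotientGroup.out_eq' _)
  let U : G → (Module.End ℂ V)ˣ := fun g => S (r g) * π.toHomUnits ⟨(r g)⁻¹ * g, hr g⟩
  have hU : IsProjExt π U := fun g n => by
    have hc : MulAut.conjNormal g n = MulAut.conjNormal (r g)
        ((⟨(r g)⁻¹ * g, hr g⟩ : N) * n * (⟨(r g)⁻¹ * g, hr g⟩ : N)⁻¹) :=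
      Subtype.ext (by simp [mul_assoc])
    simp only [U, Units.val_mul, MonoidHom.coe_toHomUnits]
    rw [hc, ← mul_assoc (π (MulAut.conjNormal (r g) _)), ← hS, mul_assoc, mul_assoc, ← map_mul,
      ← map_mul]
    congr 2
    group
  have hUn : ∀ (g : G) (n : N),
      (U (g * n) : Module.End ℂ V) = (U g : Module.End ℂ V) * π n := by
    intro g n
    have hrr : r (g * n) = r g := congrArg Quotient.out (QuotientGroup.mk_mul_of_mem g n.2)
    simp only [U, Units.val_mul, MonoidHom.coe_toHomUnits, hrr]
    rw [mul_assoc, ← map_mul]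
    congr 2
    exact Subtype.ext (by simp [mul_assoc])
  have h1 : ∀ n, Commute (((U 1)⁻¹ : (Module.End ℂ V)ˣ) : Module.End ℂ V) (π n) := fun n => by
    have h := hU 1 n
    rw [map_one, MulAut.one_apply] at h
    exact Commute.units_inv_left h
  refine ⟨fun g => (U 1)⁻¹ * U g, fun g n => ?_, inv_mul_cancel _, fun g n => ?_⟩
  · rw [Units.val_mul, mul_assoc, hU g n, ← mul_assoc, (h1 _).eq, mul_assoc]
  · show ((U 1)⁻¹ : (Module.End ℂ V)ˣ).val * (U (g * n)).val =
      ((U 1)⁻¹ : (Module.End ℂ V)ˣ).val * (U g).val * π n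
    rw [hUn, mul_assoc]

end Basic

section Mult

variable {π : Representation ℂ N V} {T : G → (Module.End ℂ V)ˣ} (hT : IsProjExt π T)
variable {W : Type w} [AddCommGroup W] [Module ℂ W] [FiniteDimensional ℂ W]
variable (ρ : Representation ℂ G W)

/-- The projective action on the multiplicity space. -/
noncomputable def multAct (g : G) :
    Module.End ℂ (Representation.IntertwiningMap π (ρ.comp N.subtype)) where
  toFun f := ⟨ρ g ∘ₗ f.toLinearMap ∘ₗ ((T g)⁻¹ : (Module.End ℂ V)ˣ).val, fun n => by
    refine LinearMap.ext fun v => ?_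
    simp only [LinearMap.comp_apply, Representation.IntertwiningMap.coe_toLinearMap,
      MonoidHom.coe_comp, Function.comp_apply, Subgroup.coe_subtype]
    rw [hT.inv_apply, Representation.IntertwiningMap.isIntertwining _ _ f,
      MonoidHom.comp_apply, ← Module.End.mul_apply (ρ g), ← map_mul,
      ← Module.End.mul_apply (ρ (n : G)), ← map_mul]
    congr 2
    have hn : ((MulAut.conjNormal g : MulAut N).symm n : G) = g⁻¹ * n * g :=
      MulAut.conjNormal_symm_apply g n
    show g * ((MulAut.conjNormal g : MulAut N).symm n : G) = n * g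
    rw [hn]
    group⟩
  map_add' f f' := Representation.IntertwiningMap.ext (LinearMap.ext fun v => by simp)
  map_smul' c f := Representation.IntertwiningMap.ext (LinearMap.ext fun v => by simp)

theorem multAct_apply (g : G) (f : Representation.IntertwiningMap π (ρ.comp N.subtype)) (v : V) :
    multAct hT ρ g f v = ρ g (f (((T g)⁻¹ : (Module.End ℂ V)ˣ).val v)) := rfl

theorem multAct_mul {c : ℂˣ} {g h : G} (hc : (T g : Module.End ℂ V) * (T h : Module.End ℂ V) =
    (c : ℂ) • (T (g * h) : Module.End ℂ V)) :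
    multAct hT ρ g * multAct hT ρ h = (c : ℂ)⁻¹ • multAct hT ρ (g * h) := by
  have hinv : ((T h)⁻¹ : (Module.End ℂ V)ˣ).val * ((T g)⁻¹ : (Module.End ℂ V)ˣ).val =
      (c : ℂ)⁻¹ • ((T (g * h))⁻¹ : (Module.End ℂ V)ˣ).val := by
    rw [← Units.val_mul, ← mul_inv_rev]
    refine Units.inv_eq_of_mul_eq_one_right ?_
    rw [Units.val_mul, hc, smul_mul_smul_comm, Units.mul_inv, mul_inv_cancel₀ c.ne_zero, one_smul]
  refine LinearMap.ext fun f => Representation.IntertwiningMap.ext (LinearMap.ext fun v => ?_)
  show ρ g (ρ h (f (((T h)⁻¹ : (Module.End ℂ V)ˣ).val (((T g)⁻¹ : (Module.End ℂ V)ˣ).val v)))) =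
    (c : ℂ)⁻¹ • ρ (g * h) (f (((T (g * h))⁻¹ : (Module.End ℂ V)ˣ).val v))
  rw [← Module.End.mul_apply ((T h)⁻¹ : (Module.End ℂ V)ˣ).val, hinv, map_mul,
    LinearMap.smul_apply, map_smul, map_smul, map_smul, Module.End.mul_apply]

theorem multAct_of_mem {g : G} (n : N) (hgn : g = n) {c : ℂˣ}
    (hc : (T g : Module.End ℂ V) = (c : ℂ) • π n) :
    multAct hT ρ g = (c : ℂ)⁻¹ • 1 := by
  have hinv : ((T g)⁻¹ : (Module.End ℂ V)ˣ).val = (c : ℂ)⁻¹ • π n⁻¹ := by
    refine Units.inv_eq_of_mul_eq_one_right ?_
    rw [hc, smul_mul_smul_comm, ← map_mul, mul_inv_cancel, map_one, mul_inv_cancel₀ c.ne_zero,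
      one_smul]
  refine LinearMap.ext fun f => Representation.IntertwiningMap.ext (LinearMap.ext fun v => ?_)
  show ρ g (f (((T g)⁻¹ : (Module.End ℂ V)ˣ).val v)) = (c : ℂ)⁻¹ • f v
  rw [hinv, LinearMap.smul_apply, map_smul, map_smul,
    Representation.IntertwiningMap.isIntertwining _ _ f, MonoidHom.comp_apply, hgn,
    ← Module.End.mul_apply, ← map_mul, Subgroup.coe_subtype, ← Subgroup.coe_mul, mul_inv_cancel,
    Subgroup.coe_one, map_one, Module.End.one_apply]

end Mult

section Ramification

variable [Finite G] {π : Representation ℂ N V} [π.IsIrreducible]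

/-- If `ρ` is irreducible and restricts to `e` times the invariant `π`, then `e` divides the
index of `N`. -/
theorem mult_dvd_index
    (hinv : ∀ (g : G) (n : N), π.character (MulAut.conjNormal g n) = π.character n)
    {W : Type w} [AddCommGroup W] [Module ℂ W] [FiniteDimensional ℂ W]
    (ρ : Representation ℂ G W) [ρ.IsIrreducible] (e : ℕ)
    (hres : ∀ n : N, ρ.character n = (e : ℂ) * π.character n) : e ∣ N.index := by
  classical
  have := Fintype.ofFinite G
  have := Fintype.ofFinite N
  obtain ⟨T, hT, hdet⟩ := exists_projExt_det π hinv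
  obtain ⟨α, hα⟩ := hT.exists_cocycle
  have hd := finrank_pos_of_irreducible π
  set d := finrank ℂ V with hddef
  have hαd : ∀ g h, (α g h : ℂ) ^ d = 1 := fun g h => by
    have := congrArg LinearMap.det (hα g h)
    rw [map_mul, hdet, hdet, LinearMap.det_smul, hdet, one_mul, mul_one] at this
    exact this.symm
  have hM : finrank ℂ (Representation.IntertwiningMap π (ρ.comp N.subtype)) = e := by
    have h := classInner_eq_finrank_intertwiningMap π (ρ.comp N.subtype)
    rw [show Representation.character (ρ.comp N.subtype) = (e : ℂ) • π.character from funext hres,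
      classInner_smul_left, (isIrreducible_iff π).mp inferInstance, mul_one] at h
    exact_mod_cast h.symm
  have hW : finrank ℂ W = e * d := by
    have h := hres 1
    rw [Subgroup.coe_one, Representation.char_one, Representation.char_one] at h
    exact_mod_cast h
  let M := Representation.IntertwiningMap π (ρ.comp N.subtype)
  let R : G → Module.End ℂ M := multAct hT ρ
  have hR : ∀ g h, R g * R h = (α g h : ℂ)⁻¹ • R (g * h) := fun g h => multAct_mul hT ρ (hα g h)
  -- scalars on `N`
  have hRN : ∀ n : N, ∃ c : ℂˣ, R n = (c : ℂ)⁻¹ • 1 := fun n => by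
    obtain ⟨c, hc⟩ := hT.exists_smul (n : G) (π.toHomUnits n) fun k => by
      rw [MonoidHom.coe_toHomUnits, ← map_mul, ← map_mul]
      congr 1
      exact Subtype.ext (by simp [mul_assoc])
    rw [MonoidHom.coe_toHomUnits] at hc
    refine ⟨c⁻¹, multAct_of_mem hT ρ n rfl ?_⟩
    rw [hc, smul_smul, ← Units.val_mul, inv_mul_cancel, Units.val_one, one_smul]
  have hR1 : R 1 = (α 1 1 : ℂ)⁻¹ • 1 := by
    obtain ⟨c, hc⟩ := hRN 1
    rw [Subgroup.coe_one] at hc
    have h := hR 1 1
    rw [mul_one, hc, smul_mul_smul_comm, one_mul, smul_smul] at h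
    rcases subsingleton_or_nontrivial M with hs | hs
    · exact Subsingleton.elim _ _
    · rw [hc]
      congr 1
      have h' := smul_left_injective ℂ (one_ne_zero (α := Module.End ℂ M)) h
      exact mul_right_cancel₀ (inv_ne_zero c.ne_zero) h'
  have hunit : ∀ g, IsUnit (R g) := fun g => by
    refine IsUnit.of_mul_eq_one (((α g g⁻¹ : ℂ) * (α 1 1 : ℂ)) • R g⁻¹) ?_
    · rw [mul_smul_comm, hR, smul_smul, mul_inv_cancel, hR1, smul_smul]
      field_simp
      simp
  -- the finite group
  let S : Submonoid (Module.End ℂ M)ˣ :=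
    { carrier := {u | ∃ (z : ℂ) (g : G), z ^ d = 1 ∧ (u : Module.End ℂ M) = z • R g}
      one_mem' := ⟨(α 1 1 : ℂ), 1, hαd 1 1, by
        rw [hR1, smul_smul, mul_inv_cancel₀ (α 1 1).ne_zero, one_smul, Units.val_one]⟩
      mul_mem' := by
        rintro u u' ⟨z, g, hz, hu⟩ ⟨z', g', hz', hu'⟩
        refine ⟨z * z' * (α g g' : ℂ)⁻¹, g * g', ?_, ?_⟩
        · rw [mul_pow, mul_pow, hz, hz', inv_pow, hαd, inv_one, one_mul, one_mul]
        · rw [Units.val_mul, hu, hu', smul_mul_smul_comm, hR, smul_smul] }
  have hSfin : (S : Set (Module.End ℂ M)ˣ).Finite := by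
    have hz : {z : ℂ | z ^ d = 1}.Finite :=
      (Polynomial.nthRoots d (1 : ℂ)).toFinset.finite_toSet.subset fun z hz => by
        simpa [Polynomial.mem_nthRoots hd] using hz
    refine ((hz.prod (Set.finite_univ (α := G))).image
      (fun zg => zg.1 • R zg.2)).preimage Units.val_injective.injOn |>.subset ?_
    rintro u ⟨z, g, hz', hu⟩
    exact ⟨(z, g), ⟨hz', trivial⟩, hu.symm⟩
  let H : Subgroup (Module.End ℂ M)ˣ :=
    { S with
      inv_mem' := fun {u} hu => by
        have hfo : IsOfFinOrder u :=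
          finite_powers.mp (hSfin.subset (Submonoid.powers_le.mpr hu))
        have h1 : 0 < orderOf u := hfo.orderOf_pos
        have h2 : u⁻¹ = u ^ (orderOf u - 1) := by
          rw [inv_eq_iff_mul_eq_one, ← pow_succ', Nat.sub_add_cancel h1, pow_orderOf_eq_one]
        show u⁻¹ ∈ S
        rw [h2]
        exact pow_mem hu _ }
  have : Finite H := hSfin.to_subtype
  let σ : Representation ℂ H M := (Units.coeHom (Module.End ℂ M)).comp H.subtype
  let Ru : G → H := fun g => ⟨(hunit g).unit, 1, g, one_pow _, by rw [one_smul]; rfl⟩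
  have hRu : ∀ g, σ (Ru g) = R g := fun g => rfl
  rcases Nat.eq_zero_or_pos e with he | he
  · subst he
    exfalso
    have := finrank_pos_of_irreducible ρ
    rw [hW, zero_mul] at this
    exact lt_irrefl 0 this
  have : σ.IsIrreducible := by
    refine { exists_pair_ne := ⟨⊥, ⊤, fun h => ?_⟩, eq_bot_or_eq_top := fun U => ?_ }
    · have h' : (⊥ : Submodule ℂ M) = ⊤ := congrArg Subrepresentation.toSubmodule h
      have : Subsingleton M := (Submodule.subsingleton_iff ℂ).mp (subsingleton_of_bot_eq_top h')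
      exact he.ne' (hM.symm.trans Module.finrank_zero_of_subsingleton)
    by_cases hU : U.toSubmodule = ⊥
    · exact Or.inl (Subrepresentation.toSubmodule_injective hU)
    refine Or.inr (Subrepresentation.toSubmodule_injective ?_)
    let b := Module.finBasis ℂ U.toSubmodule
    let Φ : (Fin (finrank ℂ U.toSubmodule) → V) →ₗ[ℂ] W :=
      ∑ i, (b i : M).toLinearMap ∘ₗ LinearMap.proj i
    have hmem : ∀ (f : M), f ∈ U.toSubmodule → ∀ v, f v ∈ LinearMap.range Φ := fun f hf v => by
      refine ⟨fun i => b.repr ⟨f, hf⟩ i • v, ?_⟩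
      have h := congrArg (fun x : U.toSubmodule => (x : M) v) (b.sum_repr ⟨f, hf⟩)
      simp only [Submodule.coe_sum, Submodule.coe_smul] at h
      rw [Representation.IntertwiningMap.sum_apply] at h
      simpa [Φ, LinearMap.sum_apply] using! h
    let W' : Subrepresentation ρ :=
      { toSubmodule := LinearMap.range Φ
        apply_mem_toSubmodule := fun g w hw => by
          obtain ⟨x, rfl⟩ := hw
          simp only [Φ, LinearMap.sum_apply, map_sum]
          refine Submodule.sum_mem _ fun i _ => ?_
          have hRb : R g (b i : M) ∈ U.toSubmodule := by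
            rw [← hRu]; exact U.apply_mem_toSubmodule (Ru g) (b i).2
          have h := hmem _ hRb ((T g : Module.End ℂ V) (x i))
          rw [multAct_apply, ← Module.End.mul_apply ((T g)⁻¹ : (Module.End ℂ V)ˣ).val,
            Units.inv_mul, Module.End.one_apply] at h
          exact h }
    have hW' : W'.toSubmodule ≠ ⊥ := by
      obtain ⟨f, hf, hf0⟩ := Submodule.exists_mem_ne_zero_of_ne_bot hU
      intro h0
      apply hf0
      refine Representation.IntertwiningMap.ext (LinearMap.ext fun v => ?_)
      have := hmem f hf v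
      rw [show LinearMap.range Φ = ⊥ from h0, Submodule.mem_bot] at this
      exact this
    have hall : ∀ x : Subrepresentation ρ, x = ⊥ ∨ x = ⊤ := IsSimpleOrder.eq_bot_or_eq_top
    have hsurj : LinearMap.range Φ = ⊤ := by
      rcases hall W' with h | h
      · exact absurd (congrArg Subrepresentation.toSubmodule h) hW'
      · exact congrArg Subrepresentation.toSubmodule h
    refine Submodule.eq_top_of_finrank_eq (le_antisymm (Submodule.finrank_le _) ?_)
    have hle := LinearMap.finrank_range_le Φ
    rw [hsurj, finrank_top, hW, Module.finrank_pi_fintype, Finset.sum_const, Finset.card_univ,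
      Fintype.card_fin, smul_eq_mul] at hle
    rw [show finrank ℂ M = e from hM]
    exact Nat.le_of_mul_le_mul_right hle hd
  have h1 := CharClifford.finrank_dvd_index_center σ
  rw [show finrank ℂ M = e from hM] at h1
  refine h1.trans ?_
  -- scalars
  let Z : Subgroup H :=
    { carrier := {x | ∃ c : ℂ, ((x : (Module.End ℂ M)ˣ) : Module.End ℂ M) = c • 1}
      one_mem' := ⟨1, by simp⟩
      mul_mem' := by
        rintro x y ⟨c, hc⟩ ⟨c', hc'⟩
        exact ⟨c * c', by simp [hc, hc', smul_smul, mul_comm c c']⟩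
      inv_mem' := by
        rintro x ⟨c, hc⟩
        refine ⟨c⁻¹, ?_⟩
        rw [Subgroup.coe_inv]
        refine Units.inv_eq_of_mul_eq_one_right ?_
        rw [hc, smul_mul_smul_comm, one_mul]
        rcases eq_or_ne c 0 with rfl | hc0
        · rw [zero_smul] at hc
          have hs : (1 : Module.End ℂ M) = 0 := by
            rw [← Units.mul_inv (x : (Module.End ℂ M)ˣ), hc, zero_mul]
          rw [hs, smul_zero]
        · rw [mul_inv_cancel₀ hc0, one_smul] }
  have hZle : Z ≤ Subgroup.center H := by
    rintro x ⟨c, hc⟩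
    refine Subgroup.mem_center_iff.mpr fun y => Subtype.ext (Units.ext ?_)
    simp [hc]
  have : Z.Normal := ⟨fun x hx y => by
    rw [Subgroup.mem_center_iff.mp (hZle hx) y, mul_inv_cancel_right]; exact hx⟩
  refine (Subgroup.index_dvd_of_le hZle).trans ?_
  let φ : G →* H ⧸ Z :=
    { toFun := fun g => QuotientGroup.mk (Ru g)
      map_one' := (QuotientGroup.eq_one_iff _).mpr ⟨(α 1 1 : ℂ)⁻¹, hR1⟩
      map_mul' := fun g h => by
        rw [← QuotientGroup.mk_mul, QuotientGroup.eq]
        refine ⟨(α g h : ℂ)⁻¹, ?_⟩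
        have h1 : ((Ru g : (Module.End ℂ M)ˣ) : Module.End ℂ M) *
            ((Ru h : (Module.End ℂ M)ˣ) : Module.End ℂ M) =
            (α g h : ℂ)⁻¹ • ((Ru (g * h) : (Module.End ℂ M)ˣ) : Module.End ℂ M) := hR g h
        rw [Subgroup.coe_mul, Subgroup.coe_mul, Subgroup.coe_inv, Units.val_mul, Units.val_mul, h1,
          mul_smul_comm, Units.inv_mul] }
  have hφsurj : Function.Surjective φ := by
    intro q
    obtain ⟨⟨u, z, g, hz, hu⟩, rfl⟩ := QuotientGroup.mk_surjective q
    refine ⟨g, QuotientGroup.eq.mpr ⟨z, ?_⟩⟩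
    rw [Subgroup.coe_mul, Subgroup.coe_inv, Units.val_mul]
    show _ * (u : Module.End ℂ M) = _
    rw [hu, mul_smul_comm, ← hRu g]
    show z • (((Ru g : (Module.End ℂ M)ˣ)⁻¹ : (Module.End ℂ M)ˣ).val *
      ((Ru g : (Module.End ℂ M)ˣ) : Module.End ℂ M)) = _
    rw [Units.inv_mul]
  have hker : N ≤ φ.ker := fun n hn => by
    obtain ⟨c, hc⟩ := hRN ⟨n, hn⟩
    exact MonoidHom.mem_ker.mpr ((QuotientGroup.eq_one_iff _).mpr ⟨_, hc⟩)
  calc Z.index = Nat.card (H ⧸ Z) := rfl
    _ = φ.ker.index := by
        rw [Subgroup.index_ker, MonoidHom.range_eq_top.mpr hφsurj, Subgroup.card_top]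
    _ ∣ N.index := Subgroup.index_dvd_of_le hker

end Ramification

section Extend

variable [Finite G] {π : Representation ℂ N V} [π.IsIrreducible]

/-- If for every prime some representation of `G` restricts to a multiple of `π` prime to it,
then `π` extends to `G`. -/
theorem exists_extension_of_multiples
    (hinv : ∀ (g : G) (n : N), π.character (MulAut.conjNormal g n) = π.character n)
    (h : ∀ p : ℕ, p.Prime → ∃ (m k : ℕ) (ρ : Representation ℂ G (Fin k → ℂ)),
      m.Coprime p ∧ ∀ n : N, ρ.character n = (m : ℂ) * π.character n) :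
    ∃ ρ : Representation ℂ G V, ∀ n : N, ρ n = π n := by
  classical
  have := Fintype.ofFinite G
  have := Fintype.ofFinite N
  obtain ⟨T, hT, hT1, hTn⟩ := exists_projExt_coset π hinv
  obtain ⟨α, hα⟩ := hT.exists_cocycle
  let B : AddSubgroup ℤ :=
    { carrier := {e | ∃ δ : G → ℂˣ, (∀ (g : G) (n : N), δ (g * n) = δ g) ∧
        ∀ g h, α g h ^ e * (δ g * δ h) = δ (g * h)}
      zero_mem' := ⟨1, fun _ _ => rfl, fun _ _ => by simp⟩
      add_mem' := by
        rintro e e' ⟨δ, h1, h2⟩ ⟨δ', h1', h2'⟩
        refine ⟨δ * δ', fun g n => by simp [h1, h1'], fun g h => ?_⟩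
        simp only [Pi.mul_apply]
        rw [← h2 g h, ← h2' g h, zpow_add]
        simp only [mul_comm, mul_left_comm, mul_assoc]
      neg_mem' := by
        rintro e ⟨δ, h1, h2⟩
        refine ⟨δ⁻¹, fun g n => by simp [h1], fun g h => ?_⟩
        simp only [Pi.inv_apply]
        rw [← h2 g h, zpow_neg, mul_inv, mul_inv] }
  have hmem : ∀ (m k : ℕ) (ρ : Representation ℂ G (Fin k → ℂ)),
      (∀ n : N, ρ.character n = (m : ℂ) * π.character n) → (m : ℤ) ∈ B := by
    intro m k ρ hρ
    have hM : finrank ℂ (Representation.IntertwiningMap π (ρ.comp N.subtype)) = m := by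
      have h := classInner_eq_finrank_intertwiningMap π (ρ.comp N.subtype)
      rw [show Representation.character (ρ.comp N.subtype) = (m : ℂ) • π.character from funext hρ,
        classInner_smul_left, (isIrreducible_iff π).mp inferInstance, mul_one] at h
      exact_mod_cast h.symm
    let R := multAct hT ρ
    have hR : ∀ g h, R g * R h = (α g h : ℂ)⁻¹ • R (g * h) := fun g h => multAct_mul hT ρ (hα g h)
    have hR1 : R 1 = 1 := by
      have := multAct_of_mem hT ρ (g := 1) 1 rfl (c := 1) (by simp [hT1])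
      simpa using this
    have hdet : ∀ g, LinearMap.det (R g) ≠ 0 := fun g h0 => by
      have h := congrArg LinearMap.det (hR g g⁻¹)
      rw [map_mul, h0, zero_mul, mul_inv_cancel, hR1, LinearMap.det_smul, map_one, mul_one] at h
      exact pow_ne_zero _ (inv_ne_zero (α g g⁻¹).ne_zero) h.symm
    refine ⟨fun g => Units.mk0 _ (hdet g), fun g n => Units.ext ?_, fun g h => Units.ext ?_⟩
    · show LinearMap.det (R (g * n)) = LinearMap.det (R g)
      have hgn : (α g n : ℂ) = 1 := by
        have h := hα g (n : G)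
        have hn : (T (n : G) : Module.End ℂ V) = π n := by
          have := hTn 1 n
          rwa [one_mul, hT1, Units.val_one, one_mul] at this
        rw [hn, ← hTn] at h
        have hne : (T (g * n) : Module.End ℂ V) ≠ 0 :=
          have : Nontrivial V := Module.nontrivial_of_finrank_pos (finrank_pos_of_irreducible π)
          (T (g * n)).ne_zero
        have h' : (1 : ℂ) • (T (g * n) : Module.End ℂ V) = (α g n : ℂ) • (T (g * n) :) := by
          rwa [one_smul]
        exact (smul_left_injective ℂ hne h').symm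
      have hRn : R (n : G) = 1 := by
        have := multAct_of_mem hT ρ n rfl (c := 1) (by
          have := hTn 1 n
          rw [one_mul, hT1, Units.val_one, one_mul] at this
          simp [this])
        simpa using this
      have h := congrArg LinearMap.det (hR g (n : G))
      rw [hRn, mul_one, hgn, inv_one, one_smul] at h
      exact h.symm
    · have h' := congrArg LinearMap.det (hR g h)
      rw [map_mul, LinearMap.det_smul, hM] at h'
      simp only [zpow_natCast, Units.val_mul, Units.val_pow_eq_pow_val, Units.val_mk0]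
      rw [h', inv_pow, ← mul_assoc, mul_inv_cancel₀ (pow_ne_zero _ (α g h).ne_zero), one_mul]
  obtain ⟨a, ha⟩ := Int.subgroup_cyclic B
  have ha1 : a.natAbs = 1 := by
    by_contra hne
    obtain ⟨p, hp, hpa⟩ := Nat.exists_prime_and_dvd hne
    obtain ⟨m, k, ρ, hm, hρ⟩ := h p hp
    have hmB := hmem m k ρ hρ
    rw [ha, AddSubgroup.mem_closure_singleton] at hmB
    obtain ⟨t, ht⟩ := hmB
    have hdvd : (p : ℤ) ∣ (m : ℤ) := by
      rw [← ht, smul_eq_mul]
      exact dvd_mul_of_dvd_right (Int.natCast_dvd.mpr hpa) t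
    exact hp.not_dvd_one (hm.gcd_eq_one ▸ Nat.dvd_gcd (Int.natCast_dvd_natCast.mp hdvd) dvd_rfl)
  have h1B : (1 : ℤ) ∈ B := by
    have haB : a ∈ B := by rw [ha]; exact AddSubgroup.subset_closure rfl
    rcases Int.natAbs_eq a with h' | h'
    · rw [ha1] at h'; simpa [h'] using haB
    · rw [ha1] at h'; simpa [h'] using neg_mem haB
  obtain ⟨δ, hδN, hδ⟩ := h1B
  simp only [zpow_one] at hδ
  have hα11 : α 1 1 = 1 := by
    have h := hα 1 1
    rw [mul_one, hT1, Units.val_one, one_mul] at h
    have : Nontrivial V := Module.nontrivial_of_finrank_pos (finrank_pos_of_irreducible π)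
    have h' : (1 : ℂ) • (1 : Module.End ℂ V) = (α 1 1 : ℂ) • 1 := by rwa [one_smul]
    exact Units.ext (smul_left_injective ℂ one_ne_zero h').symm
  have hδ1 : δ 1 = 1 := by
    have := hδ 1 1
    rw [hα11, one_mul, mul_one] at this
    exact mul_eq_right.mp this
  refine ⟨{ toFun := fun g => (δ g : ℂ) • (T g : Module.End ℂ V)
            map_one' := by simp [hδ1, hT1]
            map_mul' := fun g h => ?_ }, fun n => ?_⟩
  · show _ = ((δ g : ℂ) • (T g : Module.End ℂ V)) * ((δ h : ℂ) • (T h : Module.End ℂ V))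
    rw [smul_mul_smul_comm, hα, smul_smul, ← hδ g h, Units.val_mul, Units.val_mul]
    congr 1
    ring
  · show (δ (n : G) : ℂ) • (T (n : G) : Module.End ℂ V) = π n
    have h1 := hδN 1 n
    rw [one_mul, hδ1] at h1
    have h2 := hTn 1 n
    rw [one_mul, hT1, Units.val_one, one_mul] at h2
    rw [h1, h2, Units.val_one, one_smul]

end Extend

end Cfsg.Agent.CharCore
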