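import Cfsg.Agent.Lib.CharCore.CentralSplit
import Cfsg.Agent.Lib.CharCore.Projective
import Mathlib.RingTheory.RootsOfUnity.Complex

/-!
# Invariant constituents above, for coprime layers

The finite group of operators that realise an invariant character reduces the statement to a
central extension.

Library `CharCore`, part 19.
-/

set_option autoImplicit false
set_option linter.unusedSectionVars false

open scoped ComplexConjugate

namespace Cfsg.Agent.CharCore

universe u

/-- An invariant character of `N` lies below one of `G` invariant in the whole group, for coprime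
layers of which one is solvable. -/
theorem exists_inv_over_normal {Γ : Type u} [Group Γ] [Fintype Γ] (G N : Subgroup Γ) [hG : G.Normal]
    [hN : N.Normal] [Fintype G] [Fintype N] (hNG : N ≤ G)
    (hcop : G.index.Coprime (N.relIndex G))
    (hsol : Group.IsSolvable (Γ ⧸ G) ∨ Group.IsSolvable (G ⧸ N.subgroupOf G))
    (θ : Cfsg.IrrCharacter N)
    (hinv : ∀ (x : Γ) (n : N), (θ : N → ℂ) ⟨x * n * x⁻¹, hN.conj_mem n n.2 x⟩ = (θ : N → ℂ) n) :
    ∃ χ : Cfsg.IrrCharacter G,
      Cfsg.classInner (fun n : N => (χ : G → ℂ) ⟨n, hNG n.2⟩) (θ : N → ℂ) ≠ 0 ∧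
      ∀ (x : Γ) (g : G), (χ : G → ℂ) ⟨x * g * x⁻¹, hG.conj_mem g g.2 x⟩ = (χ : G → ℂ) g := by
  classical
  obtain ⟨k, π, hπ, hπθ⟩ := θ.2
  have hinv' : ∀ (g : Γ) (n : N), π.character (MulAut.conjNormal g n) = π.character n := fun g n => by
    rw [hπθ, ← hinv g n]
    exact congrArg _ (Subtype.ext (MulAut.conjNormal_apply g n))
  obtain ⟨T, hT, hdet⟩ := exists_projExt_det π hinv'
  have hd : 0 < Module.finrank ℂ (Fin k → ℂ) := finrank_pos_of_irreducible π
  have : Nontrivial (Fin k → ℂ) := Module.nontrivial_of_finrank_pos hd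
  set d := Module.finrank ℂ (Fin k → ℂ) with hddef
  set M := Nat.card N with hMdef
  -- the finite group of intertwining operators
  let Ê : Subgroup (Γ × (Module.End ℂ (Fin k → ℂ))ˣ) :=
    { carrier := {x | (∀ n : N, (x.2 : Module.End ℂ (Fin k → ℂ)) * π n =
        π (MulAut.conjNormal x.1 n) * (x.2 : Module.End ℂ (Fin k → ℂ))) ∧
        LinearMap.det (x.2 : Module.End ℂ (Fin k → ℂ)) ^ M = 1}
      one_mem' := ⟨fun n => by simp, by simp⟩
      mul_mem' := fun {x y} hx hy => ⟨fun n => by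
        rw [Prod.snd_mul, Units.val_mul, mul_assoc, hy.1 n, ← mul_assoc, hx.1, mul_assoc,
          Prod.fst_mul, map_mul, MulAut.mul_apply],
        by rw [Prod.snd_mul, Units.val_mul, map_mul, mul_pow, hx.2, hy.2, one_mul]⟩
      inv_mem' := fun {x} hx => ⟨fun n => by
        have h := hx.1 (MulAut.conjNormal x.1⁻¹ n)
        rw [← MulAut.mul_apply, ← map_mul, mul_inv_cancel, map_one, MulAut.one_apply] at h
        rw [Prod.snd_inv, Prod.fst_inv, Units.inv_mul_eq_iff_eq_mul, ← mul_assoc, h,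
          Units.mul_inv_cancel_right],
        by
          have h : LinearMap.det (x.2 : Module.End ℂ (Fin k → ℂ)) *
              LinearMap.det ((x⁻¹).2 : Module.End ℂ (Fin k → ℂ)) = 1 := by
            rw [← map_mul, Prod.snd_inv, Units.mul_inv, map_one]
          have h2 := congrArg (· ^ M) h
          simpa [mul_pow, hx.2] using! h2⟩ }
  have hfin : Finite Ê := by
    have hNe : NeZero (d * M) := ⟨Nat.mul_ne_zero hd.ne' Nat.card_pos.ne'⟩
    have hex : ∀ x : Ê, ∃ c : rootsOfUnity (d * M) ℂ,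
        (x.1.2 : Module.End ℂ (Fin k → ℂ)) = ((c : ℂˣ) : ℂ) • (T x.1.1 : Module.End ℂ (Fin k → ℂ)) := by
      intro x
      obtain ⟨c, hc⟩ := hT.exists_smul x.1.1 x.1.2 x.2.1
      refine ⟨⟨c, ?_⟩, hc⟩
      rw [mem_rootsOfUnity]
      refine Units.ext ?_
      have h := x.2.2
      rw [hc, LinearMap.det_smul, hdet, mul_one, ← pow_mul] at h
      rw [Units.val_pow_eq_pow_val, Units.val_one]
      exact h
    choose c hc using hex
    refine Finite.of_injective (fun x : Ê => (x.1.1, c x)) fun x y h => Subtype.ext ?_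
    obtain ⟨h1, h2⟩ := Prod.mk.injEq .. ▸ h
    exact Prod.ext h1 (Units.ext (by rw [hc x, hc y, h1, h2]))
  have := Fintype.ofFinite Ê
  let pr : Ê →* Γ := (MonoidHom.fst _ _).comp Ê.subtype
  have hpr : Function.Surjective pr := fun g =>
    ⟨⟨(g, T g), hT g, by rw [hdet, one_pow]⟩, rfl⟩
  let j : N →* Ê :=
    { toFun := fun n => ⟨((n : Γ), π.toHomUnits n), fun m => by
        simp only [MonoidHom.coe_toHomUnits]
        rw [← map_mul, ← map_mul]
        congr 1
        exact Subtype.ext (by simp [mul_assoc]), by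
        rw [MonoidHom.coe_toHomUnits, ← map_pow, ← map_pow, hMdef, pow_card_eq_one', map_one,
          map_one]⟩
      map_one' := Subtype.ext (Prod.ext rfl (map_one _))
      map_mul' := fun a b => Subtype.ext (Prod.ext rfl (map_mul _ _ _)) }
  have hconj : ∀ (x : Ê) (n : N), x * j n * x⁻¹ = j (MulAut.conjNormal x.1.1 n) := fun x n => by
    refine Subtype.ext (Prod.ext ?_ (Units.ext ?_))
    · exact (MulAut.conjNormal_apply x.1.1 n).symm
    · show (x.1.2 : Module.End ℂ (Fin k → ℂ)) * π n * ((x.1.2)⁻¹ : (Module.End ℂ (Fin k → ℂ))ˣ).val = _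
      rw [x.2.1 n, Units.mul_inv_cancel_right]
      rfl
  let R : Subgroup Ê := j.range
  have : R.Normal := ⟨by rintro _ ⟨n, rfl⟩ x; exact ⟨_, (hconj x n).symm⟩⟩
  have := Fintype.ofFinite (Ê ⧸ R)
  let q : Ê →* Ê ⧸ R := QuotientGroup.mk' R
  let K : Subgroup Ê := pr.ker
  have hscal : ∀ x : K, ∃ c : ℂˣ, ((x : Ê).1.2 : Module.End ℂ (Fin k → ℂ)) = (c : ℂ) • 1 := fun x => by
    obtain ⟨c, hc⟩ := CharClifford.exists_scalar_of_commute π ((x : Ê).1.2 : Module.End ℂ (Fin k → ℂ))
      fun n => by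
        have h := (x : Ê).2.1 n
        rw [show (x : Ê).1.1 = 1 from x.2, map_one, MulAut.one_apply] at h
        exact h
    exact ⟨Units.mk0 c fun h0 => (x : Ê).1.2.ne_zero (by rw [hc, h0, zero_smul]), hc⟩
  choose c hc using hscal
  have hcuniq : ∀ {a b : ℂˣ}, (a : ℂ) • (1 : Module.End ℂ (Fin k → ℂ)) = (b : ℂ) • 1 → a = b :=
    fun h => Units.ext
      (smul_left_injective ℂ (one_ne_zero (α := Module.End ℂ (Fin k → ℂ))) h)
  let cK : K →* ℂˣ :=
    { toFun := c
      map_one' := hcuniq (by rw [← hc 1, Units.val_one, one_smul]; rfl)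
      map_mul' := fun a b => hcuniq (by
        rw [← hc, Units.val_mul, ← smul_smul, ← hc b]
        show ((a : Ê).1.2 : Module.End ℂ (Fin k → ℂ)) * _ = _
        rw [hc a, smul_mul_assoc, one_mul]) }
  have hKc : ∀ (x : K) (y : Ê), Commute (x : Ê) y := fun x y =>
    Subtype.ext (Prod.ext (by
      show (x : Ê).1.1 * y.1.1 = y.1.1 * (x : Ê).1.1
      rw [show (x : Ê).1.1 = 1 from x.2, one_mul, mul_one])
      (Units.ext (by
        show ((x : Ê).1.2 : Module.End ℂ (Fin k → ℂ)) * _ = _ * ((x : Ê).1.2 : Module.End ℂ (Fin k → ℂ))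
        rw [hc x, smul_mul_assoc, mul_smul_comm, one_mul, mul_one])))
  let Nh : Subgroup Ê := N.comap pr
  let Gh : Subgroup Ê := G.comap pr
  let Z : Subgroup (Ê ⧸ R) := Nh.map q
  let EQ : Subgroup (Ê ⧸ R) := Gh.map q
  have hRN : R ≤ Nh := by rintro _ ⟨n, rfl⟩; exact n.2
  have hNGh : Nh ≤ Gh := fun x hx => hNG hx
  have hZE : Z ≤ EQ := Subgroup.map_mono hNGh
  have : EQ.Normal := (inferInstance : Gh.Normal).map q (QuotientGroup.mk'_surjective R)
  -- `K` maps bijectively onto `Z`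
  let qK : K →* Z :=
    (q.comp K.subtype).codRestrict Z fun x =>
      Subgroup.mem_map_of_mem q (show (x : Ê).1.1 ∈ N by
        rw [show (x : Ê).1.1 = 1 from x.2]; exact one_mem N)
  have hqK : Function.Bijective qK := by
    refine ⟨(injective_iff_map_eq_one _).mpr fun x hx => ?_, ?_⟩
    · obtain ⟨n, hn⟩ := (QuotientGroup.eq_one_iff _).mp (congrArg Subtype.val hx)
      have h1 : (n : Γ) = 1 := (congrArg pr hn).trans x.2
      refine Subtype.ext (hn.symm.trans ?_)
      rw [show n = 1 from Subtype.ext h1, map_one]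
      rfl
    · rintro ⟨_, x, hx, rfl⟩
      refine ⟨⟨(j ⟨pr x, hx⟩)⁻¹ * x, ?_⟩, Subtype.ext ?_⟩
      · rw [MonoidHom.mem_ker, map_mul, map_inv]
        exact inv_mul_cancel _
      · show q ((j ⟨pr x, hx⟩)⁻¹ * x) = q x
        rw [map_mul, map_inv, show q (j ⟨pr x, hx⟩) = 1 from (QuotientGroup.eq_one_iff _).mpr ⟨_, rfl⟩,
          inv_one, one_mul]
  have hZc : Z ≤ Subgroup.center (Ê ⧸ R) := by
    intro z hz
    obtain ⟨x, hx⟩ := hqK.2 ⟨z, hz⟩
    refine Subgroup.mem_center_iff.mpr fun y => ?_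
    obtain ⟨y, rfl⟩ := QuotientGroup.mk'_surjective R y
    rw [show z = q (x : Ê) from (congrArg Subtype.val hx).symm]
    exact ((hKc x y).map q).eq.symm
  let l : Z →* ℂˣ := (cK.comp (MulEquiv.ofBijective qK hqK).symm.toMonoidHom)⁻¹
  have hl : ∀ x : K, l (qK x) = (c x)⁻¹ := fun x =>
    congrArg (fun t => (c t)⁻¹) ((MulEquiv.ofBijective qK hqK).symm_apply_apply x)
  have hGi : EQ.index = G.index := by
    rw [Subgroup.index_map_eq Gh (QuotientGroup.mk'_surjective R)
      (by rw [QuotientGroup.ker_mk']; exact hRN.trans hNGh),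
      Subgroup.index_comap_of_surjective _ hpr]
  have hZi : Z.relIndex EQ = N.relIndex G := by
    have h1 := Subgroup.relIndex_mul_index hZE
    have h2 := Subgroup.relIndex_mul_index hNG
    rw [hGi, Subgroup.index_map_eq Nh (QuotientGroup.mk'_surjective R)
      (by rw [QuotientGroup.ker_mk']; exact hRN),
      Subgroup.index_comap_of_surjective _ hpr, ← h2] at h1
    exact Nat.eq_of_mul_eq_mul_right (Nat.pos_of_ne_zero G.index_ne_zero_of_finite) h1
  have hsol' : Group.IsSolvable ((Ê ⧸ R) ⧸ EQ) ∨ Group.IsSolvable EQ := by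
    rcases hsol with h | h
    · left
      let f : (Ê ⧸ R) →* Γ ⧸ G := QuotientGroup.map R G pr fun x hx => hNG (hRN hx)
      refine Group.isSolvable_of_isSolvable_injective (G' := Γ ⧸ G)
        (f := QuotientGroup.lift EQ f fun x hx => ?_) ?_
      · obtain ⟨y, hy, rfl⟩ := hx
        exact (QuotientGroup.eq_one_iff _).mpr hy
      · refine (injective_iff_map_eq_one _).mpr fun x hx => ?_
        obtain ⟨x, rfl⟩ := QuotientGroup.mk_surjective x
        obtain ⟨y, rfl⟩ := QuotientGroup.mk_surjective x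
        exact (QuotientGroup.eq_one_iff _).mpr
          ⟨y, (QuotientGroup.eq_one_iff (pr y)).mp hx, rfl⟩
    · right
      let f : EQ →* Γ ⧸ N := (QuotientGroup.map R N pr fun x hx => hRN hx).comp EQ.subtype
      let h' : G ⧸ N.subgroupOf G →* Γ ⧸ N :=
        QuotientGroup.map (N.subgroupOf G) N G.subtype fun x hx => hx
      have : Group.IsSolvable h'.range := Group.isSolvable_of_surjective h'.rangeRestrict_surjective
      have hf : ∀ x, f x ∈ h'.range := by
        rintro ⟨_, y, hy, rfl⟩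
        exact ⟨QuotientGroup.mk ⟨pr y, hy⟩, rfl⟩
      have hker : ∀ x ∈ f.ker, (x : Ê ⧸ R) ∈ Z := by
        rintro ⟨_, y, hy, rfl⟩ hx
        exact ⟨y, (QuotientGroup.eq_one_iff (pr y)).mp hx, rfl⟩
      have : Group.IsSolvable f.ker := Group.isSolvable_of_comm fun a b => Subtype.ext (Subtype.ext
        (Subgroup.mem_center_iff.mp (hZc (hker b b.2)) ((a : EQ) : Ê ⧸ R)))
      refine Group.isSolvable_of_ker_le_range f.ker.subtype (f.codRestrict h'.range hf) ?_
      intro x hx
      exact ⟨⟨x, congrArg Subtype.val hx⟩, rfl⟩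
  obtain ⟨β, hβ, hβz, hβinv⟩ :=
    exists_inv_central EQ Z hZE hZc (by rw [hGi, hZi]; exact hcop) hsol' l
  -- back to the group of operators over `G`
  have := Fintype.ofFinite Gh
  let qG : Gh →* EQ := q.subgroupMap Gh
  have hqG : Function.Surjective qG := q.subgroupMap_surjective Gh
  have := Fintype.ofFinite EQ
  let b : Gh → ℂ := fun x => β (qG x)
  have hb : Cfsg.IsIrrCharacter Gh b := isIrrCharacter_comp_surjective hβ qG hqG
  let σ : Representation ℂ Gh (Fin k → ℂ) :=
    (Units.coeHom _).comp ((MonoidHom.snd _ _).comp (Ê.subtype.comp Gh.subtype))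
  let RG : Subgroup Gh := R.subgroupOf Gh
  have := Fintype.ofFinite RG
  have hRG : ∀ x : RG, ∃ n : N, j n = ((x : Gh) : Ê) := fun x => x.2
  have hσ : σ.IsIrreducible := by
    have hall : ∀ x : Subrepresentation π, x = ⊥ ∨ x = ⊤ := IsSimpleOrder.eq_bot_or_eq_top
    refine { exists_pair_ne := ⟨⊥, ⊤, fun h => ?_⟩, eq_bot_or_eq_top := fun U => ?_ }
    · exact (bot_ne_top : (⊥ : Subrepresentation π) ≠ ⊤)
        (Subrepresentation.toSubmodule_injective (congrArg Subrepresentation.toSubmodule h :))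
    · rcases hall ⟨U.toSubmodule, fun n v hv =>
        U.apply_mem_toSubmodule (⟨j n, hNGh (hRN ⟨n, rfl⟩)⟩ : Gh) hv⟩ with h | h
      · exact Or.inl (Subrepresentation.toSubmodule_injective
          (congrArg Subrepresentation.toSubmodule h :))
      · exact Or.inr (Subrepresentation.toSubmodule_injective
          (congrArg Subrepresentation.toSubmodule h :))
  have hτ : Cfsg.IsIrrCharacter Gh σ.character := isIrrCharacter_character σ
  have hτR : Cfsg.IsIrrCharacter RG (fun x : RG => σ.character x) := by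
    let p : RG →* N :=
      { toFun := fun x => ⟨((x : Gh) : Ê).1.1, hRN x.2⟩
        map_one' := rfl
        map_mul' := fun _ _ => rfl }
    have hp : Function.Surjective p := fun n =>
      ⟨⟨⟨j n, hNGh (hRN ⟨n, rfl⟩)⟩, n, rfl⟩, rfl⟩
    have he : (fun x : RG => σ.character x) = fun x => (θ : N → ℂ) (p x) := funext fun x => by
      obtain ⟨n, hn⟩ := hRG x
      have hpx : p x = n := Subtype.ext (congrArg (fun y : Ê => y.1.1) hn).symm
      rw [hpx, ← hπθ]
      show LinearMap.trace ℂ _ (((x : Gh) : Ê).1.2 : Module.End ℂ (Fin k → ℂ)) = _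
      rw [← hn]
      rfl
    rw [he]
    exact isIrrCharacter_comp_surjective θ.2 p hp
  have hbR : ∀ (r : RG) x, b ((r : Gh) * x) = b x := fun r x => by
    show β (qG ((r : Gh) * x)) = β (qG x)
    rw [map_mul, show qG (r : Gh) = 1 from Subtype.ext ((QuotientGroup.eq_one_iff _).mpr r.2),
      one_mul]
  have hprod := CharDeep.Ext.isIrrCharacter_mul hτ hτR hb hbR
  let prG : Gh →* G := (pr.comp Gh.subtype).codRestrict G fun x => x.2
  have hprG : Function.Surjective prG := fun g => by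
    obtain ⟨x, hx⟩ := hpr (g : Γ)
    exact ⟨⟨x, show pr x ∈ G from hx ▸ g.2⟩, Subtype.ext hx⟩
  have hkerval : ∀ y ∈ prG.ker, (b * σ.character) y = (b * σ.character) 1 := by
    intro y hy
    have hyK : (y : Ê) ∈ K := congrArg Subtype.val hy
    have h1 : qG y = Subgroup.inclusion hZE (qK ⟨y, hyK⟩) := rfl
    show β (qG y) * _ = β (qG 1) * _
    rw [h1, ← one_mul (Subgroup.inclusion hZE (qK ⟨y, hyK⟩)), hβz, hl, map_one,
      Representation.char_one]
    show β 1 * _ * LinearMap.trace ℂ _ ((y : Ê).1.2 : Module.End ℂ (Fin k → ℂ)) = _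
    rw [hc ⟨y, hyK⟩, map_smul, LinearMap.trace_one, smul_eq_mul, Units.val_inv_eq_inv_val,
      mul_assoc, inv_mul_cancel_left₀ (Units.ne_zero _)]
  obtain ⟨ψ, -, hψ, hψv⟩ :=
    IsCharacter.exists_quotient (IsIrrCharacter.isCharacter hprod) prG.ker hkerval
  let e := QuotientGroup.quotientKerEquivOfSurjective prG hprG
  have := Fintype.ofFinite (Gh ⧸ prG.ker)
  let χ : Cfsg.IrrCharacter G :=
    ⟨_, isIrrCharacter_comp_surjective (hψ hprod) e.symm.toMonoidHom e.symm.surjective⟩
  have hχ : ∀ x : Gh, (χ : G → ℂ) (prG x) = β (qG x) * σ.character x := fun x => by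
    show ψ (e.symm (prG x)) = _
    rw [show e.symm (prG x) = (x : Gh ⧸ prG.ker) from e.symm_apply_eq.mpr rfl]
    exact (hψv x).symm
  refine ⟨χ, ?_, fun x g => ?_⟩
  · have hres : (fun n : N => (χ : G → ℂ) ⟨n, hNG n.2⟩) = β 1 • (θ : N → ℂ) := funext fun n => by
      have hm : j n ∈ Gh := hNGh (hRN ⟨n, rfl⟩)
      have h := hχ ⟨j n, hm⟩
      rw [show prG ⟨j n, hm⟩ = ⟨n, hNG n.2⟩ from rfl,
        show qG ⟨j n, hm⟩ = 1 from Subtype.ext ((QuotientGroup.eq_one_iff _).mpr ⟨n, rfl⟩)] at h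
      rw [h, Pi.smul_apply, smul_eq_mul, ← hπθ]
      rfl
    rw [hres, classInner_smul_left, classInner_irr_self, mul_one]
    exact irr_apply_one_ne_zero (⟨β, hβ⟩ : Cfsg.IrrCharacter EQ)
  · obtain ⟨X, hX⟩ := hpr x
    obtain ⟨Y, hY⟩ := hprG g
    have hm : X * (Y : Ê) * X⁻¹ ∈ Gh := (inferInstance : Gh.Normal).conj_mem _ Y.2 X
    have h1 : prG ⟨_, hm⟩ = ⟨x * g * x⁻¹, hG.conj_mem g g.2 x⟩ := Subtype.ext (by
      show pr (X * (Y : Ê) * X⁻¹) = _
      rw [map_mul, map_mul, map_inv, hX, ← hY]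
      rfl)
    rw [← h1, hχ, ← hY, hχ]
    congr 1
    · refine hβinv (q X) (qG Y) _ ?_
      show q (X * (Y : Ê) * X⁻¹) = q X * q Y * (q X)⁻¹
      rw [map_mul, map_mul, map_inv]
    · show LinearMap.trace ℂ _ ((X.1.2 : Module.End ℂ (Fin k → ℂ)) * ((Y : Ê).1.2 : Module.End ℂ (Fin k → ℂ)) *
        ((X.1.2)⁻¹ : (Module.End ℂ (Fin k → ℂ))ˣ).val) = _
      rw [LinearMap.trace_mul_comm, ← mul_assoc, Units.inv_mul, one_mul]
      rfl

end Cfsg.Agent.CharCore
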