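import Cfsg.Agent.Lib.BlocksCore.Local
import Cfsg.Agent.Lib.CharClifford.Galois
import Cfsg.Agent.Blocks88.Basic
import Mathlib.RingTheory.Polynomial.Cyclotomic.Eval
import Mathlib.Algebra.Order.Chebyshev

/-!
# Integer combinations of roots of unity of prime power order

`cyc p k` is the ring generated by the roots of unity of order dividing `p ^ (k + 1)`.  We need its
Galois average `avg`, the lower bound `1` for the average square absolute value of a nonzero element,
divisibility by `p`, and, for `p = 2`, integrality and parity of the average.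

Library `CharCore`, part 24.
-/

set_option autoImplicit false

open scoped ComplexConjugate
open BigOperators

namespace Cfsg.Agent.CharCore.PPCyc

open BlocksCore

variable {p k : ℕ} {M : Ideal Cfsg.AlgInt}

/-- The roots of unity of order dividing `p ^ (k + 1)`. -/
def roots (p k : ℕ) : Set ℂ := {μ | μ ^ p ^ (k + 1) = 1}

/-- The ring they generate. -/
def cyc (p k : ℕ) : Subring ℂ := Subring.closure (roots p k)

theorem root_mem {μ : ℂ} (h : μ ^ p ^ (k + 1) = 1) : μ ∈ cyc p k := Subring.subset_closure h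

/-- Induction over the additive generators. -/
theorem cyc_induction {P : ℂ → Prop} (h0 : P 0) (hr : ∀ μ : ℂ, μ ^ p ^ (k + 1) = 1 → P μ)
    (hadd : ∀ x y, x ∈ cyc p k → y ∈ cyc p k → P x → P y → P (x + y))
    (hneg : ∀ x, x ∈ cyc p k → P x → P (-x)) {z : ℂ} (hz : z ∈ cyc p k) : P z := by
  have hz' := Subring.mem_closure_iff.mp hz
  suffices z ∈ cyc p k ∧ P z from this.2
  induction hz' using AddSubgroup.closure_induction with
  | mem x hx =>
    have : x ^ p ^ (k + 1) = 1 :=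
      (Submonoid.closure_le (S := MonoidHom.mker (powMonoidHom (α := ℂ) (p ^ (k + 1))))).mpr
        (fun y hy => hy) hx
    exact ⟨root_mem this, hr x this⟩
  | zero => exact ⟨zero_mem _, h0⟩
  | add x y hx hy ihx ihy =>
    obtain ⟨h1, h2⟩ := ihx (Subring.mem_closure_iff.mpr hx)
    obtain ⟨h3, h4⟩ := ihy (Subring.mem_closure_iff.mpr hy)
    exact ⟨add_mem h1 h3, hadd x y h1 h3 h2 h4⟩
  | neg x hx ih =>
    obtain ⟨h1, h2⟩ := ih (Subring.mem_closure_iff.mpr hx)
    exact ⟨neg_mem h1, hneg x h1 h2⟩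

theorem n_ne_zero (hp : p.Prime) : p ^ (k + 1) ≠ 0 := pow_ne_zero _ hp.ne_zero

theorem isIntegral_of_mem (hp : p.Prime) {z : ℂ} (hz : z ∈ cyc p k) : IsIntegral ℤ z := by
  refine cyc_induction isIntegral_zero (fun μ hμ => ?_) (fun _ _ _ _ h h' => h.add h')
    (fun _ _ h => h.neg) hz
  exact IsIntegral.of_pow (Nat.pos_of_ne_zero (n_ne_zero hp)) (hμ ▸ isIntegral_one)

theorem map_mem (σ : ℂ →+* ℂ) {z : ℂ} (hz : z ∈ cyc p k) : σ z ∈ cyc p k := by
  refine cyc_induction (P := fun z => σ z ∈ cyc p k) (by simp) (fun μ hμ => ?_)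
    (fun _ _ _ _ h h' => by rw [map_add]; exact add_mem h h')
    (fun _ _ h => by rw [map_neg]; exact neg_mem h) hz
  exact root_mem (by rw [← map_pow, hμ, map_one])

theorem conj_mem {z : ℂ} (hz : z ∈ cyc p k) : conj z ∈ cyc p k := map_mem (starRingEnd ℂ) hz

theorem conj_root (hp : p.Prime) {μ : ℂ} (hμ : μ ^ p ^ (k + 1) = 1) : conj μ = μ⁻¹ :=
  (Complex.inv_eq_conj (Complex.norm_eq_one_of_pow_eq_one hμ (n_ne_zero hp))).symm

theorem map_conj (hp : p.Prime) (σ : ℂ →+* ℂ) {z : ℂ} (hz : z ∈ cyc p k) :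
    σ (conj z) = conj (σ z) := by
  refine cyc_induction (P := fun z => σ (conj z) = conj (σ z)) (by simp) (fun μ hμ => ?_)
    (fun _ _ _ _ h h' => by simp only [map_add, h, h'])
    (fun _ _ h => by simp only [map_neg, h]) hz
  rw [conj_root hp hμ, map_inv₀, conj_root hp (by rw [← map_pow, hμ, map_one])]

/-- All conjugates of an element are congruent to one integer. -/
theorem exists_residue (hM : Cfsg.IsPModular p M) {z : ℂ} (hz : z ∈ cyc p k) :
    ∃ c : ℤ, ∀ σ : ℂ →+* ℂ, Cfsg.MemLocalIdeal M (σ z - c) := by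
  have := isPrime hM
  refine cyc_induction (P := fun z => ∃ c : ℤ, ∀ σ : ℂ →+* ℂ, Cfsg.MemLocalIdeal M (σ z - c))
    ⟨0, fun σ => by simpa using memLocalIdeal_zero⟩ (fun μ hμ => ⟨1, fun σ => ?_⟩) ?_ ?_ hz
  · rw [Int.cast_one]
    exact memLocalIdeal_sub_one_of_pow hM (k := k + 1) (by rw [← map_pow, hμ, map_one])
  · rintro x y - - ⟨c, hc⟩ ⟨d, hd⟩
    refine ⟨c + d, fun σ => ?_⟩
    rw [map_add, Int.cast_add, add_sub_add_comm]
    exact memLocalIdeal_add (hc σ) (hd σ)
  · rintro x - ⟨c, hc⟩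
    refine ⟨-c, fun σ => ?_⟩
    rw [map_neg, Int.cast_neg, show -σ x - -(c : ℂ) = -(σ x - c) by ring]
    exact memLocalIdeal_neg (hc σ)

/-- Membership in the local ideal is invariant under conjugation. -/
theorem map_memLocalIdeal_iff (hM : Cfsg.IsPModular p M) {z : ℂ} (hz : z ∈ cyc p k)
    (σ : ℂ →+* ℂ) : Cfsg.MemLocalIdeal M (σ z) ↔ Cfsg.MemLocalIdeal M z := by
  have := isPrime hM
  obtain ⟨c, hc⟩ := exists_residue hM hz
  have h1 := hc σ
  have h2 := hc (RingHom.id ℂ)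
  rw [RingHom.id_apply] at h2
  constructor <;> intro h
  · simpa using memLocalIdeal_add h2 (memLocalIdeal_sub h h1)
  · simpa using memLocalIdeal_add h1 (memLocalIdeal_sub h h2)

theorem conj_memLocalIdeal_iff (hM : Cfsg.IsPModular p M) {z : ℂ} (hz : z ∈ cyc p k) :
    Cfsg.MemLocalIdeal M (conj z) ↔ Cfsg.MemLocalIdeal M z :=
  map_memLocalIdeal_iff hM hz (starRingEnd ℂ)

/-! ### The Galois average -/

/-- The exponents of the Galois automorphisms. -/
def expSet (p k : ℕ) : Finset ℕ :=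
  (Finset.range (p ^ (k + 1))).filter fun e => e.Coprime (p ^ (k + 1))

theorem card_expSet (p k : ℕ) : (expSet p k).card = Nat.totient (p ^ (k + 1)) := by
  rw [Nat.totient_eq_card_coprime]
  congr 1
  exact Finset.filter_congr fun e _ => Nat.coprime_comm

theorem card_expSet_pos (hp : p.Prime) : 0 < (expSet p k).card := by
  rw [card_expSet]; exact Nat.totient_pos.mpr (Nat.pos_of_ne_zero (n_ne_zero hp))

open Classical in
/-- An endomorphism of `ℂ` raising the roots of unity to the power `e`. -/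
noncomputable def galois (p k e : ℕ) : ℂ →+* ℂ :=
  if h : p ^ (k + 1) ≠ 0 ∧ e.Coprime (p ^ (k + 1)) then
    Classical.choose (CharClifford.exists_ringHom_pow h.1 h.2)
  else RingHom.id ℂ

theorem galois_root (hp : p.Prime) {e : ℕ} (he : e ∈ expSet p k) {μ : ℂ}
    (hμ : μ ^ p ^ (k + 1) = 1) : galois p k e μ = μ ^ e := by
  have h : p ^ (k + 1) ≠ 0 ∧ e.Coprime (p ^ (k + 1)) :=
    ⟨n_ne_zero hp, (Finset.mem_filter.mp he).2⟩
  unfold galois
  rw [dif_pos h]
  exact Classical.choose_spec (CharClifford.exists_ringHom_pow h.1 h.2) μ hμ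

/-- Endomorphisms of `ℂ` permute the conjugates. -/
theorem exists_perm (hp : p.Prime) (σ : ℂ →+* ℂ) :
    ∃ π : ℕ → ℕ, (∀ e ∈ expSet p k, π e ∈ expSet p k) ∧ Set.InjOn π (expSet p k) ∧
      ∀ e ∈ expSet p k, ∀ z ∈ cyc p k, σ (galois p k e z) = galois p k (π e) z := by
  obtain ⟨m, hm, hσ⟩ := CharClifford.exists_pow_of_ringHom σ (n_ne_zero (k := k) hp)
  have hn : 0 < p ^ (k + 1) := Nat.pos_of_ne_zero (n_ne_zero hp)
  have hmem : ∀ e ∈ expSet p k, e * m % p ^ (k + 1) ∈ expSet p k := fun e he => by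
    refine Finset.mem_filter.mpr ⟨Finset.mem_range.mpr (Nat.mod_lt _ hn), ?_⟩
    rw [Nat.coprime_iff_gcd_eq_one, ← Nat.gcd_rec, Nat.gcd_comm]
    exact Nat.Coprime.mul_left (Finset.mem_filter.mp he).2 hm
  refine ⟨fun e => e * m % p ^ (k + 1), hmem, fun a ha b hb h => ?_, fun e he z hz => ?_⟩
  · have h1 : a * m ≡ b * m [MOD p ^ (k + 1)] := h
    have h2 : a ≡ b [MOD p ^ (k + 1)] :=
      Nat.ModEq.cancel_right_of_coprime (by rw [Nat.gcd_comm]; exact hm) h1
    exact h2.eq_of_lt_of_lt (Finset.mem_range.mp (Finset.mem_filter.mp ha).1)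
      (Finset.mem_range.mp (Finset.mem_filter.mp hb).1)
  · refine cyc_induction (P := fun z => σ (galois p k e z) =
      galois p k (e * m % p ^ (k + 1)) z) (by simp) (fun μ hμ => ?_)
      (fun _ _ _ _ h h' => by simp only [map_add, h, h'])
      (fun _ _ h => by simp only [map_neg, h]) hz
    rw [galois_root hp he hμ, map_pow, hσ μ hμ, galois_root hp (hmem e he) hμ, ← pow_mul,
      mul_comm m e, pow_mod_of_pow_eq_one hμ]
where
  pow_mod_of_pow_eq_one {μ : ℂ} {n a : ℕ} (h : μ ^ n = 1) : μ ^ a = μ ^ (a % n) := by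
    conv_lhs => rw [← Nat.mod_add_div a n, pow_add, pow_mul, h, one_pow, mul_one]

/-- The sum of the conjugates. -/
noncomputable def tsum (p k : ℕ) (z : ℂ) : ℂ := ∑ e ∈ expSet p k, galois p k e z

/-- The average of the conjugates (real part). -/
noncomputable def avg (p k : ℕ) (z : ℂ) : ℝ := (tsum p k z).re / (expSet p k).card

theorem tsum_add (x y : ℂ) : tsum p k (x + y) = tsum p k x + tsum p k y := by
  simp only [tsum, map_add, Finset.sum_add_distrib]

theorem tsum_neg (x : ℂ) : tsum p k (-x) = -tsum p k x := by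
  simp only [tsum, map_neg, Finset.sum_neg_distrib]

theorem tsum_zero : tsum p k 0 = 0 := by simp [tsum]

theorem tsum_sum {ι : Type*} (s : Finset ι) (f : ι → ℂ) :
    tsum p k (∑ i ∈ s, f i) = ∑ i ∈ s, tsum p k (f i) := by
  simp only [tsum, map_sum]; rw [Finset.sum_comm]

theorem tsum_intCast_mul (a : ℤ) (z : ℂ) : tsum p k ((a : ℂ) * z) = a * tsum p k z := by
  simp only [tsum, map_mul, map_intCast, Finset.mul_sum]

theorem tsum_intCast (a : ℤ) : tsum p k (a : ℂ) = ((expSet p k).card : ℂ) * a := by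
  simp [tsum]

theorem map_tsum (hp : p.Prime) (σ : ℂ →+* ℂ) {z : ℂ} (hz : z ∈ cyc p k) :
    σ (tsum p k z) = tsum p k z := by
  obtain ⟨π, hπ, hinj, he⟩ := exists_perm (k := k) hp σ
  have himg : (expSet p k).image π = expSet p k := Finset.eq_of_subset_of_card_le
    (Finset.image_subset_iff.mpr hπ) (Finset.card_image_of_injOn hinj).ge
  unfold tsum
  rw [map_sum]
  conv_rhs => rw [← himg, Finset.sum_image hinj]
  exact Finset.sum_congr rfl fun e he' => he e he' z hz

theorem avg_add (x y : ℂ) : avg p k (x + y) = avg p k x + avg p k y := by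
  simp only [avg, tsum_add, Complex.add_re, add_div]

theorem avg_neg (x : ℂ) : avg p k (-x) = -avg p k x := by
  simp only [avg, tsum_neg, Complex.neg_re, neg_div]

theorem avg_sub (x y : ℂ) : avg p k (x - y) = avg p k x - avg p k y := by
  rw [sub_eq_add_neg, avg_add, avg_neg, sub_eq_add_neg]

theorem avg_sum {ι : Type*} (s : Finset ι) (f : ι → ℂ) :
    avg p k (∑ i ∈ s, f i) = ∑ i ∈ s, avg p k (f i) := by
  simp only [avg, tsum_sum, Complex.re_sum, Finset.sum_div]

theorem avg_intCast_mul (a : ℤ) (z : ℂ) : avg p k ((a : ℂ) * z) = a * avg p k z := by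
  simp only [avg, tsum_intCast_mul, Complex.mul_re, Complex.intCast_re, Complex.intCast_im,
    zero_mul, sub_zero, mul_div_assoc]

theorem avg_natCast_mul (a : ℕ) (z : ℂ) : avg p k ((a : ℂ) * z) = a * avg p k z := by
  exact_mod_cast avg_intCast_mul (p := p) (k := k) (a : ℤ) z

theorem avg_intCast (hp : p.Prime) (a : ℤ) : avg p k (a : ℂ) = a := by
  have h : ((expSet p k).card : ℝ) ≠ 0 := by exact_mod_cast (card_expSet_pos hp).ne'
  rw [avg, tsum_intCast, Complex.mul_re, Complex.natCast_re, Complex.natCast_im, zero_mul, sub_zero,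
    Complex.intCast_re, mul_div_cancel_left₀ _ h]

theorem avg_natCast (hp : p.Prime) (a : ℕ) : avg p k (a : ℂ) = a := by
  exact_mod_cast avg_intCast (k := k) hp (a : ℤ)

theorem tsum_mul_conj (hp : p.Prime) {z : ℂ} (hz : z ∈ cyc p k) :
    tsum p k (z * conj z) = ((∑ e ∈ expSet p k, ‖galois p k e z‖ ^ 2 : ℝ) : ℂ) := by
  rw [tsum, Complex.ofReal_sum]
  refine Finset.sum_congr rfl fun e _ => ?_
  rw [map_mul, map_conj hp _ hz, Complex.mul_conj, Complex.normSq_eq_norm_sq]

theorem avg_mul_conj_nonneg (hp : p.Prime) {z : ℂ} (hz : z ∈ cyc p k) :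
    0 ≤ avg p k (z * conj z) := by
  rw [avg, tsum_mul_conj hp hz, Complex.ofReal_re]
  positivity

/-- The average square of a nonzero element is at least one. -/
theorem one_le_avg_mul_conj (hp : p.Prime) {z : ℂ} (hz : z ∈ cyc p k) (h0 : z ≠ 0) :
    1 ≤ avg p k (z * conj z) := by
  have h := Blocks88.card_le_sum_norm (expSet p k) (fun e => galois p k e z ^ 2)
    (fun e _ => (isIntegral_of_mem hp (map_mem _ hz)).pow 2)
    (fun e _ => pow_ne_zero 2 fun h => h0 ((galois p k e).injective (by rw [h, map_zero])))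
    fun σ => by
      obtain ⟨π, hπ, hinj, he⟩ := exists_perm (k := k) hp σ
      exact ⟨π, hπ, hinj, fun e he' => by rw [map_pow, he e he' z hz]⟩
  simp only [norm_pow] at h
  rw [avg, tsum_mul_conj hp hz, Complex.ofReal_re, one_le_div]
  · exact h
  · exact_mod_cast card_expSet_pos hp

/-- The square of the average is at most the average square. -/
theorem sq_avg_le (hp : p.Prime) {z : ℂ} (hz : z ∈ cyc p k) :
    avg p k z ^ 2 ≤ avg p k (z * conj z) := by
  have hc : (0 : ℝ) < (expSet p k).card := by exact_mod_cast card_expSet_pos hp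
  rw [avg, avg, tsum_mul_conj hp hz, Complex.ofReal_re, tsum, Complex.re_sum, div_pow,
    div_le_div_iff₀ (by positivity) hc]
  have h1 : (∑ e ∈ expSet p k, (galois p k e z).re) ^ 2 ≤
      (expSet p k).card * ∑ e ∈ expSet p k, ‖galois p k e z‖ ^ 2 :=
    sq_sum_le_card_mul_sum_sq.trans (mul_le_mul_of_nonneg_left (Finset.sum_le_sum fun e _ => by
      rw [Complex.sq_norm, Complex.normSq_apply]
      nlinarith [sq_nonneg (galois p k e z).im]) hc.le)
  nlinarith

/-! ### Divisibility by `p` -/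

/-- A primitive root. -/
noncomputable def zeta (p k : ℕ) : ℂ := Complex.exp (2 * Real.pi * Complex.I / (p ^ (k + 1) : ℕ))

theorem zeta_prim (hp : p.Prime) : IsPrimitiveRoot (zeta p k) (p ^ (k + 1)) :=
  Complex.isPrimitiveRoot_exp _ (n_ne_zero hp)

theorem zeta_mem (hp : p.Prime) : zeta p k ∈ cyc p k := root_mem (zeta_prim hp).pow_eq_one

theorem one_sub_zeta_mem_localIdeal (hM : Cfsg.IsPModular p M) :
    Cfsg.MemLocalIdeal M (1 - zeta p k) := by
  have := isPrime hM
  rw [← neg_sub]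
  exact memLocalIdeal_neg (memLocalIdeal_sub_one_of_pow hM (k := k + 1) (zeta_prim hM.1).pow_eq_one)

theorem one_sub_zeta_ne_zero (hp : p.Prime) : 1 - zeta p k ≠ 0 :=
  sub_ne_zero.mpr ((zeta_prim hp).ne_one (Nat.one_lt_pow (Nat.succ_ne_zero k) hp.one_lt)).symm

theorem exists_decomp (hp : p.Prime) {z : ℂ} (hz : z ∈ cyc p k) :
    ∃ c : ℤ, ∃ q ∈ cyc p k, z = c + (1 - zeta p k) * q := by
  refine cyc_induction (P := fun z => ∃ c : ℤ, ∃ q ∈ cyc p k, z = c + (1 - zeta p k) * q)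
    ⟨0, 0, zero_mem _, by simp⟩ (fun μ hμ => ?_) ?_ ?_ hz
  · have : NeZero (p ^ (k + 1)) := ⟨n_ne_zero hp⟩
    obtain ⟨j, -, rfl⟩ := (zeta_prim hp).eq_pow_of_pow_eq_one hμ
    refine ⟨1, -∑ i ∈ Finset.range j, zeta p k ^ i,
      neg_mem (sum_mem fun i _ => pow_mem (zeta_mem hp) i), ?_⟩
    rw [Int.cast_one, mul_neg, mul_neg_geom_sum]
    ring
  · rintro x y - - ⟨c, q, hq, rfl⟩ ⟨d, r, hr, rfl⟩
    exact ⟨c + d, q + r, add_mem hq hr, by push_cast; ring⟩
  · rintro x - ⟨c, q, hq, rfl⟩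
    exact ⟨-c, -q, neg_mem hq, by push_cast; ring⟩

/-- `p` is a unit times a power of `1 - ζ`. -/
theorem exists_p_eq (hp : p.Prime) :
    ∃ v ∈ cyc p k, ∃ v' ∈ cyc p k, v * v' = 1 ∧
      (p : ℂ) = (1 - zeta p k) ^ (expSet p k).card * v := by
  classical
  have hn : 0 < p ^ (k + 1) := Nat.pos_of_ne_zero (n_ne_zero hp)
  have h1 : (p : ℂ) = ∏ μ ∈ primitiveRoots (p ^ (k + 1)) ℂ, (1 - μ) := by
    have := congrArg (Polynomial.eval (1 : ℂ))
      (Polynomial.cyclotomic_eq_prod_X_sub_primitiveRoots (zeta_prim (k := k) hp))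
    rw [Polynomial.eval_prod, @Polynomial.eval_one_cyclotomic_prime_pow ℂ _ p k ⟨hp⟩] at this
    simpa using this
  have h2 : ∀ μ ∈ primitiveRoots (p ^ (k + 1)) ℂ, ∃ v ∈ cyc p k, ∃ v' ∈ cyc p k,
      v * v' = 1 ∧ 1 - μ = (1 - zeta p k) * v := by
    intro μ hμ
    rw [mem_primitiveRoots hn] at hμ
    have : NeZero (p ^ (k + 1)) := ⟨hn.ne'⟩
    obtain ⟨e, -, he⟩ := (zeta_prim (k := k) hp).eq_pow_of_pow_eq_one hμ.pow_eq_one
    obtain ⟨e', -, he'⟩ := hμ.eq_pow_of_pow_eq_one (zeta_prim (k := k) hp).pow_eq_one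
    refine ⟨∑ i ∈ Finset.range e, zeta p k ^ i, sum_mem fun i _ => pow_mem (zeta_mem hp) i,
      ∑ i ∈ Finset.range e', μ ^ i, sum_mem fun i _ => pow_mem (root_mem hμ.pow_eq_one) i, ?_, ?_⟩
    · have a1 := mul_neg_geom_sum (zeta p k) e
      have a2 := mul_neg_geom_sum μ e'
      rw [he] at a1
      rw [he'] at a2
      refine mul_left_cancel₀ (one_sub_zeta_ne_zero (k := k) hp) ?_
      rw [← mul_assoc, a1, a2, mul_one]
    · rw [mul_neg_geom_sum, he]
  choose! v hv v' hv' hvv hμv using h2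
  refine ⟨∏ μ ∈ primitiveRoots (p ^ (k + 1)) ℂ, v μ, prod_mem hv,
    ∏ μ ∈ primitiveRoots (p ^ (k + 1)) ℂ, v' μ, prod_mem hv', ?_, ?_⟩
  · rw [← Finset.prod_mul_distrib]
    exact Finset.prod_eq_one hvv
  · rw [h1, Finset.prod_congr rfl hμv, Finset.prod_mul_distrib, Finset.prod_const,
      (zeta_prim (k := k) hp).card_primitiveRoots, card_expSet]

/-- Cancelling a unit: if `z * v` is `p` times an algebraic integer then so is `z`. -/
theorem exists_eq_p_mul (hM : Cfsg.IsPModular p M) {z v w : ℂ} (hz : z ∈ cyc p k)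
    (hv : v ∈ cyc p k) (hvM : ¬ Cfsg.MemLocalIdeal M v) (hw : IsIntegral ℤ w)
    (h : z * v = (p : ℂ) * w) : ∃ q ∈ cyc p k, z = (p : ℂ) * q ∧ q * v = w := by
  have := isPrime hM
  have hp := hM.1
  obtain ⟨u, hu, u', hu', huu, hpu⟩ := exists_p_eq (k := k) hp
  set f := (expSet p k).card
  set l := 1 - zeta p k with hl
  have hl0 : l ≠ 0 := one_sub_zeta_ne_zero hp
  have hlI : Cfsg.MemLocalIdeal M l := one_sub_zeta_mem_localIdeal hM
  have hlc : l ∈ cyc p k := sub_mem (one_mem _) (zeta_mem hp)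
  have key : ∀ j ≤ f, ∃ q ∈ cyc p k, z = l ^ j * q := by
    intro j hj
    induction j with
    | zero => exact ⟨z, hz, by simp⟩
    | succ j ih =>
      obtain ⟨q, hq, hzq⟩ := ih (by omega)
      have h1 : q * v = l ^ (f - j) * (u * w) := by
        apply mul_left_cancel₀ (pow_ne_zero j hl0)
        rw [← mul_assoc, ← hzq, h, hpu, ← mul_assoc (l ^ j), ← pow_add,
          Nat.add_sub_cancel' (by omega : j ≤ f)]
        ring
      have hqI : Cfsg.MemLocalIdeal M q := by
        refine (memLocalIdeal_mem_or_mem (memLocalRing_of_isIntegral (isIntegral_of_mem hp hq))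
          (memLocalRing_of_isIntegral (isIntegral_of_mem hp hv)) ?_).resolve_right hvM
        rw [h1]
        refine memLocalIdeal_mul_right ?_
          (memLocalRing_of_isIntegral ((isIntegral_of_mem hp hu).mul hw))
        exact (memLocalIdeal_pow_iff (memLocalRing_of_memLocalIdeal hlI) (by omega)).mpr hlI
      obtain ⟨c, r, hr, hqr⟩ := exists_decomp hp hq
      have hcI : Cfsg.MemLocalIdeal M ((c : ℤ) : ℂ) := by
        have := memLocalIdeal_sub hqI (memLocalIdeal_mul_right hlI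
          (memLocalRing_of_isIntegral (isIntegral_of_mem hp hr)))
        rwa [hqr, add_sub_cancel_right] at this
      obtain ⟨c', rfl⟩ := (memLocalIdeal_intCast_iff hM c).mp hcI
      refine ⟨l ^ (f - 1) * u * c' + r,
        add_mem (mul_mem (mul_mem (pow_mem hlc _) hu) (intCast_mem _ _)) hr, ?_⟩
      rw [hzq, hqr]
      push_cast
      rw [hpu, ← hl, show l ^ f = l * l ^ (f - 1) by rw [← pow_succ', Nat.sub_add_cancel (by omega)]]
      ring
  obtain ⟨q, hq, hzq⟩ := key f le_rfl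
  have hq' : z = (p : ℂ) * (u' * q) := by
    rw [hzq, hpu]
    linear_combination -(l ^ f * q) * huu
  refine ⟨u' * q, mul_mem hu' hq, hq', mul_left_cancel₀ (Nat.cast_ne_zero.mpr hp.ne_zero) ?_⟩
  rw [← mul_assoc, ← hq', h]

theorem exists_eq_pow_mul (hM : Cfsg.IsPModular p M) {v w : ℂ} (hv : v ∈ cyc p k)
    (hvM : ¬ Cfsg.MemLocalIdeal M v) (hw : IsIntegral ℤ w) :
    ∀ (h : ℕ) {z : ℂ}, z ∈ cyc p k → z * v = (p : ℂ) ^ h * w →
      ∃ q ∈ cyc p k, z = (p : ℂ) ^ h * q ∧ q * v = w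
  | 0, z, hz, he => ⟨z, hz, by simp, by simpa using he⟩
  | h + 1, z, hz, he => by
    obtain ⟨q, hq, rfl, hqv⟩ := exists_eq_p_mul hM hz hv hvM
      (w := (p : ℂ) ^ h * w) ((isIntegral_natCast' (p : ℕ)).pow h |>.mul hw)
      (by rw [he, pow_succ']; ring)
    obtain ⟨r, hr, rfl, hrv⟩ := exists_eq_pow_mul hM hv hvM hw h hq hqv
    exact ⟨r, hr, by rw [pow_succ']; ring, hrv⟩
where
  isIntegral_natCast' (n : ℕ) : IsIntegral ℤ (n : ℂ) :=
    map_natCast (algebraMap ℤ ℂ) n ▸ isIntegral_algebraMap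

/-! ### The prime two -/

section Two

theorem expSet_two (k : ℕ) :
    expSet 2 k = (Finset.range (2 ^ k)).image fun i => 2 * i + 1 := by
  ext e
  simp only [expSet, Finset.mem_filter, Finset.mem_range, Finset.mem_image,
    Nat.coprime_pow_right_iff (Nat.succ_pos k), Nat.coprime_two_right]
  rw [pow_succ']
  constructor
  · rintro ⟨he, hodd⟩
    obtain ⟨i, rfl⟩ := hodd
    exact ⟨i, by omega, rfl⟩
  · rintro ⟨i, hi, rfl⟩
    exact ⟨by omega, odd_two_mul_add_one i⟩

theorem card_expSet_two (k : ℕ) : (expSet 2 k).card = 2 ^ k := by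
  rw [expSet_two, Finset.card_image_of_injective _ (fun a b h => by simpa using h),
    Finset.card_range]

theorem tsum_root {μ : ℂ} (hμ : μ ^ 2 ^ (k + 1) = 1) :
    tsum 2 k μ = if μ ^ 2 = 1 then (2 ^ k : ℂ) * μ else 0 := by
  have h1 : tsum 2 k μ = μ * ∑ i ∈ Finset.range (2 ^ k), (μ ^ 2) ^ i := by
    rw [tsum, Finset.sum_congr rfl fun e he => galois_root Nat.prime_two he hμ, expSet_two,
      Finset.sum_image (fun a _ b _ h => by simpa using h), Finset.mul_sum]
    exact Finset.sum_congr rfl fun i _ => by rw [← pow_mul, pow_succ']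
  rw [h1]
  split_ifs with h
  · simp [h, mul_comm]
  · have := geom_sum_mul (μ ^ 2) (2 ^ k)
    rw [← pow_mul μ, ← pow_succ', hμ, sub_self, mul_eq_zero] at this
    rw [this.resolve_right (sub_ne_zero.mpr h), mul_zero]

theorem exists_tsum_eq {z : ℂ} (hz : z ∈ cyc 2 k) : ∃ a : ℤ, tsum 2 k z = (2 ^ k : ℂ) * a := by
  refine cyc_induction (P := fun z => ∃ a : ℤ, tsum 2 k z = (2 ^ k : ℂ) * a)
    ⟨0, by simp [tsum_zero]⟩ (fun μ hμ => ?_) ?_ ?_ hz
  · rw [tsum_root hμ]
    split_ifs with h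
    · rcases sq_eq_one_iff.mp h with rfl | rfl
      · exact ⟨1, by simp⟩
      · exact ⟨-1, by simp⟩
    · exact ⟨0, by simp⟩
  · rintro x y - - ⟨a, ha⟩ ⟨b, hb⟩
    exact ⟨a + b, by rw [tsum_add, ha, hb]; push_cast; ring⟩
  · rintro x - ⟨a, ha⟩
    exact ⟨-a, by rw [tsum_neg, ha]; push_cast; ring⟩

theorem zeta_pow_half (k : ℕ) : zeta 2 k ^ 2 ^ k = -1 := by
  have h := (zeta_prim (k := k) Nat.prime_two).pow (a := 2 ^ k) (b := 2) (by positivity)
    (pow_succ 2 k)
  exact h.eq_neg_one_of_two_right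

theorem sum_tsum_root {μ : ℂ} (hμ : μ ^ 2 ^ (k + 1) = 1) :
    ∃ s : ℤ, (s = 1 ∨ s = -1) ∧
      ∑ i ∈ Finset.range (2 ^ k), tsum 2 k (μ * (zeta 2 k)⁻¹ ^ i) = (2 ^ k : ℂ) * s := by
  have hp := Nat.prime_two
  have hζ := zeta_prim (k := k) hp
  have hζ0 : zeta 2 k ≠ 0 := hζ.ne_zero (n_ne_zero hp)
  have : NeZero (2 ^ (k + 1)) := ⟨n_ne_zero hp⟩
  obtain ⟨j, hj, rfl⟩ := hζ.eq_pow_of_pow_eq_one hμ
  have hroot : ∀ i, (zeta 2 k ^ j * (zeta 2 k)⁻¹ ^ i) ^ 2 ^ (k + 1) = 1 := fun i => by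
    rw [mul_pow, pow_right_comm, hζ.pow_eq_one, one_pow, pow_right_comm, inv_pow, hζ.pow_eq_one,
      inv_one, one_pow, one_mul]
  obtain ⟨i₀, hi₀, hj₀⟩ : ∃ i₀ < 2 ^ k, j = i₀ ∨ j = i₀ + 2 ^ k := by
    rw [pow_succ] at hj
    rcases lt_or_ge j (2 ^ k) with h | h
    · exact ⟨j, h, Or.inl rfl⟩
    · exact ⟨j - 2 ^ k, by omega, Or.inr (by omega)⟩
  have hval : zeta 2 k ^ j * (zeta 2 k)⁻¹ ^ i₀ = if j = i₀ then 1 else -1 := by
    rcases hj₀ with h | h
    · rw [if_pos h, h, inv_pow, mul_inv_cancel₀ (pow_ne_zero _ hζ0)]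
    · rw [if_neg (by have := Nat.two_pow_pos k; omega), h, pow_add, zeta_pow_half, inv_pow]
      field_simp
  refine ⟨if j = i₀ then 1 else -1, by split_ifs <;> simp, ?_⟩
  rw [Finset.sum_eq_single i₀]
  · rw [tsum_root (hroot i₀), hval]
    split_ifs <;> simp_all
  · intro i hi hne
    rw [Finset.mem_range] at hi
    rw [tsum_root (hroot i), if_neg]
    intro hc
    rw [mul_pow, inv_pow, inv_pow, mul_inv_eq_one₀ (pow_ne_zero _ (pow_ne_zero _ hζ0)),
      ← pow_mul, ← pow_mul] at hc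
    have h2 : j * 2 ≡ i * 2 [MOD 2 ^ (k + 1)] := by
      have h3 := (pow_eq_pow_iff_modEq (x := hζ.isUnit (n_ne_zero hp) |>.unit)).mp
        (Units.ext (by simpa using hc))
      rwa [← orderOf_units, IsUnit.unit_spec, ← hζ.eq_orderOf] at h3
    rw [pow_succ] at h2
    have h4 : j ≡ i [MOD 2 ^ k] := Nat.ModEq.mul_right_cancel' two_ne_zero h2
    have h5 : i₀ ≡ i [MOD 2 ^ k] := by
      rcases hj₀ with h | h
      · exact h ▸ h4
      · exact Nat.add_modEq_right.symm.trans (h ▸ h4)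
    exact hne (h5.eq_of_lt_of_lt hi₀ hi).symm
  · exact fun h => absurd (Finset.mem_range.mpr hi₀) h

/-- For `p = 2` the average is an integer. -/
theorem exists_avg_eq {z : ℂ} (hz : z ∈ cyc 2 k) : ∃ a : ℤ, avg 2 k z = a := by
  obtain ⟨a, ha⟩ := exists_tsum_eq hz
  refine ⟨a, ?_⟩
  rw [avg, ha, card_expSet_two, show ((2 : ℂ) ^ k * a) = ((2 ^ k * a : ℤ) : ℂ) by push_cast; ring,
    Complex.intCast_re]
  push_cast
  field_simp

/-- For `p = 2` the average of a real element is even exactly when the element is in the ideal. -/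
theorem avg_parity (hM : Cfsg.IsPModular 2 M) {z : ℂ} (hz : z ∈ cyc 2 k) (hreal : conj z = z) :
    ∃ a : ℤ, avg 2 k z = a ∧ (2 ∣ a ↔ Cfsg.MemLocalIdeal M z) := by
  have := isPrime hM
  have hp := Nat.prime_two
  have hζ := zeta_prim (k := k) hp
  set S : ℂ → ℂ := fun z => ∑ i ∈ Finset.range (2 ^ k), tsum 2 k (z * (zeta 2 k)⁻¹ ^ i) with hS
  -- the twisted sum detects the residue
  have hres : ∃ b : ℤ, S z = (2 ^ k : ℂ) * b ∧ Cfsg.MemLocalIdeal M (z - b) := by
    refine cyc_induction (P := fun z => ∃ b : ℤ, S z = (2 ^ k : ℂ) * b ∧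
      Cfsg.MemLocalIdeal M (z - b)) ⟨0, by simp [S, tsum_zero], by simpa using memLocalIdeal_zero⟩
      (fun μ hμ => ?_) ?_ ?_ hz
    · obtain ⟨s, hs, hsum⟩ := sum_tsum_root hμ
      have h1 := memLocalIdeal_sub_one_of_pow hM (k := k + 1) hμ
      refine ⟨s, hsum, ?_⟩
      rcases hs with rfl | rfl
      · simpa using h1
      · have h2 : Cfsg.MemLocalIdeal M ((2 : ℕ) : ℂ) := (memLocalIdeal_natCast_iff hM 2).mpr dvd_rfl
        have := memLocalIdeal_add h1 h2
        convert this using 1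
        push_cast
        ring
    · rintro x y - - ⟨a, ha, ha'⟩ ⟨b, hb, hb'⟩
      refine ⟨a + b, ?_, ?_⟩
      · simp only [S, add_mul, tsum_add, Finset.sum_add_distrib] at ha hb ⊢
        rw [ha, hb]; push_cast; ring
      · rw [Int.cast_add, add_sub_add_comm]
        exact memLocalIdeal_add ha' hb'
    · rintro x - ⟨a, ha, ha'⟩
      refine ⟨-a, ?_, ?_⟩
      · simp only [S, neg_mul, tsum_neg, Finset.sum_neg_distrib] at ha ⊢
        rw [ha]; push_cast; ring
      · rw [Int.cast_neg, show -x - -(a : ℂ) = -(x - a) by ring]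
        exact memLocalIdeal_neg ha'
  -- on a real element it is the trace
  have hST : S z = tsum 2 k z := by
    have hcyc : ∀ i, z * (zeta 2 k)⁻¹ ^ i ∈ cyc 2 k := fun i => by
      refine mul_mem hz (pow_mem (root_mem ?_) i)
      rw [inv_pow, hζ.pow_eq_one, inv_one]
    set f : ℕ → ℂ := fun i => tsum 2 k (z * (zeta 2 k)⁻¹ ^ i) with hf
    have hanti : ∀ i ≤ 2 ^ k, f (2 ^ k - i) = -f i := by
      intro i hi
      have hζ0 : zeta 2 k ≠ 0 := hζ.ne_zero (n_ne_zero hp)
      have h1 : f i = tsum 2 k (z * zeta 2 k ^ i) := by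
        have h2 := (map_tsum hp (starRingEnd ℂ) (hcyc i)).symm
        rw [hf]; simp only
        rw [h2, tsum, map_sum]
        refine Finset.sum_congr rfl fun e _ => ?_
        rw [← map_conj hp (galois 2 k e) (hcyc i), map_mul, map_pow, hreal,
          conj_root hp (μ := (zeta 2 k)⁻¹) (by rw [inv_pow, hζ.pow_eq_one, inv_one]), inv_inv]
      rw [h1, ← tsum_neg]
      simp only [hf]
      congr 1
      rw [inv_pow, pow_sub₀ _ hζ0 hi, zeta_pow_half, mul_inv, inv_inv]
      ring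
    show ∑ i ∈ Finset.range (2 ^ k), f i = _
    have h0 : f 0 = tsum 2 k z := by simp [hf]
    rw [← h0, ← Finset.sum_erase_add _ _ (Finset.mem_range.mpr (Nat.two_pow_pos k) :
      0 ∈ Finset.range (2 ^ k))]
    have hR : ∑ i ∈ (Finset.range (2 ^ k)).erase 0, f i =
        -∑ i ∈ (Finset.range (2 ^ k)).erase 0, f i := by
      rw [← Finset.sum_neg_distrib]
      refine Finset.sum_nbij' (fun i => 2 ^ k - i) (fun i => 2 ^ k - i) ?_ ?_ ?_ ?_ ?_
      · intro i hi; simp only [Finset.mem_coe, Finset.mem_erase, Finset.mem_range] at hi ⊢; omega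
      · intro i hi; simp only [Finset.mem_coe, Finset.mem_erase, Finset.mem_range] at hi ⊢; omega
      · intro i hi; simp only [Finset.mem_coe, Finset.mem_erase, Finset.mem_range] at hi; omega
      · intro i hi; simp only [Finset.mem_coe, Finset.mem_erase, Finset.mem_range] at hi; omega
      · intro i hi
        simp only [Finset.mem_erase, Finset.mem_range] at hi
        rw [hanti i (by omega), neg_neg]
    have h2 := add_eq_zero_iff_eq_neg.mpr hR
    rw [← two_mul, mul_eq_zero] at h2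
    rw [h2.resolve_left two_ne_zero, zero_add]
  obtain ⟨b, hb, hb'⟩ := hres
  refine ⟨b, ?_, ?_⟩
  · rw [avg, ← hST, hb, card_expSet_two,
      show ((2 : ℂ) ^ k * b) = ((2 ^ k * b : ℤ) : ℂ) by push_cast; ring, Complex.intCast_re]
    push_cast
    field_simp
  · rw [show (2 : ℤ) = ((2 : ℕ) : ℤ) from rfl, ← (memLocalIdeal_intCast_iff hM b)]
    constructor <;> intro h
    · simpa using memLocalIdeal_add hb' h
    · simpa using memLocalIdeal_sub h hb'

end Two

end Cfsg.Agent.CharCore.PPCyc
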